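import Groth.Agent.L14.DefLift.LocTriv.FirstOrder
import Groth.Agent.L14.DefLift.SchGlue
import Groth.Agent.L22.PDual.ExtSheafHom
import Groth.Agent.L21.Duality.Omega

/-! # Rigidity of smooth schemes -/

set_option autoImplicit false
set_option linter.style.haveILetI false
set_option linter.unusedSectionVars false
set_option backward.isDefEq.respectTransparency.types false
set_option backward.isDefEq.respectTransparency false

universe u

open CategoryTheory CategoryTheory.Limits AlgebraicGeometry TopologicalSpace Opposite ArtFun ArtFun.Art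

noncomputable section

namespace Groth.L14.LocTriv

/-- Differentials of a smooth morphism are finite locally free. -/
theorem isFinLocFree_omega' {X S : Scheme.{u}} (p : X ⟶ S) [QuasiSeparated p] [Smooth p] : FlatMod.IsFinLocFree (Omega.sheaf p) := by
  intro x
  obtain ⟨V, hV, U, hU, hxU, e, hf⟩ := Smooth.exists_isStandardSmooth p x
  letI : Algebra Γ(S, V) Γ(X, U) := (p.appLE V U e).hom.toAlgebra
  haveI : Algebra.IsStandardSmooth Γ(S, V) Γ(X, U) := hf
  haveI : Nontrivial Γ(X, U) := (X.presheaf.germ U x hxU).hom.domain_nontrivial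
  haveI : Module.Finite Γ(X, U) Ω[Γ(X, U)⁄Γ(S, V)] := inferInstance
  haveI : Module.Free Γ(X, U) Ω[Γ(X, U)⁄Γ(S, V)] := inferInstance
  obtain ⟨i, -⟩ := Groth.L19.OmegaSh.exists_chart_affine
    (Groth.L19.OmegaSh.isUniversal_dOmega (f := p)) hU hV e
  let b := Module.finBasis Γ(X, U) Ω[Γ(X, U)⁄Γ(S, V)]
  let j : (Omega.sheaf p).restrict hU.fromSpec ≅ FlatMod.freeMod (Spec Γ(X, U)) _ :=
    i ≪≫ (tilde.functor Γ(X, U)).mapIso (b.reindex Equiv.ulift.symm).repr.toModuleIso ≪≫
      Groth.L19.PullChart.freeTildeIso Γ(X, U) _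
  exact ⟨hU.fromSpec.opensRange, _, by rw [hU.opensRange_fromSpec]; exact hxU,
    Groth.L19.PullChart.exists_free_of_chart _ _ j⟩

variable {k : Type u} [Field k] {X : Scheme.{u}} [X.Over (Spec (CommRingCat.of k))]
  [IsSeparated (X ↘ Spec (CommRingCat.of k))] [LocallyOfFiniteType (X ↘ Spec (CommRingCat.of k))]
  [Smooth (X ↘ Spec (CommRingCat.of k))]

/-- `Ext` of the differentials is cohomology of the sheaf of derivations. -/
theorem exists_ext_equiv [HasExt.{u} X.Modules] (n : ℕ) :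
    Nonempty (Abelian.Ext.{u} (Omega.sheaf (X ↘ Spec (CommRingCat.of k))) (Coh.structureModule X) n ≃
      Coh.HH X (tgt k X) n) := by
  haveI : DCoh.HasSheafHom (Omega.sheaf (X ↘ Spec (CommRingCat.of k))) := Groth.L00.Tensor.dcoh_hasSheafHom _
  obtain ⟨e⟩ := Groth.L22.PDual.nonempty_ext_linearEquiv (k := k) (Omega.sheaf (X ↘ Spec (CommRingCat.of k)))
    (isFinLocFree_omega' (X ↘ Spec (CommRingCat.of k))) n (Coh.structureModule X)
  obtain ⟨e'⟩ := exists_hh_equiv (k := k) (X := X) n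
  exact ⟨e.toEquiv.trans e'.symm.toEquiv⟩

variable (k X) in
/-- The class of the trivial deformation. -/
abbrev trivCl (A : Art k k) : (defFunctor (Λ := k) X (X ↘ Spec (CommRingCat.of k))).obj A :=
  (defFunctor (Λ := k) X (X ↘ Spec (CommRingCat.of k))).map (ofBase A) (slf (X ↘ Spec (CommRingCat.of k))).cl

theorem ofBase_comp {A B : Art k k} (p : B ⟶ A) : ofBase B ≫ p = ofBase A :=
  Groth.L12.hom_ext fun c => ofBase_apply p c

theorem map_trivCl {A B : Art k k} (p : B ⟶ A) :
    (defFunctor (Λ := k) X (X ↘ Spec (CommRingCat.of k))).map p (trivCl k X B) = trivCl k X A := by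
  unfold trivCl
  rw [← FunctorToTypes.map_comp_apply, ofBase_comp]

/-- Deformations trivial after a small extension are trivial. -/
theorem eq_triv_of_small (h1 : Subsingleton (Coh.HH X (tgt k X) 1)) {A B : Art k k} (p : B ⟶ A)
    (hp : Art.IsSemismallExt p) (D : DefSch X (X ↘ Spec (CommRingCat.of k)) B)
    (hD : (defFunctor (Λ := k) X (X ↘ Spec (CommRingCat.of k))).map p D.cl = trivCl k X A) :
    D.cl = trivCl k X B := by
  obtain ⟨S, b, hS, hSp, -⟩ := exists_socBasis p hp
  let Y := (slf (X ↘ Spec (CommRingCat.of k))).baseChange (ofBase A)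
  let D₀ := (slf (X ↘ Spec (CommRingCat.of k))).baseChange (ofBase B)
  obtain ⟨e⟩ := Quotient.exact hD
  obtain ⟨e₀⟩ := Quotient.exact (show (D₀.baseChange p).cl = Y.cl from map_trivCl p)
  obtain ⟨Φ, -, hΦi, -⟩ := exists_extClass hp.1 S hS hSp (ExtD.ofPair ⟨D₀, e₀⟩)
  haveI := h1
  obtain ⟨g, hgf, hgi, -⟩ := (hΦi (ExtD.ofPair ⟨D, e⟩) (ExtD.ofPair ⟨D₀, e₀⟩)).1 (Subsingleton.elim _ _)
  exact Groth.L14.DefLift.cl_eq_of_hom g hgf hgi

/-- If `H¹(T) = 0`, all deformations are trivial. -/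
theorem eq_triv (h1 : Subsingleton (Coh.HH X (tgt k X) 1)) (A : Art k k)
    (D : DefSch X (X ↘ Spec (CommRingCat.of k)) A) : D.cl = trivCl k X A := by
  refine Groth.L12.surjective_induction (Λ := k) (k := k) (fun A' B p => ∀ q : (defFunctor (Λ := k) X (X ↘ Spec (CommRingCat.of k))).obj B,
    (defFunctor (Λ := k) X (X ↘ Spec (CommRingCat.of k))).map p q = trivCl k X A' → q = trivCl k X B)
    (fun A' B p hp q hq => ?_) (fun A' B p hp q hq => ?_) (fun A' B C p q hp hq z hz => ?_)
    (toBase A) A.res_surjective D.cl ?_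
  · rw [show q = (defFunctor (Λ := k) X (X ↘ Spec (CommRingCat.of k))).map (inv p)
      ((defFunctor (Λ := k) X (X ↘ Spec (CommRingCat.of k))).map p q) by
        rw [← FunctorToTypes.map_comp_apply, IsIso.hom_inv_id, FunctorToTypes.map_id_apply], hq, map_trivCl]
  · induction q using Quotient.inductionOn with
    | h D => exact eq_triv_of_small h1 p hp.isSemismallExt D hq
  · refine hp z (hq _ ?_)
    rw [← FunctorToTypes.map_comp_apply, hz]
  · exact (Groth.L14.DefLift.h0_sch X (X ↘ Spec (CommRingCat.of k))).2.elim _ _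

/-- If all first-order deformations are trivial then `H¹(T) = 0`. -/
theorem subsingleton_of_firstOrder
    (h : ∀ D : DefSch X (X ↘ Spec (CommRingCat.of k)) (dual k k), D.cl = trivCl k X (dual k k)) :
    Subsingleton (Coh.HH X (tgt k X) 1) := by
  let ξ₀ := (slf (X ↘ Spec (CommRingCat.of k))).baseChange (ofBase (dual k k))
  obtain ⟨Φ, hΦs, hΦi, -⟩ := exists_extClass (dual k k).res_surjective (S₁ k) toBase_ker_le toBase_εd (extOf ξ₀)
  refine ⟨fun a b => ?_⟩
  obtain ⟨E, hE⟩ := hΦs fun _ => a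
  obtain ⟨E', hE'⟩ := hΦs fun _ => b
  obtain ⟨D, rfl⟩ := extOf_surjective E
  obtain ⟨D', rfl⟩ := extOf_surjective E'
  have e := (hΦi (extOf D) (extOf D')).2 ((iso'_iff_cl D D').2 ((h D).trans (h D').symm))
  exact congrFun (hE.symm.trans (e.trans hE')) ⟨0, Nat.one_pos⟩

set_option maxHeartbeats 800000 in
/-- Rigidity is the vanishing of `Ext¹(Ω, O)`. -/
theorem rigid_iff [HasExt.{u} X.Modules] :
    (∀ (A : Type u) [CommRing A] [Algebra k A] [IsLocalRing A] [IsArtinianRing A] (e : A →ₐ[k] k)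
        (Y : Scheme.{u}) (f : Y ⟶ Spec (CommRingCat.of A)) (i : X ⟶ Y), Flat f →
        IsPullback i (X ↘ Spec (CommRingCat.of k)) f (Spec.map (CommRingCat.ofHom e.toRingHom)) →
        ∃ φ : Y ≅ pullback (X ↘ Spec (CommRingCat.of k)) (Spec.map (CommRingCat.ofHom (algebraMap k A))),
          φ.hom ≫ pullback.snd _ _ = f ∧ i ≫ φ.hom ≫ pullback.fst _ _ = 𝟙 X) ↔
    Subsingleton (Abelian.Ext.{u} (Omega.sheaf (X ↘ Spec (CommRingCat.of k))) (Coh.structureModule X) 1) := by
  obtain ⟨e₁⟩ := exists_ext_equiv (k := k) (X := X) 1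
  rw [e₁.subsingleton_congr]
  constructor
  · intro h
    refine subsingleton_of_firstOrder fun D => ?_
    obtain ⟨φ, hφf, hφi⟩ := h (dual k k) (dual k k).res D.total D.f D.i D.flat D.isPullback
    refine Quotient.sound ⟨⟨φ, hφf, pullback.hom_ext ?_ ?_⟩⟩
    · rw [Category.assoc]
      refine hφi.trans ?_
      exact (DefSch.baseChange_i_fst (slf (X ↘ Spec (CommRingCat.of k))) _).symm
    · rw [Category.assoc]
      refine (congrArg (D.i ≫ ·) hφf).trans (D.i_f.trans ?_)
      exact (DefSch.baseChange_i_f (slf (X ↘ Spec (CommRingCat.of k))) _).symm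
  · intro h A _ _ _ _ e Y f i hf hpb
    let A₀ : Art k k := Art.of A e fun c => ⟨algebraMap k A c, e.commutes c⟩
    let D : DefSch X (X ↘ Spec (CommRingCat.of k)) A₀ :=
      { total := Y, f := f, flat := hf, i := i, isPullback := hpb }
    obtain ⟨ψ⟩ := Quotient.exact (eq_triv h A₀ D)
    refine ⟨ψ.iso, ψ.hom_f, ?_⟩
    show i ≫ ψ.iso.hom ≫ pullback.fst _ _ = _
    rw [← Category.assoc]
    exact (congrArg (· ≫ pullback.fst _ _) ψ.i_hom).trans
      (DefSch.baseChange_i_fst (slf (X ↘ Spec (CommRingCat.of k))) _)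

end Groth.L14.LocTriv
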