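import Groth.Agent.L14.DefLift.LocTriv.Ring
import Groth.Agent.L16.HomSh.Coherent
import Groth.Agent.L15.OmegaCoh

/-! # Sections of `Hom(Ω, N)` as derivations -/

set_option autoImplicit false
set_option linter.style.haveILetI false
set_option linter.unusedSectionVars false
set_option backward.isDefEq.respectTransparency.types false
set_option backward.isDefEq.respectTransparency false

universe u

open CategoryTheory CategoryTheory.Limits AlgebraicGeometry TopologicalSpace Opposite ArtFun ArtFun.Art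

noncomputable section

namespace Groth.L14.LocTriv

open Groth.L18.Frame (rs ro rs_rs rs_self rs_smul)
open Groth.L16.HomSh (homMod secEquiv ev ev_rs secEquiv_rs exists_linearEquiv)
open OmegaSh (dSect dSect_add dSect_mul dSect_map)

variable {k : Type u} [Field k] {X : Scheme.{u}} (x : X ⟶ specPt k) [QuasiSeparated x] (N : X.Modules)

/-- The sheaf of derivations. -/
abbrev tanMod : X.Modules := homMod (Omega.sheaf x) N

variable {N}

/-- The derivation of a section. -/
def secDer {U : X.Opens} (s : Γ(tanMod x N, U)) (a : Γ(X, U)) : Γ(N, U) :=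
  ev (secEquiv U s) le_rfl (dSect x U a)

theorem secDer_add {U : X.Opens} (s t : Γ(tanMod x N, U)) (a : Γ(X, U)) :
    secDer x (s + t) a = secDer x s a + secDer x t a := by
  rw [secDer, secDer, secDer, map_add]
  rfl

theorem secDer_smul {U : X.Opens} (r : Γ(X, U)) (s : Γ(tanMod x N, U)) (a : Γ(X, U)) :
    secDer x (r • s) a = r • secDer x s a := by
  rw [secDer, secDer, map_smul]
  show ev (r • secEquiv U s) le_rfl (dSect x U a) = _
  rw [Groth.L16.HomSh.ev_smulSec, Groth.L18.Frame.ro_self]

theorem secDer_rs {U V : X.Opens} (h : V ≤ U) (s : Γ(tanMod x N, U)) (a : Γ(X, U)) :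
    secDer x (rs (tanMod x N) h s) (ro h a) = rs N h (secDer x s a) := by
  rw [secDer, secDer, secEquiv_rs h s le_rfl, ev_rs]
  exact congrArg (ev (secEquiv U s) h) (dSect_map x h a)

/-- Derivations into the sections of a module. -/
structure IsDerN (U : X.Opens) (D : Γ(X, U) → Γ(N, U)) : Prop where
  add : ∀ a b, D (a + b) = D a + D b
  mul : ∀ a b, D (a * b) = a • D b + b • D a
  base : ∀ c, D (cU x U c) = 0

theorem isDerN_secDer {U : X.Opens} (s : Γ(tanMod x N, U)) : IsDerN x U (secDer x s) where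
  add a b := by rw [secDer, secDer, secDer, dSect_add, map_add]
  mul a b := by
    rw [secDer, secDer, secDer, dSect_mul, map_add, Groth.L16.HomSh.ev_smul, Groth.L16.HomSh.ev_smul]
  base c := by
    rw [secDer, show dSect x U (cU x U c) = 0 from OmAff.dSect_appLE x ⊤ U le_top _, map_zero]

variable [LocallyOfFiniteType x]

theorem secDer_injective (U : X.affineOpens) :
    Function.Injective (secDer x : Γ(tanMod x N, U.1) → Γ(X, U.1) → Γ(N, U.1)) := by
  intro s t h
  haveI := Groth.L19.OmegaSh.isIso_toSect x U ⟨⊤, isAffineOpen_top _⟩ le_top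
  haveI : Coh.IsQCoh (Omega.sheaf x) := by
    exact (Groth.L15.OmegaCoh.isCoh_omega x).1
  obtain ⟨e, he⟩ := exists_linearEquiv (M := Omega.sheaf x) (N := N) U.2
  refine e.injective (LinearMap.ext fun m => ?_)
  obtain ⟨m, rfl⟩ := (ConcreteCategory.bijective_of_isIso (OmAff.toSect x ⊤ U.1 le_top)).2 m
  have hcomp : ModuleCat.ofHom ((e s).comp (OmAff.toSect x ⊤ U.1 le_top).hom) =
      ModuleCat.ofHom ((e t).comp (OmAff.toSect x ⊤ U.1 le_top).hom) :=
    CommRingCat.KaehlerDifferential.ext fun b => by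
      show e s _ = e t _
      rw [OmAff.toSect_d, he, he]
      exact congrFun h b
  exact LinearMap.congr_fun (congrArg ModuleCat.Hom.hom hcomp) m

theorem exists_secDer_eq (U : X.affineOpens) {D : Γ(X, U.1) → Γ(N, U.1)} (hD : IsDerN x U.1 D) :
    ∃ s : Γ(tanMod x N, U.1), secDer x s = D := by
  haveI := Groth.L19.OmegaSh.isIso_toSect x U ⟨⊤, isAffineOpen_top _⟩ le_top
  haveI : Coh.IsQCoh (Omega.sheaf x) := (Groth.L15.OmegaCoh.isCoh_omega x).1
  obtain ⟨e, he⟩ := exists_linearEquiv (M := Omega.sheaf x) (N := N) U.2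
  let φ := x.appLE ⊤ U.1 le_top
  let δ : (OmAff.sectMod N U.1).Derivation φ :=
    ModuleCat.Derivation.mk (fun b => D b) (fun a b => hD.add a b) (fun a b => hD.mul a b) (fun c => by
      obtain ⟨c, rfl⟩ := (ConcreteCategory.bijective_of_isIso (Scheme.ΓSpecIso (CommRingCat.of k)).inv).2 c
      exact hD.base c)
  let L := inv (OmAff.toSect x ⊤ U.1 le_top) ≫ δ.desc
  refine ⟨e.symm L.hom, funext fun a => ?_⟩
  rw [secDer, ← he, e.apply_symm_apply, ← OmAff.toSect_d x ⊤ U.1 le_top a]
  show (OmAff.toSect x ⊤ U.1 le_top ≫ inv (OmAff.toSect x ⊤ U.1 le_top) ≫ δ.desc) _ = D a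
  rw [IsIso.hom_inv_id_assoc]
  exact ModuleCat.Derivation.desc_d δ a

end Groth.L14.LocTriv
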