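import Groth.Agent.L14.DefLift.LocTriv.Ring
import Groth.Agent.L14.DefLift.Glue
import Mathlib.AlgebraicGeometry.Morphisms.Smooth
import Mathlib.RingTheory.TensorProduct.Free

/-! # Existence of local morphisms for smooth schemes -/

set_option autoImplicit false
set_option linter.style.haveILetI false
set_option linter.unusedSectionVars false
set_option backward.isDefEq.respectTransparency.types false
set_option backward.isDefEq.respectTransparency false

universe u

open CategoryTheory CategoryTheory.Limits AlgebraicGeometry TopologicalSpace Opposite ArtFun ArtFun.Art TensorProduct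

noncomputable section

namespace Groth.L14.LocTriv

open Groth.L18.Frame (ro)
open Groth.L14.DefLift (Defo exists_basis)

variable {k : Type u} [Field k] {X : Scheme.{u}} {x : X ⟶ specPt k} {A A' : Art k k}

instance flat_x : Flat x := inferInstance

variable (x) in
/-- The scheme over the field as a deformation. -/
abbrev slf : DefSch X x (Art.base k k) := DefSch.self X x inferInstance

theorem vOf_slf (U : X.Opens) : vOf (slf x) U = U :=
  (eq_vOf (slf x) (U := U) (V := U) rfl).symm

theorem red_slf_injective (U : X.affineOpens) : Function.Injective (red (slf x) U.1) := by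
  rw [injective_iff_map_eq_zero]
  intro r hr
  rw [red_eq_zero_iff] at hr
  have hm : IsLocalRing.maximalIdeal (Art.base k k) = ⊥ := by
    refine (Submodule.eq_bot_iff _).2 fun a ha => ?_
    exact (Art.mem_maximalIdeal_iff (Art.base k k) a).1 ha
  rwa [hm, Ideal.map_bot, Ideal.mem_bot] at hr

/-- Identification of the functions of the trivial deformation over the field. -/
def slfEquiv (U : X.affineOpens) : R (slf x) U.1 ≃+* Γ(X, U.1) :=
  RingEquiv.ofBijective _ ⟨red_slf_injective U, red_surjective (slf x) U⟩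

/-- A splitting. -/
abbrev Spl (ξ : DefSch X x A) (U : X.affineOpens) : Type u := LocHom (ofBase A) (slf x) ξ U

section Split

variable {ξ : DefSch X x A} {ξ' : DefSch X x A'} {U : X.affineOpens}

/-- A splitting from a section of the reduction. -/
def splOf (σ : Γ(X, U.1) →+* R ξ U.1) (hσ : ∀ c, σ (cU x U.1 c) = rB ξ U.1 (algebraMap k A c))
    (hred : ∀ b, red ξ U.1 (σ b) = b) : Spl ξ U where
  hom := σ.comp (red (slf x) U.1)
  hom_rB a := by
    rw [RingHom.comp_apply, red_rB]
    exact hσ a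
  red_hom r := hred _

/-- The section of a splitting. -/
def Spl.sec (s : Spl ξ U) : Γ(X, U.1) →+* R ξ U.1 := s.hom.comp (slfEquiv U).symm.toRingHom

theorem Spl.sec_red (s : Spl ξ U) (r : R (slf x) U.1) : s.sec (red (slf x) U.1 r) = s.hom r :=
  congrArg s.hom ((slfEquiv U).symm_apply_apply r)

theorem Spl.sec_cU (s : Spl ξ U) (c : k) : s.sec (cU x U.1 c) = rB ξ U.1 (algebraMap k A c) := by
  rw [show cU x U.1 c = red (slf x) U.1 (rB (slf x) U.1 c) from (red_rB (slf x) U.1 c).symm, Spl.sec_red, s.hom_rB]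
  rfl

theorem Spl.red_sec (s : Spl ξ U) (b : Γ(X, U.1)) : red ξ U.1 (s.sec b) = b :=
  (s.red_hom _).trans ((slfEquiv U).apply_symm_apply b)

theorem exists_adapted_basis (s : Spl ξ U) :
    letI : Algebra A (R ξ U.1) := (rB ξ U.1).toAlgebra
    letI : Algebra k Γ(X, U.1) := (cU x U.1).toAlgebra
    ∃ b : Module.Basis (Module.Basis.ofVectorSpaceIndex k Γ(X, U.1)) A (R ξ U.1),
      ∀ j, b j = s.sec (Module.Basis.ofVectorSpace k Γ(X, U.1) j) := by
  letI : Algebra A (R ξ U.1) := (rB ξ U.1).toAlgebra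
  letI : Algebra k Γ(X, U.1) := (cU x U.1).toAlgebra
  let D : Defo Γ(X, U.1) A A.res.toRingHom :=
    { B := R ξ U.1
      flat := rB_flat ξ U
      β := red ξ U.1
      surj := red_surjective ξ U
      comm := fun a => red_rB ξ U.1 a
      ker_eq := Ideal.ext fun r => by
        rw [RingHom.mem_ker, red_eq_zero_iff]
        rw [show IsLocalRing.maximalIdeal A = RingHom.ker A.res.toRingHom from
          Ideal.ext fun a => (Art.mem_maximalIdeal_iff A a)]
        rfl }
  obtain ⟨b, hb⟩ := exists_basis D (Module.Basis.ofVectorSpace k Γ(X, U.1))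
    (fun j => s.sec (Module.Basis.ofVectorSpace k Γ(X, U.1) j)) fun j => s.red_sec _
  exact ⟨b, fun j => congrFun hb j⟩

variable {μ : A ⟶ A'}

theorem ofBase_apply (μ : A ⟶ A') (c : k) : μ (algebraMap k A c) = algebraMap k A' c := μ.toAlgHom.commutes c

/-- Morphisms out of a split deformation. -/
theorem exists_of_spl (μ : A ⟶ A') (s : Spl ξ U) (s' : Spl ξ' U) :
    ∃ θ : LocHom μ ξ ξ' U, ∀ r, θ.hom (s.hom r) = s'.hom r := by
  classical
  letI : Algebra A (R ξ U.1) := (rB ξ U.1).toAlgebra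
  letI : Algebra k Γ(X, U.1) := (cU x U.1).toAlgebra
  letI : Algebra k (R ξ U.1) := ((rB ξ U.1).comp (algebraMap k A)).toAlgebra
  haveI : IsScalarTower k A (R ξ U.1) := IsScalarTower.of_algebraMap_eq fun _ => rfl
  letI : Algebra A (R ξ' U.1) := ((rB ξ' U.1).comp μ.toAlgHom.toRingHom).toAlgebra
  letI : Algebra k (R ξ' U.1) := ((rB ξ' U.1).comp (algebraMap k A')).toAlgebra
  haveI : IsScalarTower k A (R ξ' U.1) := IsScalarTower.of_algebraMap_eq fun c => by
    show rB ξ' U.1 (algebraMap k A' c) = rB ξ' U.1 (μ (algebraMap k A c))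
    rw [ofBase_apply]
  let σ : Γ(X, U.1) →ₐ[k] R ξ U.1 := { s.sec with commutes' := fun c => s.sec_cU c }
  let σ' : Γ(X, U.1) →ₐ[k] R ξ' U.1 := { s'.sec with commutes' := fun c => s'.sec_cU c }
  let Ψ : A ⊗[k] Γ(X, U.1) →ₐ[A] R ξ U.1 :=
    Algebra.TensorProduct.lift (Algebra.ofId A _) σ fun _ _ => Commute.all _ _
  let Φ : A ⊗[k] Γ(X, U.1) →ₐ[A] R ξ' U.1 :=
    Algebra.TensorProduct.lift (Algebra.ofId A _) σ' fun _ _ => Commute.all _ _
  obtain ⟨b, hb⟩ := exists_adapted_basis s
  let v := Module.Basis.ofVectorSpace k Γ(X, U.1)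
  have hL : Ψ.toLinearMap = ((Algebra.TensorProduct.basis A v).equiv b (Equiv.refl _)).toLinearMap :=
    (Algebra.TensorProduct.basis A v).ext fun j => by
      rw [LinearEquiv.coe_coe, Module.Basis.equiv_apply, Equiv.refl_apply, hb, AlgHom.toLinearMap_apply,
        Algebra.TensorProduct.basis_apply, Algebra.TensorProduct.lift_tmul, map_one, one_mul]
      rfl
  have hbij : Function.Bijective Ψ := by
    show Function.Bijective Ψ.toLinearMap
    rw [hL]
    exact LinearEquiv.bijective _
  let e := AlgEquiv.ofBijective Ψ hbij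
  let g : R ξ U.1 →ₐ[A] R ξ' U.1 := Φ.comp e.symm.toAlgHom
  have hred : ∀ z, red ξ' U.1 (Φ z) = red ξ U.1 (Ψ z) := by
    intro z
    induction z using TensorProduct.induction_on with
    | zero => simp
    | tmul a b =>
      rw [Algebra.TensorProduct.lift_tmul, Algebra.TensorProduct.lift_tmul, map_mul, map_mul]
      show red ξ' U.1 (rB ξ' U.1 (μ a)) * red ξ' U.1 (s'.sec b) = red ξ U.1 (rB ξ U.1 a) * red ξ U.1 (s.sec b)
      rw [red_rB, red_rB, Spl.red_sec, Spl.red_sec, show A'.res (μ a) = A.res a from Art.res_app μ a]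
    | add p q hp hq => rw [map_add, map_add, map_add, map_add, hp, hq]
  refine ⟨⟨g.toRingHom, fun a => g.commutes a, fun r => ?_⟩, fun r => ?_⟩
  · show red ξ' U.1 (Φ (e.symm r)) = _
    rw [hred]
    exact congrArg _ (e.apply_symm_apply r)
  · show Φ (e.symm (s.hom r)) = _
    rw [← s.sec_red, ← s'.sec_red]
    have : e.symm (s.sec (red (slf x) U.1 r)) = 1 ⊗ₜ[k] red (slf x) U.1 r := by
      rw [AlgEquiv.symm_apply_eq]
      exact (((Algebra.TensorProduct.lift_tmul _ _ _ _ _).trans (by rw [map_one, one_mul]; rfl)) :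
        Ψ (1 ⊗ₜ[k] red (slf x) U.1 r) = s.sec (red (slf x) U.1 r)).symm
    rw [this, Algebra.TensorProduct.lift_tmul, map_one, one_mul]
    rfl

theorem ext_of_spl (s : Spl ξ U) {θ θ' : LocHom μ ξ ξ' U} (h : ∀ r, θ.hom (s.hom r) = θ'.hom (s.hom r)) :
    θ = θ' := by
  letI : Algebra A (R ξ U.1) := (rB ξ U.1).toAlgebra
  letI : Algebra k Γ(X, U.1) := (cU x U.1).toAlgebra
  obtain ⟨b, hb⟩ := exists_adapted_basis s
  refine LocHom.ext' fun r => ?_
  rw [← b.linearCombination_repr r, Finsupp.linearCombination_apply, map_finsuppSum, map_finsuppSum]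
  refine Finsupp.sum_congr fun j _ => ?_
  rw [Algebra.smul_def, map_mul, map_mul, hb, show (algebraMap A (R ξ U.1)) = rB ξ U.1 from rfl,
    θ.hom_rB, θ'.hom_rB]
  exact congrArg _ (h _)

/-- A morphism of a split deformation over a surjection is surjective. -/
theorem surjective_hom (s : Spl ξ U) (θ : LocHom μ ξ ξ' U) (hμ : Function.Surjective μ) :
    Function.Surjective θ.hom := by
  letI : Algebra A' (R ξ' U.1) := (rB ξ' U.1).toAlgebra
  letI : Algebra k Γ(X, U.1) := (cU x U.1).toAlgebra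
  let s' : Spl ξ' U :=
    ⟨θ.hom.comp s.hom, fun a => by
      rw [RingHom.comp_apply, s.hom_rB, θ.hom_rB]
      exact congrArg _ (ofBase_apply μ a), fun r => (θ.red_hom _).trans (s.red_hom r)⟩
  obtain ⟨b, hb⟩ := exists_adapted_basis s'
  intro r
  rw [← b.linearCombination_repr r, Finsupp.linearCombination_apply]
  refine AddSubmonoidClass.finsuppSum_mem θ.hom.range _ _ fun j _ => ?_
  rw [Algebra.smul_def, hb]
  obtain ⟨a, ha⟩ := hμ (b.repr r j)
  exact ⟨rB ξ U.1 a * s.sec (Module.Basis.ofVectorSpace k Γ(X, U.1) j),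
    by rw [map_mul, θ.hom_rB, ha]; rfl⟩

/-- The kernel of a morphism of a split deformation. -/
theorem mem_map_of_hom_eq_zero (s : Spl ξ U) (θ : LocHom μ ξ ξ' U) {r : R ξ U.1} (hr : θ.hom r = 0) :
    r ∈ (RingHom.ker μ.toAlgHom.toRingHom).map (rB ξ U.1) := by
  letI : Algebra A (R ξ U.1) := (rB ξ U.1).toAlgebra
  letI : Algebra A' (R ξ' U.1) := (rB ξ' U.1).toAlgebra
  letI : Algebra k Γ(X, U.1) := (cU x U.1).toAlgebra
  let s' : Spl ξ' U :=
    ⟨θ.hom.comp s.hom, fun a => by
      rw [RingHom.comp_apply, s.hom_rB, θ.hom_rB]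
      exact congrArg _ (ofBase_apply μ a), fun r => (θ.red_hom _).trans (s.red_hom r)⟩
  obtain ⟨b, hb⟩ := exists_adapted_basis s
  obtain ⟨b', hb'⟩ := exists_adapted_basis s'
  have h1 : Finsupp.linearCombination A' b' ((b.repr r).mapRange μ (map_zero μ.toAlgHom)) = 0 := by
    rw [← hr]
    conv_rhs => rw [← b.linearCombination_repr r, Finsupp.linearCombination_apply, map_finsuppSum]
    rw [Finsupp.linearCombination_apply, Finsupp.sum_mapRange_index (fun j => zero_smul A' (b' j))]
    refine Finsupp.sum_congr fun j _ => ?_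
    rw [Algebra.smul_def, Algebra.smul_def, map_mul, show (algebraMap A (R ξ U.1)) = rB ξ U.1 from rfl, θ.hom_rB,
      hb, hb']
    rfl
  have h2 := linearIndependent_iff.mp b'.linearIndependent _ h1
  rw [← b.linearCombination_repr r, Finsupp.linearCombination_apply]
  refine Ideal.sum_mem _ fun j _ => ?_
  beta_reduce
  rw [Algebra.smul_def]
  exact Ideal.mul_mem_right _ _ (Ideal.mem_map_of_mem _ (DFunLike.congr_fun h2 j))

/-- Smoothness gives formal smoothness of the functions over the field. -/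
theorem formallySmooth_cU [Smooth x] (U : X.affineOpens) : (cU x U.1).FormallySmooth := by
  have h1 : (x.appLE ⊤ U.1 le_top).hom.Smooth :=
    HasRingHomProperty.appLE (P := @Smooth) x inferInstance ⟨⊤, isAffineOpen_top _⟩ U le_top
  exact (RingHom.Smooth.comp (RingHom.Smooth.of_bijective
    (ConcreteCategory.bijective_of_isIso (Scheme.ΓSpecIso (CommRingCat.of k)).inv)) h1).formallySmooth

/-- Splittings exist. -/
theorem exists_spl [Smooth x] (ξ : DefSch X x A) (U : X.affineOpens) : Nonempty (Spl ξ U) := by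
  letI : Algebra k Γ(X, U.1) := (cU x U.1).toAlgebra
  haveI : Algebra.FormallySmooth k Γ(X, U.1) := formallySmooth_cU U
  letI : Algebra k (R ξ U.1) := ((rB ξ U.1).comp (algebraMap k A)).toAlgebra
  let q : R ξ U.1 →ₐ[k] Γ(X, U.1) :=
    { red ξ U.1 with
      commutes' := fun c => (red_rB ξ U.1 _).trans (congrArg _ (A.res.commutes c)) }
  let g := Algebra.FormallySmooth.liftOfSurjective (AlgHom.id k _) q (red_surjective ξ U) (isNilpotent_ker_red ξ U)
  exact ⟨splOf g.toRingHom (fun c => g.commutes c)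
    fun b => Algebra.FormallySmooth.liftOfSurjective_apply (AlgHom.id k _) q (red_surjective ξ U)
      (isNilpotent_ker_red ξ U) b⟩

/-- Morphisms lift along morphisms over surjections. -/
theorem exists_lift [Smooth x] {A'' : Art k k} {ν : A' ⟶ A''} {ξ'' : DefSch X x A''} (hν : Function.Surjective ν)
    (c : LocHom ν ξ' ξ'' U) {ρ : A ⟶ A''} (θ₀ : LocHom ρ ξ ξ'' U) (μ : A ⟶ A') (hμ : μ ≫ ν = ρ) :
    ∃ θ : LocHom μ ξ ξ' U, ∀ r, c.hom (θ.hom r) = θ₀.hom r := by
  obtain ⟨s⟩ := exists_spl ξ U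
  obtain ⟨t⟩ := exists_spl ξ' U
  letI : Algebra k Γ(X, U.1) := (cU x U.1).toAlgebra
  haveI : Algebra.FormallySmooth k Γ(X, U.1) := formallySmooth_cU U
  letI : Algebra k (R ξ' U.1) := ((rB ξ' U.1).comp (algebraMap k A')).toAlgebra
  letI : Algebra k (R ξ'' U.1) := ((rB ξ'' U.1).comp (algebraMap k A'')).toAlgebra
  let q : R ξ' U.1 →ₐ[k] R ξ'' U.1 :=
    { c.hom with commutes' := fun a => (c.hom_rB _).trans (congrArg _ (ofBase_apply ν a)) }
  let q₀ : Γ(X, U.1) →ₐ[k] R ξ'' U.1 :=
    { θ₀.hom.comp s.sec with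
      commutes' := fun a => by
        show θ₀.hom (s.sec (cU x U.1 a)) = _
        rw [s.sec_cU, θ₀.hom_rB, ofBase_apply]
        rfl }
  have hqs : Function.Surjective q := surjective_hom t c hν
  have hqk : IsNilpotent (RingHom.ker q) := by
    obtain ⟨n, hn⟩ := isNilpotent_ker_red ξ' U
    refine ⟨n, le_bot_iff.mp (le_trans (Ideal.pow_right_mono ?_ n) hn.le)⟩
    intro r hr
    rw [RingHom.mem_ker, ← c.red_hom, show c.hom r = 0 from hr, map_zero]
  let g := Algebra.FormallySmooth.liftOfSurjective q₀ q hqs hqk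
  have hg : ∀ b, c.hom (g b) = θ₀.hom (s.sec b) :=
    fun b => Algebra.FormallySmooth.liftOfSurjective_apply q₀ q hqs hqk b
  let s' : Spl ξ' U := splOf g.toRingHom (fun a => g.commutes a) fun b => by
    rw [← c.red_hom]
    show red ξ'' U.1 (c.hom (g b)) = b
    rw [hg, θ₀.red_hom, s.red_sec]
  obtain ⟨θ, hθ⟩ := exists_of_spl μ s s'
  refine ⟨θ, fun r => ?_⟩
  subst hμ
  have e : (θ.comp c) = θ₀ := ext_of_spl s fun r => by
    show c.hom (θ.hom (s.hom r)) = _
    rw [hθ, ← s.sec_red]
    exact hg _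
  exact congrArg (fun t => LocHom.hom t r) e

/-- Morphisms agreeing after a map differ by the kernel. -/
theorem sub_mem_of_comp_eq [Smooth x] {A'' : Art k k} {ν : A' ⟶ A''} {ξ'' : DefSch X x A''} (S : SocBasis A')
    (hS : RingHom.ker ν.toAlgHom.toRingHom ≤ S.span) (c : LocHom ν ξ' ξ'' U) {θ θ' : LocHom μ ξ ξ' U}
    (h : ∀ r, c.hom (θ.hom r) = c.hom (θ'.hom r)) (r : R ξ U.1) :
    θ'.hom r - θ.hom r ∈ S.span.map (rB ξ' U.1) := by
  obtain ⟨t⟩ := exists_spl ξ' U
  exact Ideal.map_mono hS (mem_map_of_hom_eq_zero t c (by rw [map_sub, h, sub_self]))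

end Split

end Groth.L14.LocTriv
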