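import Groth.Agent.L14.DefLift.LocTriv.H1
import Groth.Agent.L14.DefLift.LocTriv.Smooth
import Groth.Agent.L14.DefLift.LocTriv.DerSec

/-! # Cocycles of derivations from local morphisms -/

set_option autoImplicit false
set_option linter.style.haveILetI false
set_option linter.unusedSectionVars false
set_option backward.isDefEq.respectTransparency.types false
set_option backward.isDefEq.respectTransparency false

universe u

open CategoryTheory CategoryTheory.Limits AlgebraicGeometry TopologicalSpace Opposite ArtFun ArtFun.Art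

noncomputable section

namespace Groth.L14.LocTriv

open Groth.L18.Frame (rs ro rs_rs)

variable {k : Type u} [Field k] {X : Scheme.{u}} [X.Over (Spec (CommRingCat.of k))]

local notation "xK" => (X ↘ Spec (CommRingCat.of k))

/-- The tangent sheaf of derivations. -/
abbrev tgt (k : Type u) [Field k] (X : Scheme.{u}) [X.Over (Spec (CommRingCat.of k))]
    [QuasiSeparated (X ↘ Spec (CommRingCat.of k))] : X.Modules :=
  tanMod (X ↘ Spec (CommRingCat.of k) : X ⟶ specPt k) (Coh.structureModule X)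

variable [IsSeparated (X ↘ Spec (CommRingCat.of k))]

/-- The derivation of a section of the tangent sheaf. -/
def dOf {Z : X.Opens} (s : SecK k (tgt k X) Z) (a : Γ(X, Z)) : Γ(X, Z) :=
  secDer (xK : X ⟶ specPt k) (show Γ(tgt k X, Z) from s) a

theorem isDer_dOf {Z : X.Opens} (s : SecK k (tgt k X) Z) : IsDer (xK : X ⟶ specPt k) Z (dOf s) where
  add := (isDerN_secDer (xK : X ⟶ specPt k) (show Γ(tgt k X, Z) from s)).add
  mul := (isDerN_secDer (xK : X ⟶ specPt k) (show Γ(tgt k X, Z) from s)).mul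
  base := (isDerN_secDer (xK : X ⟶ specPt k) (show Γ(tgt k X, Z) from s)).base

theorem dOf_add {Z : X.Opens} (s t : SecK k (tgt k X) Z) (a : Γ(X, Z)) : dOf (s + t) a = dOf s a + dOf t a :=
  secDer_add _ _ _ _

theorem dOf_zero {Z : X.Opens} (a : Γ(X, Z)) : dOf (0 : SecK k (tgt k X) Z) a = 0 :=
  left_eq_add.1 (((congrArg (fun s => dOf s a) (add_zero (0 : SecK k (tgt k X) Z))).symm).trans (dOf_add 0 0 a))

theorem dOf_neg {Z : X.Opens} (s : SecK k (tgt k X) Z) (a : Γ(X, Z)) : dOf (-s) a = -dOf s a :=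
  eq_neg_of_add_eq_zero_left (by rw [← dOf_add, neg_add_cancel, dOf_zero])

theorem dOf_smul {Z : X.Opens} (c : k) (s : SecK k (tgt k X) Z) (a : Γ(X, Z)) :
    dOf (c • s) a = cU (xK : X ⟶ specPt k) Z c * dOf s a := by
  refine (secDer_smul (xK : X ⟶ specPt k) (Groth.L17.BC.act (Coh.toGlobal xK) Z c)
    (show Γ(tgt k X, Z) from s) a).trans ?_
  refine congrArg (fun r : Γ(X, Z) => r * dOf s a) ?_
  show X.presheaf.map (homOfLE le_top).op ((xK).appTop ((Scheme.ΓSpecIso (CommRingCat.of k)).inv c)) = _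
  rw [Scheme.Hom.appTop, Scheme.Hom.app_eq_appLE, ← CommRingCat.comp_apply, Scheme.Hom.appLE_map]
  rfl

theorem dOf_res {V Z : X.Opens} (h : Z ≤ V) (s : SecK k (tgt k X) V) (a : Γ(X, V)) :
    dOf (resK k (tgt k X) h s) (ro h a) = ro h (dOf s a) :=
  secDer_rs (xK : X ⟶ specPt k) h _ _

variable [LocallyOfFiniteType (X ↘ Spec (CommRingCat.of k))]

theorem dOf_injective {Z : X.Opens} (hZ : IsAffineOpen Z) :
    Function.Injective (dOf : SecK k (tgt k X) Z → Γ(X, Z) → Γ(X, Z)) :=
  secDer_injective (xK : X ⟶ specPt k) ⟨Z, hZ⟩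

theorem exists_dOf_eq {Z : X.Opens} (hZ : IsAffineOpen Z) {D : Γ(X, Z) → Γ(X, Z)}
    (hD : IsDer (xK : X ⟶ specPt k) Z D) : ∃ s : SecK k (tgt k X) Z, dOf s = D :=
  exists_secDer_eq (xK : X ⟶ specPt k) ⟨Z, hZ⟩ (N := Coh.structureModule X) ⟨hD.add, hD.mul, hD.base⟩

include k in
theorem isAffineOpen_inter (U W : X.affineOpens) : IsAffineOpen (U.1 ⊓ W.1) := by
  have h := isAffineOpen_iInf (k := k) (n := 1) ![U, W]
  rwa [show (⨅ l, (![U, W] l).1) = U.1 ⊓ W.1 from
    le_antisymm (le_inf (iInf_le _ 0) (iInf_le _ 1)) (le_iInf (Fin.forall_fin_two.2 ⟨inf_le_left, inf_le_right⟩))] at h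

theorem isQCoh_tgt : Coh.IsQCoh (tgt k X) := by
  haveI : IsLocallyNoetherian X := LocallyOfFiniteType.isLocallyNoetherian xK
  haveI : Coh.IsQCoh (Coh.structureModule X) := (Groth.L16.CohClosedPush.isCoh_structure (X := X)).1
  exact Groth.L16.HomSh.isQCoh_homMod (Groth.L15.OmegaCoh.isCoh_omega _) _

variable {A A' : Art k k} {μ : A ⟶ A'} {ξ : DefSch X (X ↘ Spec (CommRingCat.of k)) A} {ξ' : DefSch X (X ↘ Spec (CommRingCat.of k)) A'} (S : SocBasis A')

/-- Local morphisms over all affine opens. -/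
abbrev Frm (μ : A ⟶ A') (ξ : DefSch X xK A) (ξ' : DefSch X xK A') : Type u :=
  ∀ U, LocHom (x := (xK : X ⟶ specPt k)) μ ξ ξ' U

/-- `c` measures the differences of `θ`. -/
def IsCls (θ : Frm μ ξ ξ') (c : Fin S.n → Fn k (tgt k X)) : Prop :=
  ∀ (U W Z : X.affineOpens) (h : Z.1 ≤ U.1) (h' : Z.1 ≤ W.1),
    LocHom.Diff S ((θ U).restrict h) ((θ W).restrict h')
      fun l => dOf (resK k (tgt k X) (le_inf h h') (c l U W))

variable {S} {θ θ' : Frm μ ξ ξ'} {c c' : Fin S.n → Fn k (tgt k X)}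

theorem IsCls.unique (hc : IsCls S θ c) (hc' : IsCls S θ c') : c = c' := by
  funext l U W
  let Z : X.affineOpens := ⟨U.1 ⊓ W.1, isAffineOpen_inter (k := k) U W⟩
  have h := congrFun ((hc U W Z inf_le_left inf_le_right).unique (hc' U W Z inf_le_left inf_le_right)) l
  have h' := dOf_injective Z.2 h
  rwa [resK_self, resK_self] at h'

theorem IsCls.cocycle (hc : IsCls S θ c) (l : Fin S.n) : IsCocycle k (tgt k X) (c l) := by
  intro U V W Z h1 h2 h3
  let T : X.affineOpens := ⟨U.1 ⊓ V.1 ⊓ W.1, by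
    have h := isAffineOpen_inter (k := k) ⟨U.1 ⊓ V.1, isAffineOpen_inter (k := k) U V⟩ W
    exact h⟩
  have hU : T.1 ≤ U.1 := inf_le_left.trans inf_le_left
  have hV : T.1 ≤ V.1 := inf_le_left.trans inf_le_right
  have hW : T.1 ≤ W.1 := inf_le_right
  have e := congrFun (((hc U V T hU hV).trans (hc V W T hV hW)).unique (hc U W T hU hW)) l
  have e' : resK k (tgt k X) (le_inf hU hV) (c l U V) + resK k (tgt k X) (le_inf hV hW) (c l V W) =
      resK k (tgt k X) (le_inf hU hW) (c l U W) := dOf_injective T.2 (funext fun a => by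
    rw [dOf_add]
    exact congrFun e a)
  have hZ : Z ≤ T.1 := le_inf h1 (h2.trans inf_le_right)
  have e'' := congrArg (resK k (tgt k X) hZ) e'
  simpa only [map_add, resK_resK] using e''

variable (S) in
/-- Differences are classes if they lie in the ideal. -/
theorem exists_isCls (θ : Frm μ ξ ξ')
    (h : ∀ (U W Z : X.affineOpens) (hU : Z.1 ≤ U.1) (hW : Z.1 ≤ W.1) r,
      ((θ W).restrict hW).hom r - ((θ U).restrict hU).hom r ∈ S.span.map (rB ξ' Z.1)) :
    ∃ c, IsCls S θ c := by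
  have hex : ∀ U W : X.affineOpens, ∃ c : Fin S.n → SecK k (tgt k X) (U.1 ⊓ W.1),
      LocHom.Diff S ((θ U).restrict (U' := ⟨U.1 ⊓ W.1, isAffineOpen_inter (k := k) U W⟩) inf_le_left)
        ((θ W).restrict (U' := ⟨U.1 ⊓ W.1, isAffineOpen_inter (k := k) U W⟩) inf_le_right) fun l => dOf (c l) := by
    intro U W
    obtain ⟨D, hD⟩ := LocHom.exists_diff (S := S) (h U W ⟨U.1 ⊓ W.1, isAffineOpen_inter (k := k) U W⟩
      inf_le_left inf_le_right)
    choose c hc using fun l => exists_dOf_eq (isAffineOpen_inter (k := k) U W) (hD.isDer l)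
    exact ⟨c, by rw [show (fun l => dOf (c l)) = D from funext hc]; exact hD⟩
  choose c hc using hex
  refine ⟨fun l U W => c U W l, fun U W Z hU hW => ?_⟩
  have h' := (hc U W).restrict (U' := Z) (le_inf hU hW)
    (D₀ := fun l => dOf (resK k (tgt k X) (le_inf hU hW) (c U W l))) (fun l => isDer_dOf _)
    (fun l a => dOf_res _ _ a)
  rwa [LocHom.restrict_restrict, LocHom.restrict_restrict] at h'

theorem IsCls.add_bdry (hc : IsCls S θ c) (t : Fin S.n → Fn₀ k (tgt k X)) :
    IsCls S (fun U => (θ U).addDer (fun l => dOf (t l U)) (fun l => isDer_dOf _))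
      (fun l => c l + bdry k (tgt k X) (t l)) := by
  intro U W Z h h'
  have h1 : ∀ (V : X.affineOpens) (hV : Z.1 ≤ V.1), LocHom.Diff S ((θ V).restrict hV)
      (((θ V).addDer (fun l => dOf (t l V)) fun l => isDer_dOf _).restrict hV)
      fun l => dOf (resK k (tgt k X) hV (t l V)) := fun V hV =>
    (LocHom.diff_addDer (θ V) _ _).restrict hV (fun l => isDer_dOf _) fun l a => dOf_res _ _ a
  have e := ((h1 U h).symm.trans (hc U W Z h h')).trans (h1 W h')
  convert e using 1
  funext l a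
  show dOf _ a = -dOf _ a + dOf _ a + dOf _ a
  rw [← dOf_neg, ← dOf_add, ← dOf_add]
  refine congrArg (fun s => dOf s a) ?_
  simp only [Pi.add_apply, bdry_apply, map_add, map_sub, resK_resK]
  abel

theorem IsCls.bdry_of_diff (hc : IsCls S θ c) (hc' : IsCls S θ' c')
    (h : ∀ U r, (θ' U).hom r - (θ U).hom r ∈ S.span.map (rB ξ' U.1)) :
    ∃ t : Fin S.n → Fn₀ k (tgt k X), ∀ l, c' l = c l + bdry k (tgt k X) (t l) := by
  choose D hD using fun U => LocHom.exists_diff (S := S) (h U)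
  choose t ht using fun (l : Fin S.n) (U : X.affineOpens) => exists_dOf_eq U.2 ((hD U).isDer l)
  refine ⟨t, ?_⟩
  have e : θ' = fun U => (θ U).addDer (fun l => dOf (t l U)) fun l => isDer_dOf _ := funext fun U => by
    refine LocHom.ext' fun r => ?_
    rw [hD U r, LocHom.diff_addDer (θ U) _ (fun l => isDer_dOf (t l U)) r]
    simp only [ht]
  subst e
  intro l
  exact congrFun (hc'.unique (hc.add_bdry t)) l

theorem IsCls.comp {A'' : Art k k} {ν : A'' ⟶ A} {ξ'' : DefSch X xK A''} (hc : IsCls S θ c)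
    (α : Frm ν ξ'' ξ) (hα : ∀ (U Z : X.affineOpens) (h : Z.1 ≤ U.1), (α U).restrict h = α Z) :
    IsCls S (fun U => (α U).comp (θ U)) c := by
  intro U W Z h h'
  have h1 : ∀ (V : X.affineOpens) (hV : Z.1 ≤ V.1),
      ((α V).comp (θ V)).restrict hV = (α Z).comp ((θ V).restrict hV) := fun V hV => by
    refine LocHom.restrict_unique (LocHom.restricts_restrict _ hV) fun r => ?_
    show res ξ' hV ((θ V).hom ((α V).hom r)) = ((θ V).restrict hV).hom ((α Z).hom (res ξ'' hV r))
    rw [LocHom.restricts_restrict (θ V) hV, LocHom.restricts_restrict (α V) hV, hα]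
  intro r
  rw [h1 U h, h1 W h']
  show ((θ W).restrict h').hom ((α Z).hom r) = ((θ U).restrict h).hom ((α Z).hom r) + _
  rw [hc U W Z h h' ((α Z).hom r), (α Z).red_hom]

end Groth.L14.LocTriv
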