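import Groth.Agent.L14.DefLift.LocTriv.Frame
import Groth.Agent.L16.HomSh.Adjunction
import Groth.Prelude.Def_Canon
import Mathlib.LinearAlgebra.TensorProduct.Basis

/-! # The classification of extensions -/

set_option autoImplicit false
set_option linter.style.haveILetI false
set_option linter.unusedSectionVars false
set_option backward.isDefEq.respectTransparency.types false
set_option backward.isDefEq.respectTransparency false

universe u

open CategoryTheory CategoryTheory.Limits AlgebraicGeometry TopologicalSpace Opposite ArtFun ArtFun.Art TensorProduct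

noncomputable section

namespace Groth.L14.LocTriv

open Groth.L14.DefLift (isIso_of_hom)

/-- The kernel of a semismall extension has a basis killed by the maximal ideal. -/
theorem exists_socBasis {k : Type u} [Field k] {C' C : Art k k} (p : C' ⟶ C) (hp : Art.IsSemismallExt p) :
    ∃ (S : SocBasis C') (b : Module.Basis (Fin S.n) k ↥(RingHom.ker p.toAlgHom)),
      RingHom.ker p.toAlgHom.toRingHom ≤ S.span ∧ (∀ l, p (S.e l) = 0) ∧ ∀ l, (b l : C') = S.e l := by
  classical
  let J := RingHom.ker p.toAlgHom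
  have hkill : ∀ c ∈ IsLocalRing.maximalIdeal C', ∀ j ∈ J, c * j = 0 := fun c hc j hj => by
    have : c * j ∈ IsLocalRing.maximalIdeal C' * J := Ideal.mul_mem_mul hc hj
    rwa [hp.2, Ideal.mem_bot] at this
  have hres : ∀ j ∈ J, C'.res j = 0 := fun j hj =>
    (Art.res_app p j).symm.trans ((congrArg C.res (show p j = 0 from hj)).trans (map_zero C.res))
  obtain ⟨T, hT⟩ := (IsNoetherian.noetherian J : J.FG)
  haveI : Module.Finite k ↥J := by
    have hTJ : ∀ t ∈ T, t ∈ J := fun t ht => hT ▸ (Ideal.subset_span ht : t ∈ Ideal.span (T : Set C'))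
    let M : Submodule k ↥J := Submodule.span k (Set.range fun t : {t // t ∈ T} => (⟨t.1, hTJ t.1 t.2⟩ : ↥J))
    refine Module.Finite.of_fg_top ?_
    suffices hM : ⊤ ≤ M by
      rw [show (⊤ : Submodule k ↥J) = M from le_antisymm hM le_top]
      exact Submodule.fg_span (Set.finite_range _)
    rintro ⟨j, hj⟩ -
    have hj' : j ∈ Submodule.span C' (T : Set C') := by rw [hT]; exact hj
    induction hj' using Submodule.span_induction with
    | mem t ht => exact Submodule.subset_span ⟨⟨t, ht⟩, rfl⟩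
    | zero =>
      rw [show (⟨0, hj⟩ : ↥J) = 0 from rfl]
      exact zero_mem _
    | add a c ha hc iha ihc =>
      have ha' : a ∈ J := hT ▸ ha
      have hc' : c ∈ J := hT ▸ hc
      rw [show (⟨a + c, hj⟩ : ↥J) = ⟨a, ha'⟩ + ⟨c, hc'⟩ from rfl]
      exact add_mem (iha ha') (ihc hc')
    | smul c a ha iha =>
      have ha' : a ∈ J := hT ▸ ha
      have e : (⟨c • a, hj⟩ : ↥J) = C'.res c • ⟨a, ha'⟩ := by
        refine Subtype.ext ?_
        show c * a = C'.res c • a
        rw [Algebra.smul_def, ← sub_eq_zero, ← sub_mul]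
        refine hkill _ ?_ _ ha'
        rw [Art.mem_maximalIdeal_iff, map_sub, AlgHom.commutes]
        exact sub_self _
      rw [e]
      exact Submodule.smul_mem _ _ (iha ha')
  let b := Module.finBasis k ↥J
  refine ⟨⟨Module.finrank k ↥J, fun l => (b l : C'), fun l c hc => hkill c hc _ (b l).2, fun l => hres _ (b l).2,
    b.linearIndependent.map' ((Submodule.restrictScalars k (J : Submodule C' C')).subtype) (Submodule.ker_subtype _)⟩,
    b, fun j hj => ?_, fun l => (b l).2, fun l => rfl⟩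
  rw [show j = ((∑ l, b.repr ⟨j, hj⟩ l • b l : ↥J) : C') by rw [b.sum_repr]]
  rw [Submodule.coe_sum]
  refine Ideal.sum_mem _ fun l _ => ?_
  rw [Submodule.coe_smul_of_tower, Algebra.smul_def]
  exact Ideal.mul_mem_left _ _ (Ideal.subset_span ⟨l, rfl⟩)

variable {k : Type u} [Field k] {X : Scheme.{u}} [X.Over (Spec (CommRingCat.of k))]
  [IsSeparated (X ↘ Spec (CommRingCat.of k))] [LocallyOfFiniteType (X ↘ Spec (CommRingCat.of k))]
  [Smooth (X ↘ Spec (CommRingCat.of k))]

/-- The first cohomology of the sheaf Hom is that of the sheaf of derivations. -/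
theorem exists_hh_equiv [DCoh.HasSheafHom (Omega.sheaf (X ↘ Spec (CommRingCat.of k)))] (n : ℕ) :
    Nonempty (Coh.HH X (tgt k X) n ≃ₗ[k]
      Coh.HH X ((DCoh.sheafHom (Omega.sheaf (X ↘ Spec (CommRingCat.of k)))).obj (Coh.structureModule X)) n) := by
  let e := (Groth.L16.HomSh.sheafHomIso (Omega.sheaf (X ↘ Spec (CommRingCat.of k)))).app (Coh.structureModule X)
  have h : ∀ {P Q : X.Modules} (f : P ⟶ Q) (g : Q ⟶ P), f ≫ g = 𝟙 P → ∀ z : Coh.HH X P n,
      Canon.HHlin k g n (Canon.HHlin k f n z) = z := fun {P Q} f g hfg z => by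
    show Sheaf.H.map _ n (Sheaf.H.map _ n z) = z
    rw [← Sheaf.H.map_comp_apply, ← Functor.map_comp, hfg, CategoryTheory.Functor.map_id, Sheaf.H.map_id_apply]
  exact ⟨LinearEquiv.ofLinearMap (Canon.HHlin k e.inv n) (Canon.HHlin k e.hom n)
    (LinearMap.ext (h e.hom e.inv e.hom_inv_id)) (LinearMap.ext (h e.inv e.hom e.inv_hom_id))⟩

variable {C' C : Art k k} {p : C' ⟶ C} {Y : DefSch X (X ↘ Spec (CommRingCat.of k)) C}

set_option maxHeartbeats 800000 in
/-- The class of extensions. -/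
theorem exists_extClass (hp : Function.Surjective p) (S : SocBasis C')
    (hS : RingHom.ker p.toAlgHom.toRingHom ≤ S.span) (hSp : ∀ l, p (S.e l) = 0) (E₀ : ExtD p Y) :
    ∃ Φ : ExtD p Y → (Fin S.n → Coh.HH X (tgt k X) 1),
      Function.Surjective Φ ∧ (∀ E E', Φ E = Φ E' ↔ E.Iso' E') ∧
      (∀ (E : ExtD p Y) θ c, IsFrame E₀ E θ → IsCls S θ c → ∀ κc : Fin S.n → cocycles k (tgt k X),
        (∀ l, (κc l).1 = c l) → ∀ (κ : cocycles k (tgt k X) →ₗ[k] Coh.HH X (tgt k X) 1),
        κ = (haveI := isQCoh_tgt (k := k) (X := X); exists_class k (tgt k X)).choose → ∀ l, Φ E l = κ (κc l)) := by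
  haveI := isQCoh_tgt (k := k) (X := X)
  have hκs := (exists_class k (tgt k X)).choose_spec
  set κ := (exists_class k (tgt k X)).choose with hκdef
  choose θ hθ using fun E => exists_frame E₀ E hp
  choose c hc using fun E => (hθ E).exists_isCls S hS
  let Φ : ExtD p Y → (Fin S.n → Coh.HH X (tgt k X) 1) := fun E l => κ ⟨c E l, (hc E).cocycle l⟩
  have hind : ∀ E θ' c' (hθ' : IsFrame E₀ E θ') (hc' : IsCls S θ' c') l, κ ⟨c' l, hc'.cocycle l⟩ = Φ E l := by
    intro E θ' c' hθ' hc' l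
    obtain ⟨t, ht⟩ := (hc E).bdry_of_diff hc' fun U r => (hθ E).sub_mem S hS hθ' U r
    rw [← sub_eq_zero, ← map_sub, hκs.2]
    refine ⟨t l, ?_⟩
    show _ = c' l - c E l
    rw [ht l, add_sub_cancel_left]
  refine ⟨Φ, fun v => ?_, fun E E' => ⟨fun h => ?_, fun h => ?_⟩, fun E θ' c' hθ' hc' κc hκc κ' hκ' l => ?_⟩
  · choose z hz using fun l => hκs.1 (v l)
    obtain ⟨E, θ', hθ', hc'⟩ := exists_ext_of_cocycle E₀ S hSp (fun l => (z l).1) (fun l => (z l).2)
    exact ⟨E, funext fun l => (hind E θ' _ hθ' hc' l).symm.trans (hz l)⟩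
  · have hb : ∀ l, ∃ t, bdry k (tgt k X) t = c E' l - c E l := fun l =>
      (hκs.2 (⟨c E' l, (hc E').cocycle l⟩ - ⟨c E l, (hc E).cocycle l⟩)).1 (by
        rw [map_sub, sub_eq_zero]
        exact (congrFun h l).symm)
    choose t ht using hb
    refine iso'_of_cls S hSp ((hθ E).addDer S hSp t) (hθ E') ((hc E).add_bdry t) ?_
    convert hc E' using 1
    funext l
    rw [ht l, add_sub_cancel]
  · obtain ⟨θ', hθ', hc'⟩ := (hθ E').transport S (hc E') h
    exact funext fun l => (hind E θ' _ hθ' hc' l).symm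
  · subst hκ'
    rw [show κc l = ⟨c' l, hc'.cocycle l⟩ from Subtype.ext (hκc l)]
    exact (hind E θ' c' hθ' hc' l).symm

/-- The extension of an identification. -/
def ExtD.ofPair (a : Σ D : DefSch X (X ↘ Spec (CommRingCat.of k)) C', (D.baseChange p).Iso Y) : ExtD p Y where
  D := a.1
  c := a.2.iso.inv ≫ pullback.fst a.1.f (specMap p)
  hc := by
    rw [Category.assoc, pullback.condition, ← Category.assoc]
    exact congrArg (· ≫ specMap p) a.2.symm.hom_f
  hci := by
    rw [← Category.assoc, show Y.i ≫ a.2.iso.inv = (a.1.baseChange p).i from a.2.symm.i_hom]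
    exact DefSch.baseChange_i_fst _ _

theorem ofPair_surjective : Function.Surjective (ExtD.ofPair (p := p) (Y := Y)) := by
  rintro ⟨D, c, hc, hci⟩
  let l : Y.total ⟶ (D.baseChange p).total := pullback.lift c Y.f hc
  have hlf : l ≫ (D.baseChange p).f = Y.f := pullback.lift_snd _ _ _
  have hli : Y.i ≫ l = (D.baseChange p).i := by
    refine pullback.hom_ext ?_ ?_
    · rw [Category.assoc, pullback.lift_fst, hci]
      exact (DefSch.baseChange_i_fst _ _).symm
    · rw [Category.assoc, pullback.lift_snd, Y.i_f]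
      exact (DefSch.baseChange_i_f _ _).symm
  haveI := isIso_of_hom (ξ₁ := Y) (ξ₂ := D.baseChange p) l hlf hli
  refine ⟨⟨D, DefSch.Iso.symm ⟨asIso l, hlf, hli⟩⟩, ?_⟩
  have e : ∀ (c' : Y.total ⟶ D.total) (h : c' ≫ D.f = Y.f ≫ specMap p) (h' : Y.i ≫ c' = D.i), c' = c →
      ExtD.mk D c' h h' = ExtD.mk D c hc hci := by
    intro c' h h' e
    subst e
    rfl
  exact e _ _ _ (pullback.lift_fst _ _ _)

theorem rel_iff (a b : Σ D : DefSch X (X ↘ Spec (CommRingCat.of k)) C', (D.baseChange p).Iso Y) :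
    (∃ ψ : a.1.Iso b.1, ((ψ.baseChange p).trans b.2).iso = a.2.iso) ↔ (ExtD.ofPair a).Iso' (ExtD.ofPair b) := by
  constructor
  · rintro ⟨ψ, h⟩
    refine ⟨ψ.iso.hom, ψ.hom_f, ψ.i_hom, ?_⟩
    show (a.2.iso.inv ≫ pullback.fst _ _) ≫ ψ.iso.hom = b.2.iso.inv ≫ pullback.fst _ _
    rw [Category.assoc, Iso.inv_comp_eq, ← DefSch.pullMap_fst ψ.iso.hom ψ.hom_f p, ← h]
    show _ = (DefSch.pullMap ψ.iso.hom ψ.hom_f p ≫ b.2.iso.hom) ≫ b.2.iso.inv ≫ _
    simp
  · rintro ⟨g', hgf', hgi', hgc'₀⟩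
    obtain ⟨g, hgf, hgi, hgc⟩ : ∃ g : a.1.total ⟶ b.1.total, g ≫ b.1.f = a.1.f ∧ a.1.i ≫ g = b.1.i ∧
        (a.2.iso.inv ≫ pullback.fst a.1.f (specMap p)) ≫ g = b.2.iso.inv ≫ pullback.fst b.1.f (specMap p) :=
      ⟨g', hgf', hgi', hgc'₀⟩
    haveI := isIso_of_hom (ξ₁ := a.1) (ξ₂ := b.1) g hgf hgi
    let ψ : a.1.Iso b.1 := ⟨asIso g, hgf, hgi⟩
    refine ⟨ψ, Iso.ext ?_⟩
    have hgc' : (a.2.iso.inv ≫ pullback.fst a.1.f (specMap p)) ≫ g = b.2.iso.inv ≫ pullback.fst b.1.f (specMap p) := hgc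
    have e : DefSch.pullMap g hgf p = a.2.iso.hom ≫ b.2.iso.inv := by
      refine pullback.hom_ext ?_ ?_
      · rw [DefSch.pullMap_fst, Category.assoc, ← hgc', Category.assoc, Iso.hom_inv_id_assoc]
      · rw [DefSch.pullMap_snd, Category.assoc,
          show b.2.iso.inv ≫ pullback.snd b.1.f (specMap p) = Y.f from b.2.symm.hom_f]
        exact a.2.hom_f.symm
    show DefSch.pullMap g hgf p ≫ b.2.iso.hom = a.2.iso.hom
    rw [e, Category.assoc, Iso.inv_hom_id, Category.comp_id]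

set_option maxHeartbeats 800000 in
/-- Extensions are classified by `H¹(T) ⊗ J`. -/
theorem nonempty_ext_equiv [DCoh.HasSheafHom (Omega.sheaf (X ↘ Spec (CommRingCat.of k)))]
    (hp : Art.IsSemismallExt p)
    (hne : ∃ D : DefSch X (X ↘ Spec (CommRingCat.of k)) C', Nonempty ((D.baseChange p).Iso Y)) :
    Nonempty (Quot (fun a b : (Σ D : DefSch X (X ↘ Spec (CommRingCat.of k)) C', (D.baseChange p).Iso Y) =>
        ∃ ψ : a.1.Iso b.1, ((ψ.baseChange p).trans b.2).iso = a.2.iso) ≃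
      (Coh.HH X ((DCoh.sheafHom (Omega.sheaf (X ↘ Spec (CommRingCat.of k)))).obj (Coh.structureModule X)) 1 ⊗[k]
        ↥(RingHom.ker p.toAlgHom))) := by
  obtain ⟨S, b, hS, hSp, -⟩ := exists_socBasis p hp
  obtain ⟨D, ⟨i⟩⟩ := hne
  obtain ⟨Φ, hΦs, hΦi, -⟩ := exists_extClass hp.1 S hS hSp (ExtD.ofPair ⟨D, i⟩)
  obtain ⟨e⟩ := exists_hh_equiv (k := k) (X := X) 1
  let T : Quot (fun a b : (Σ D : DefSch X (X ↘ Spec (CommRingCat.of k)) C', (D.baseChange p).Iso Y) =>
      ∃ ψ : a.1.Iso b.1, ((ψ.baseChange p).trans b.2).iso = a.2.iso) → (Fin S.n → Coh.HH X (tgt k X) 1) :=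
    Quot.lift (fun a => Φ (ExtD.ofPair a)) fun a b h => (hΦi _ _).2 ((rel_iff a b).1 h)
  have hT : Function.Bijective T := by
    refine ⟨fun q q' h => ?_, fun v => ?_⟩
    · induction q using Quot.inductionOn with
      | h a => induction q' using Quot.inductionOn with
        | h a' => exact Quot.sound ((rel_iff a a').2 ((hΦi _ _).1 h))
    · obtain ⟨E, rfl⟩ := hΦs v
      obtain ⟨a, rfl⟩ := ofPair_surjective E
      exact ⟨Quot.mk _ a, rfl⟩
  exact ⟨(Equiv.ofBijective T hT).trans ((Equiv.arrowCongr (Equiv.refl (Fin S.n)) e.toEquiv).trans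
    (Finsupp.equivFunOnFinite.symm.trans (TensorProduct.equivFinsuppOfBasisRight b).symm.toEquiv))⟩

end Groth.L14.LocTriv
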