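import Groth.Agent.L14.DefLift.LocTriv.Ext
import Groth.Agent.L12.FunBasic

/-! # First-order deformations of smooth schemes -/

set_option autoImplicit false
set_option linter.style.haveILetI false
set_option linter.unusedSectionVars false
set_option backward.isDefEq.respectTransparency.types false
set_option backward.isDefEq.respectTransparency false

universe u

open CategoryTheory CategoryTheory.Limits AlgebraicGeometry TopologicalSpace Opposite ArtFun ArtFun.Art

noncomputable section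

namespace Groth.L14.LocTriv

variable {k : Type u} [Field k]

/-- `ε`. -/
def εd : dual k k := (DualNumber.eps : DualNumber k)

/-- `ε₁` and `ε₂`. -/
def εd₂ : Fin 2 → dual2 k k :=
  ![(TrivSqZeroExt.inr (1, 0) : TrivSqZeroExt k (k × k)), (TrivSqZeroExt.inr (0, 1) : TrivSqZeroExt k (k × k))]

theorem tsze_mul {M : Type u} [AddCommGroup M] [Module k M] [Module kᵐᵒᵖ M] [IsCentralScalar k M]
    (a : TrivSqZeroExt k M) (m : M) (ha : a.fst = 0) : a * TrivSqZeroExt.inr m = 0 := by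
  refine TrivSqZeroExt.ext ?_ ?_ <;> simp [ha]

theorem tsze_decomp (z : TrivSqZeroExt k (k × k)) (hz : z.fst = 0) :
    z = (TrivSqZeroExt.inl z.snd.1 : TrivSqZeroExt k (k × k)) * TrivSqZeroExt.inr (1, 0) +
      (TrivSqZeroExt.inl z.snd.2 : TrivSqZeroExt k (k × k)) * TrivSqZeroExt.inr (0, 1) := by
  refine TrivSqZeroExt.ext ?_ ?_
  · simp [hz]
  · refine Prod.ext ?_ ?_ <;> simp

/-- The socle basis of `k[ε]`. -/
def S₁ (k : Type u) [Field k] : SocBasis (dual k k) where
  n := 1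
  e := fun _ => εd
  kill _ c hc := tsze_mul (M := k) (show DualNumber k from c) 1 ((Art.mem_maximalIdeal_iff (dual k k) c).1 hc)
  mem _ := rfl
  indep := linearIndependent_unique_iff.2 fun h => one_ne_zero (α := k)
    (((TrivSqZeroExt.snd_inr k (1 : k)).symm.trans (congrArg TrivSqZeroExt.snd h)).trans TrivSqZeroExt.snd_zero)

/-- The socle basis of `k[ε₁, ε₂]`. -/
def S₂ (k : Type u) [Field k] : SocBasis (dual2 k k) where
  n := 2
  e := εd₂
  kill l c hc := by
    fin_cases l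
    · exact tsze_mul (M := k × k) (show TrivSqZeroExt k (k × k) from c) (1, 0) ((Art.mem_maximalIdeal_iff _ c).1 hc)
    · exact tsze_mul (M := k × k) (show TrivSqZeroExt k (k × k) from c) (0, 1) ((Art.mem_maximalIdeal_iff _ c).1 hc)
  mem l := by fin_cases l <;> rfl
  indep := by
    rw [Fintype.linearIndependent_iff]
    intro g hg
    have h := congrArg (fun z : dual2 k k => (show TrivSqZeroExt k (k × k) from z).snd) hg
    rw [Fin.sum_univ_two] at h
    have h1 : (g 0 • ((1 : k), (0 : k)) + g 1 • ((0 : k), (1 : k))) = 0 := h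
    simp only [Prod.smul_mk, Prod.mk_add_mk, smul_eq_mul, mul_one, mul_zero, add_zero, zero_add, Prod.mk_eq_zero] at h1
    exact Fin.forall_fin_two.2 h1

theorem maxIdeal_le_S₁ : IsLocalRing.maximalIdeal (dual k k) ≤ (S₁ k).span := by
  intro a ha
  have h : a = algebraMap k (dual k k) (show DualNumber k from a).snd * εd := by
    refine TrivSqZeroExt.ext ?_ ?_
    · rw [show (show DualNumber k from a).fst = 0 from (Art.mem_maximalIdeal_iff _ a).1 ha]
      show (0 : k) = ((TrivSqZeroExt.inl (show DualNumber k from a).snd : DualNumber k) * DualNumber.eps).fst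
      simp
    · show _ = ((TrivSqZeroExt.inl (show DualNumber k from a).snd : DualNumber k) * DualNumber.eps).snd
      simp
  rw [h]
  exact Ideal.mul_mem_left _ _ (Ideal.subset_span ⟨(0 : Fin 1), rfl⟩)

theorem maxIdeal_le_S₂ : IsLocalRing.maximalIdeal (dual2 k k) ≤ (S₂ k).span := by
  intro a ha
  let z : TrivSqZeroExt k (k × k) := a
  have h : a = algebraMap k (dual2 k k) z.snd.1 * εd₂ 0 + algebraMap k (dual2 k k) z.snd.2 * εd₂ 1 := by
    exact tsze_decomp z ((Art.mem_maximalIdeal_iff _ a).1 ha)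
  rw [h]
  exact add_mem (Ideal.mul_mem_left _ _ (Ideal.subset_span ⟨(0 : Fin 2), rfl⟩))
    (Ideal.mul_mem_left _ _ (Ideal.subset_span ⟨(1 : Fin 2), rfl⟩))

theorem scale_εd (c : k) : (scale c : dual k k ⟶ dual k k) εd = algebraMap k (dual k k) c * εd := by
  refine TrivSqZeroExt.ext ?_ ?_
  · show (0 : k) = ((TrivSqZeroExt.inl c : DualNumber k) * DualNumber.eps).fst
    simp
  · show c * (1 : k) = ((TrivSqZeroExt.inl c : DualNumber k) * DualNumber.eps).snd
    simp

theorem pr₁_εd₂ (l : Fin 2) : (pr₁ : dual2 k k ⟶ dual k k) (εd₂ l) = algebraMap k (dual k k) (![(1 : k), 0] l) * εd := by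
  fin_cases l
  · show (TrivSqZeroExt.inr (1 : k) : DualNumber k) = TrivSqZeroExt.inl (1 : k) * DualNumber.eps
    simp <;> rfl
  · show (TrivSqZeroExt.inr (0 : k) : DualNumber k) = TrivSqZeroExt.inl (0 : k) * DualNumber.eps
    simp

theorem pr₂_εd₂ (l : Fin 2) : (pr₂ : dual2 k k ⟶ dual k k) (εd₂ l) = algebraMap k (dual k k) (![(0 : k), 1] l) * εd := by
  fin_cases l
  · show (TrivSqZeroExt.inr (0 : k) : DualNumber k) = TrivSqZeroExt.inl (0 : k) * DualNumber.eps
    simp
  · show (TrivSqZeroExt.inr (1 : k) : DualNumber k) = TrivSqZeroExt.inl (1 : k) * DualNumber.eps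
    simp <;> rfl

theorem plus_εd₂ (l : Fin 2) : (plus : dual2 k k ⟶ dual k k) (εd₂ l) = algebraMap k (dual k k) (![(1 : k), 1] l) * εd := by
  fin_cases l
  · show (TrivSqZeroExt.inr ((1 : k) + 0) : DualNumber k) = TrivSqZeroExt.inl (1 : k) * DualNumber.eps
    simp <;> rfl
  · show (TrivSqZeroExt.inr ((0 : k) + 1) : DualNumber k) = TrivSqZeroExt.inl (1 : k) * DualNumber.eps
    simp <;> rfl

variable {X : Scheme.{u}} [X.Over (Spec (CommRingCat.of k))]
  [IsSeparated (X ↘ Spec (CommRingCat.of k))] [LocallyOfFiniteType (X ↘ Spec (CommRingCat.of k))]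
  [Smooth (X ↘ Spec (CommRingCat.of k))]

theorem exists_splClass {A : Art k k} {μ : Art.base k k ⟶ A} {ζ : DefSch X (X ↘ Spec (CommRingCat.of k)) A}
    (S : SocBasis A) (hS : IsLocalRing.maximalIdeal A ≤ S.span)
    (σ : Frm μ (slf (X ↘ Spec (CommRingCat.of k))) ζ) : ∃ c, IsCls S σ c :=
  LocTriv.exists_isCls S σ fun U W Z hU hW r => Ideal.map_mono hS ((red_eq_zero_iff ζ Z _).1 (by
    rw [map_sub, ((σ W).restrict hW).red_hom, ((σ U).restrict hU).red_hom, sub_self]))

/-- Pushing classes forward along a map of bases. -/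
theorem IsCls.push {A B : Art k k} {μ : Art.base k k ⟶ A} {ν : A ⟶ B}
    {ζ : DefSch X (X ↘ Spec (CommRingCat.of k)) A} {η : DefSch X (X ↘ Spec (CommRingCat.of k)) B}
    {σ : Frm μ (slf (X ↘ Spec (CommRingCat.of k))) ζ} (S : SocBasis A) (S' : SocBasis B) (hn : S'.n = 1)
    {c : Fin S.n → Fn k (tgt k X)} (hc : IsCls S σ c) {g : η.total ⟶ ζ.total}
    (hg : g ≫ ζ.f = η.f ≫ specMap ν) (hgi : η.i ≫ g = ζ.i) (a : Fin S.n → k)
    (ha : ∀ l l', ν (S.e l) = algebraMap k B (a l) * S'.e l') :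
    IsCls S' (fun U => (σ U).comp (LocHom.ofHom hg hgi U)) (fun _ => ∑ l, a l • c l) := by
  intro U W Z h h' r
  rw [LocHom.restrict_comp, LocHom.restrict_comp, LocHom.ofHom_restrict, LocHom.ofHom_restrict]
  show (LocHom.ofHom hg hgi Z).hom (((σ W).restrict h').hom r) =
    (LocHom.ofHom hg hgi Z).hom (((σ U).restrict h).hom r) + _
  rw [hc U W Z h h' r, map_add]
  refine congrArg (_ + ·) ?_
  let l₀ : Fin S'.n := ⟨0, by omega⟩
  haveI : Subsingleton (Fin S'.n) := ⟨fun i j => Fin.ext (by omega)⟩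
  simp only [SocBasis.sum, map_sum]
  rw [Fintype.sum_subsingleton _ l₀]
  have hkill : ∀ l, ∀ m ∈ IsLocalRing.maximalIdeal B, m * ν (S.e l) = 0 := fun l m hm => by
    rw [ha l l₀, mul_left_comm, S'.kill l₀ m hm, mul_zero]
  have h1 : ∀ l (b : Γ(X, Z.1)), jMul η Z (ν (S.e l)) b =
      jMul η Z (S'.e l₀) (cU (X ↘ Spec (CommRingCat.of k) : X ⟶ specPt k) Z.1 (a l) * b) := fun l b => by
    obtain ⟨s, rfl⟩ := red_surjective η Z b
    rw [← mul_eq_jMul η Z (hkill l), ha l l₀, map_mul, mul_comm (rB η Z.1 (algebraMap k B (a l))), mul_assoc,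
      mul_eq_jMul η Z (S'.kill l₀), map_mul, red_rB, AlgHom.commutes]
    rfl
  simp only [LocHom.hom_jMul _ (S.kill _) (hkill _), h1]
  let D : Fin S.n → SecK k (tgt k X) Z.1 := fun l => resK k (tgt k X) (le_inf h h') (c l U W)
  have h2 : ∀ (s : Finset (Fin S.n)) (v : Γ(X, Z.1)), dOf (∑ l ∈ s, a l • D l) v =
      ∑ l ∈ s, cU (X ↘ Spec (CommRingCat.of k) : X ⟶ specPt k) Z.1 (a l) * dOf (D l) v := fun s v => by
    classical
    induction s using Finset.induction_on with
    | empty => exact dOf_zero v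
    | insert i s hi ih => rw [Finset.sum_insert hi, Finset.sum_insert hi, dOf_add, dOf_smul, ih]
  have h3 : resK k (tgt k X) (le_inf h h') ((∑ l, a l • c l) U W) = ∑ l, a l • D l := by
    simp only [Finset.sum_apply, Pi.smul_apply, map_sum, map_smul, D]
  have h4 : ∀ (s : Finset (Fin S.n)) (v : Fin S.n → Γ(X, Z.1)),
      ∑ l ∈ s, jMul η Z (S'.e l₀) (v l) = jMul η Z (S'.e l₀) (∑ l ∈ s, v l) := fun s v => by
    classical
    induction s using Finset.induction_on with
    | empty => simp [jMul_zero η Z (S'.kill l₀)]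
    | insert i s hi ih => rw [Finset.sum_insert hi, Finset.sum_insert hi, ih, jMul_add η Z (S'.kill l₀)]
  rw [h4, h3, h2]

theorem toBase_εd (l : Fin 1) : (toBase (dual k k)) ((S₁ k).e l) = 0 := rfl

theorem toBase_ker_le : RingHom.ker (toBase (dual k k)).toAlgHom.toRingHom ≤ (S₁ k).span := fun a ha =>
  maxIdeal_le_S₁ ((Art.mem_maximalIdeal_iff _ a).2 ha)

/-- A deformation as an extension of the scheme. -/
def extOf (ξ : DefSch X (X ↘ Spec (CommRingCat.of k)) (dual k k)) :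
    ExtD (toBase (dual k k)) (slf (X ↘ Spec (CommRingCat.of k))) where
  D := ξ
  c := ξ.i
  hc := by
    rw [ξ.i_f]
    rfl
  hci := Category.id_comp _

theorem extOf_surjective : Function.Surjective (extOf (k := k) (X := X)) := by
  rintro ⟨D, c, hc, hci⟩
  refine ⟨D, ?_⟩
  have e : ∀ (c' : X ⟶ D.total) (h : c' ≫ D.f = (slf (X ↘ Spec (CommRingCat.of k))).f ≫ specMap (toBase (dual k k)))
      (h' : (slf (X ↘ Spec (CommRingCat.of k))).i ≫ c' = D.i), c' = c →
      (⟨D, c', h, h'⟩ : ExtD (toBase (dual k k)) (slf (X ↘ Spec (CommRingCat.of k)))) = ⟨D, c, hc, hci⟩ := by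
    intro c' h h' e
    subst e
    rfl
  exact e _ _ _ (hci.symm.trans (Category.id_comp c))

theorem iso'_iff_cl (ξ ξ' : DefSch X (X ↘ Spec (CommRingCat.of k)) (dual k k)) :
    (extOf ξ).Iso' (extOf ξ') ↔ ξ.cl = ξ'.cl := by
  constructor
  · rintro ⟨g, hgf, hgi, -⟩
    exact Groth.L14.DefLift.cl_eq_of_hom g hgf hgi
  · intro h
    obtain ⟨e⟩ := Quotient.exact h
    exact ⟨e.iso.hom, e.hom_f, e.i_hom, e.i_hom⟩

set_option maxHeartbeats 1000000 in
/-- First-order deformations of a smooth scheme are `H¹` of the tangent sheaf. -/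
theorem nonempty_tangent_equiv [DCoh.HasSheafHom (Omega.sheaf (X ↘ Spec (CommRingCat.of k)))]
    [TangentStr (defFunctor (Λ := k) X (X ↘ Spec (CommRingCat.of k)))] :
    Nonempty (TangentSpace (defFunctor (Λ := k) X (X ↘ Spec (CommRingCat.of k))) ≃ₗ[k]
      Coh.HH X ((DCoh.sheafHom (Omega.sheaf (X ↘ Spec (CommRingCat.of k)))).obj (Coh.structureModule X)) 1) := by
  haveI := isQCoh_tgt (k := k) (X := X)
  have hκs := (exists_class k (tgt k X)).choose_spec
  set κ := (exists_class k (tgt k X)).choose with hκdef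
  let x₀ := slf (X ↘ Spec (CommRingCat.of k))
  let ξ₀ := x₀.baseChange (ofBase (dual k k))
  have hπ : pullback.fst x₀.f (specMap (ofBase (dual k k))) ≫ x₀.f = ξ₀.f ≫ specMap (ofBase (dual k k)) :=
    pullback.condition
  have hπi : ξ₀.i ≫ pullback.fst x₀.f (specMap (ofBase (dual k k))) = x₀.i := DefSch.baseChange_i_fst _ _
  let α : Frm (ofBase (dual k k)) x₀ ξ₀ := fun U => LocHom.ofHom hπ hπi U
  obtain ⟨Φ, hΦs, hΦi, hΦκ⟩ := exists_extClass (dual k k).res_surjective (S₁ k) toBase_ker_le toBase_εd (extOf ξ₀)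
  let clsOf : DefSch X (X ↘ Spec (CommRingCat.of k)) (dual k k) → Coh.HH X (tgt k X) 1 :=
    fun ξ => Φ (extOf ξ) (⟨0, Nat.one_pos⟩ : Fin (S₁ k).n)
  have hspl : ∀ (ξ : DefSch X (X ↘ Spec (CommRingCat.of k)) (dual k k)) (μ : Art.base k k ⟶ dual k k)
      (σ : Frm μ x₀ ξ) (c : Fin (S₁ k).n → Fn k (tgt k X)) (hc : IsCls (S₁ k) σ c),
      clsOf ξ = κ ⟨c ⟨0, Nat.one_pos⟩, hc.cocycle ⟨0, Nat.one_pos⟩⟩ := by
    intro ξ μ σ c hc
    obtain rfl : μ = ofBase (dual k k) := Groth.L12.hom_ext fun a =>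
      ((congrArg μ (Algebra.algebraMap_self_apply a).symm).trans (ofBase_apply μ a)).trans rfl
    obtain ⟨θ, hθ⟩ := exists_frame (extOf ξ₀) (extOf ξ) (dual k k).res_surjective
    obtain ⟨c', hc'⟩ := hθ.exists_isCls (S₁ k) toBase_ker_le
    refine (hΦκ (extOf ξ) θ c' hθ hc' (fun l => ⟨c' l, hc'.cocycle l⟩) (fun l => rfl) κ hκdef ⟨0, Nat.one_pos⟩).trans ?_
    let σ' : Frm (ofBase (dual k k)) x₀ ξ := fun U =>
      ⟨((α U).comp (θ U)).hom, ((α U).comp (θ U)).hom_rB, ((α U).comp (θ U)).red_hom⟩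
    have hσ' : IsCls (S₁ k) σ' c' := by
      intro U W Z h h' r
      have e : ∀ (V : X.affineOpens) (hV : Z.1 ≤ V.1) r,
          ((σ' V).restrict hV).hom r = (((α V).comp (θ V)).restrict hV).hom r := fun V hV r => by
        let T : LocHom (ofBase (dual k k)) x₀ ξ Z := ⟨(((α V).comp (θ V)).restrict hV).hom,
          (((α V).comp (θ V)).restrict hV).hom_rB, (((α V).comp (θ V)).restrict hV).red_hom⟩
        have e : (σ' V).restrict hV = T := LocHom.restrict_unique (LocHom.restricts_restrict _ hV)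
          (LocHom.restricts_restrict ((α V).comp (θ V)) hV)
        rw [e]
        rfl
      rw [e, e]
      exact hc'.comp α (fun U Z h => LocHom.ofHom_restrict hπ hπi h) U W Z h h' r
    obtain ⟨t, ht⟩ := hc.bdry_of_diff hσ' fun U r => Ideal.map_mono maxIdeal_le_S₁ ((red_eq_zero_iff ξ U _).1 (by
      rw [map_sub, (σ' U).red_hom, (σ U).red_hom, sub_self]))
    rw [← sub_eq_zero, ← map_sub, hκs.2]
    refine ⟨t ⟨0, Nat.one_pos⟩, ?_⟩
    show _ = c' ⟨0, Nat.one_pos⟩ - c ⟨0, Nat.one_pos⟩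
    rw [ht ⟨0, Nat.one_pos⟩, add_sub_cancel_left]
  have hcl : ∀ ξ ξ', clsOf ξ = clsOf ξ' ↔ ξ.cl = ξ'.cl := fun ξ ξ' => by
    rw [← iso'_iff_cl, ← hΦi]
    refine ⟨fun h => funext fun l => ?_, fun h => congrFun h ⟨0, Nat.one_pos⟩⟩
    obtain rfl : l = ⟨0, Nat.one_pos⟩ := Subsingleton.elim (α := Fin 1) l _
    exact h
  let Ψ : (defFunctor (Λ := k) X (X ↘ Spec (CommRingCat.of k))).obj (dual k k) → Coh.HH X (tgt k X) 1 :=
    Quotient.lift clsOf fun a b h => (hcl a b).2 (Quotient.sound h)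
  have hpush : ∀ {A : Art k k} (ν : A ⟶ dual k k) (ζ : DefSch X (X ↘ Spec (CommRingCat.of k)) A) (S : SocBasis A)
      (σ : Frm (ofBase A) x₀ ζ) (c : Fin S.n → Fn k (tgt k X)) (hc : IsCls S σ c) (a : Fin S.n → k),
      (∀ l, ν (S.e l) = algebraMap k (dual k k) (a l) * εd) →
      Ψ ((defFunctor (Λ := k) X (X ↘ Spec (CommRingCat.of k))).map ν ζ.cl) = ∑ l, a l • κ ⟨c l, hc.cocycle l⟩ := by
    intro A ν ζ S σ c hc a ha
    rw [defFunctor_map_cl]
    show clsOf _ = _
    have h := hc.push S (S₁ k) rfl (η := ζ.baseChange ν) (g := pullback.fst ζ.f (specMap ν)) pullback.condition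
      (DefSch.baseChange_i_fst _ _) a (fun l _ => ha l)
    rw [hspl _ _ _ _ h]
    simp only [← map_smul, ← map_sum]
    congr 1
    refine Subtype.ext ?_
    simp only [Submodule.coe_sum, Submodule.coe_smul]
  have hadd : ∀ P Q : TangentSpace (defFunctor (Λ := k) X (X ↘ Spec (CommRingCat.of k))),
      Ψ (P + Q).val = Ψ P.val + Ψ Q.val := by
    intro P Q
    obtain ⟨z, h1, h2⟩ := (Groth.L12.cmp_surj_iff _ (ArtFun.Art.isFibreProd_dual2 (Λ := k) (k := k))).1
      (Groth.L14.DefLift.heps_sch X (X ↘ Spec (CommRingCat.of k)) _ _ ArtFun.Art.isFibreProd_dual2).2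
      P.val Q.val (@Subsingleton.elim _ (Groth.L14.DefLift.h0_sch X (X ↘ Spec (CommRingCat.of k))).2 _ _)
    have h3 : (P + Q).val = (defFunctor (Λ := k) X (X ↘ Spec (CommRingCat.of k))).map plus z := by
      subst h1 h2
      exact TangentStr.add_eq z
    rw [h3, ← h1, ← h2]
    induction z using Quotient.inductionOn with
    | h ζ =>
      let σ : Frm (ofBase _) x₀ ζ := fun U => (exists_spl ζ U).some
      obtain ⟨c, hc⟩ := exists_splClass (S₂ k) maxIdeal_le_S₂ σ
      rw [show (Quotient.mk _ ζ : (defFunctor (Λ := k) X (X ↘ Spec (CommRingCat.of k))).obj (dual2 k k)) = ζ.cl from rfl,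
        hpush plus ζ (S₂ k) σ c hc _ plus_εd₂, hpush pr₁ ζ (S₂ k) σ c hc _ pr₁_εd₂,
        hpush pr₂ ζ (S₂ k) σ c hc _ pr₂_εd₂]
      show ∑ l : Fin 2, _ = ∑ l : Fin 2, _ + ∑ l : Fin 2, _
      simp only [Fin.sum_univ_two]
      simp
  have hsmul : ∀ (r : k) (P : TangentSpace (defFunctor (Λ := k) X (X ↘ Spec (CommRingCat.of k)))),
      Ψ (r • P).val = r • Ψ P.val := by
    intro r P
    rw [show (r • P).val = (defFunctor (Λ := k) X (X ↘ Spec (CommRingCat.of k))).map (scale r) P.val from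
      TangentStr.smul_eq r P.val]
    obtain ⟨ζ, hζ⟩ := Quotient.exists_rep P.val
    rw [← hζ]
    let σ : Frm (ofBase _) x₀ ζ := fun U => (exists_spl ζ U).some
    obtain ⟨c, hc⟩ := exists_splClass (S₁ k) maxIdeal_le_S₁ σ
    rw [show (Quotient.mk _ ζ : (defFunctor (Λ := k) X (X ↘ Spec (CommRingCat.of k))).obj (dual k k)) = ζ.cl from rfl,
      hpush (scale r) ζ (S₁ k) σ c hc (fun _ => r) (fun _ => scale_εd r)]
    show ∑ l : Fin 1, r • _ = r • clsOf ζ
    rw [Fin.sum_univ_one, hspl ζ _ σ c hc]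
    rfl
  let T : TangentSpace (defFunctor (Λ := k) X (X ↘ Spec (CommRingCat.of k))) →ₗ[k] Coh.HH X (tgt k X) 1 :=
    { toFun := fun P => Ψ P.val
      map_add' := hadd
      map_smul' := hsmul }
  have hT : Function.Bijective T := by
    refine ⟨fun P Q h => ?_, fun v => ?_⟩
    · obtain ⟨ξ, hξ⟩ := Quotient.exists_rep P.val
      obtain ⟨ξ', hξ'⟩ := Quotient.exists_rep Q.val
      have h' : Ψ P.val = Ψ Q.val := h
      rw [← hξ, ← hξ'] at h'
      have := (hcl ξ ξ').1 h'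
      exact hξ.symm.trans (this.trans hξ')
    · obtain ⟨E, hE⟩ := hΦs fun _ => v
      obtain ⟨ξ, rfl⟩ := extOf_surjective E
      exact ⟨TangentSpace.mk ξ.cl, congrFun hE ⟨0, Nat.one_pos⟩⟩
  obtain ⟨e⟩ := exists_hh_equiv (k := k) (X := X) 1
  exact ⟨(LinearEquiv.ofBijective T hT).trans e⟩

end Groth.L14.LocTriv
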