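import Groth.Agent.L14.DefLift.LocTriv.Ring

/-! # Gluing local morphisms of deformations -/

set_option autoImplicit false
set_option linter.style.haveILetI false
set_option linter.unusedSectionVars false
set_option backward.isDefEq.respectTransparency.types false
set_option backward.isDefEq.respectTransparency false

universe u

open CategoryTheory CategoryTheory.Limits AlgebraicGeometry TopologicalSpace Opposite ArtFun ArtFun.Art

noncomputable section

namespace Groth.L14.LocTriv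

open Groth.L14.DefLift (specMap_baseS surjective_i)

variable {k : Type u} [Field k] {X : Scheme.{u}} {x : X ⟶ specPt k} {A A' : Art k k}

section Chart

variable (ξ : DefSch X x A)

/-- The chart of a deformation over an affine open. -/
def chartMap (U : X.affineOpens) : Spec Γ(ξ.total, vOf ξ U.1) ⟶ ξ.total := (isAffineOpen_vOf ξ U).fromSpec

instance (U : X.affineOpens) : IsOpenImmersion (chartMap ξ U) :=
  inferInstanceAs (IsOpenImmersion (isAffineOpen_vOf ξ U).fromSpec)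

theorem chartMap_f (U : X.affineOpens) :
    chartMap ξ U ≫ ξ.f = Spec.map (CommRingCat.ofHom (rB ξ U.1)) :=
  (specMap_baseS ξ (isAffineOpen_vOf ξ U)).symm

theorem fromSpec_i (U : X.affineOpens) :
    U.2.fromSpec ≫ ξ.i = Spec.map (CommRingCat.ofHom (red ξ U.1)) ≫ chartMap ξ U :=
  (IsAffineOpen.SpecMap_appLE_fromSpec ξ.i (isAffineOpen_vOf ξ U) U.2 (preimage_vOf ξ U.1).ge).symm

theorem res_chartMap {U U' : X.affineOpens} (h : U'.1 ≤ U.1) :
    Spec.map (CommRingCat.ofHom (res ξ h)) ≫ chartMap ξ U = chartMap ξ U' :=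
  IsAffineOpen.map_fromSpec _ (isAffineOpen_vOf ξ U') (homOfLE (vOf_mono ξ h)).op

theorem exists_chartMap_eq (z : ξ.total) (O : ξ.total.Opens) (hz : z ∈ O) :
    ∃ (U : X.affineOpens) (q : Spec Γ(ξ.total, vOf ξ U.1)), chartMap ξ U q = z ∧ U.1 ≤ ξ.i ⁻¹ᵁ O := by
  obtain ⟨w, rfl⟩ := surjective_i ξ z
  obtain ⟨_, ⟨U, hU, rfl⟩, hwU, hUO⟩ :=
    X.isBasis_affineOpens.exists_subset_of_mem_open (show w ∈ ξ.i ⁻¹ᵁ O from hz) (ξ.i ⁻¹ᵁ O).2
  obtain ⟨p, hp⟩ := hU.range_fromSpec.ge hwU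
  refine ⟨⟨U, hU⟩, Spec.map (CommRingCat.ofHom (red ξ U)) p, ?_, hUO⟩
  refine Eq.trans ?_ (congrArg ξ.i hp)
  exact (congrArg (fun g : _ ⟶ ξ.total => g p) (fromSpec_i ξ ⟨U, hU⟩)).symm

/-- The cover by the charts. -/
def chartCover : ξ.total.OpenCover :=
  Scheme.Cover.mkOfCovers (P := @IsOpenImmersion) X.affineOpens (fun U => Spec Γ(ξ.total, vOf ξ U.1)) (fun U => chartMap ξ U)
    (fun z => by
      obtain ⟨U, q, hq, -⟩ := exists_chartMap_eq ξ z ⊤ trivial
      exact ⟨U, q, hq⟩)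
    (fun U => inferInstance)

theorem range_chartMap (U : X.affineOpens) : Set.range (chartMap ξ U) = vOf ξ U.1 :=
  (isAffineOpen_vOf ξ U).range_fromSpec

theorem chart_agree {T : Scheme.{u}} (m : ∀ U : X.affineOpens, Spec Γ(ξ.total, vOf ξ U.1) ⟶ T)
    (hm : ∀ {U U' : X.affineOpens} (h : U'.1 ≤ U.1), Spec.map (CommRingCat.ofHom (res ξ h)) ≫ m U = m U')
    (U W : X.affineOpens) :
    pullback.fst (chartMap ξ U) (chartMap ξ W) ≫ m U = pullback.snd (chartMap ξ U) (chartMap ξ W) ≫ m W := by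
  let g := pullback.fst (chartMap ξ U) (chartMap ξ W) ≫ chartMap ξ U
  refine Scheme.hom_ext_of_forall _ _ fun p => ?_
  have hp : g p ∈ vOf ξ U.1 ⊓ vOf ξ W.1 := by
    refine ⟨(range_chartMap ξ U).le ⟨_, rfl⟩, (range_chartMap ξ W).le ⟨pullback.snd (chartMap ξ U) (chartMap ξ W) p, ?_⟩⟩
    show _ = g p
    rw [show g = pullback.snd (chartMap ξ U) (chartMap ξ W) ≫ chartMap ξ W from pullback.condition]
    rfl
  obtain ⟨Z, q, hq, hZO⟩ := exists_chartMap_eq ξ (g p) _ hp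
  have h1 : Z.1 ≤ U.1 := (hZO.trans (ξ.i.preimage_mono inf_le_left)).trans (preimage_vOf ξ U.1).le
  have h2 : Z.1 ≤ W.1 := (hZO.trans (ξ.i.preimage_mono inf_le_right)).trans (preimage_vOf ξ W.1).le
  let l : Spec Γ(ξ.total, vOf ξ Z.1) ⟶ pullback (chartMap ξ U) (chartMap ξ W) :=
    pullback.lift (Spec.map (CommRingCat.ofHom (res ξ h1))) (Spec.map (CommRingCat.ofHom (res ξ h2)))
      (by rw [res_chartMap, res_chartMap])
  have hlg : l ≫ g = chartMap ξ Z := by
    show pullback.lift _ _ _ ≫ pullback.fst _ _ ≫ _ = _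
    rw [pullback.lift_fst_assoc, res_chartMap]
  haveI : IsOpenImmersion g := inferInstanceAs (IsOpenImmersion (pullback.fst _ _ ≫ _))
  haveI : IsOpenImmersion l := by
    haveI : IsOpenImmersion (l ≫ g) := by rw [hlg]; infer_instance
    exact IsOpenImmersion.of_comp l g
  have hl : l q = p := by
    refine (Scheme.Hom.isOpenEmbedding g).injective ?_
    rw [← Scheme.Hom.comp_apply, hlg, hq]
  refine ⟨l.opensRange, ⟨q, hl⟩, ?_⟩
  rw [← IsOpenImmersion.lift_fac l l.opensRange.ι (by rw [Scheme.Opens.range_ι]; rfl), Category.assoc, Category.assoc]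
  refine congrArg (_ ≫ ·) ?_
  rw [pullback.lift_fst_assoc, pullback.lift_snd_assoc, hm h1, hm h2]

theorem exists_desc {T : Scheme.{u}} (m : ∀ U : X.affineOpens, Spec Γ(ξ.total, vOf ξ U.1) ⟶ T)
    (hm : ∀ {U U' : X.affineOpens} (h : U'.1 ≤ U.1), Spec.map (CommRingCat.ofHom (res ξ h)) ≫ m U = m U') :
    ∃ c : ξ.total ⟶ T, ∀ U, chartMap ξ U ≫ c = m U :=
  ⟨Scheme.Cover.glueMorphisms (chartCover ξ) m (chart_agree ξ m hm),
    fun U => Scheme.Cover.ι_glueMorphisms (chartCover ξ) m (chart_agree ξ m hm) U⟩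

theorem chart_hom_ext {T : Scheme.{u}} (c c' : ξ.total ⟶ T) (h : ∀ U, chartMap ξ U ≫ c = chartMap ξ U ≫ c') :
    c = c' :=
  Scheme.Cover.hom_ext (chartCover ξ) _ _ h

end Chart

variable {μ : A ⟶ A'} {ξ : DefSch X x A} {ξ' : DefSch X x A'}

theorem chartMap_hom {c : ξ'.total ⟶ ξ.total} (hc : c ≫ ξ.f = ξ'.f ≫ specMap μ) (hci : ξ'.i ≫ c = ξ.i)
    (U : X.affineOpens) :
    chartMap ξ' U ≫ c = Spec.map (CommRingCat.ofHom (LocHom.ofHom hc hci U).hom) ≫ chartMap ξ U :=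
  (IsAffineOpen.SpecMap_appLE_fromSpec c (isAffineOpen_vOf ξ U) (isAffineOpen_vOf ξ' U)
    (Groth.L14.DefLift.i_le_of_le ξ' (by rw [preimage_vOf, ← Scheme.Hom.comp_preimage, hci, preimage_vOf]))).symm

/-- A compatible family of local morphisms glues. -/
theorem exists_hom_of_fam (θ : ∀ U, LocHom μ ξ ξ' U)
    (hθ : ∀ (U U' : X.affineOpens) (h : U'.1 ≤ U.1), (θ U).Restricts (θ U') h) :
    ∃ (c : ξ'.total ⟶ ξ.total) (hc : c ≫ ξ.f = ξ'.f ≫ specMap μ) (hci : ξ'.i ≫ c = ξ.i),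
      ∀ U, LocHom.ofHom hc hci U = θ U := by
  obtain ⟨c, hc⟩ := exists_desc ξ' (fun U => Spec.map (CommRingCat.ofHom (θ U).hom) ≫ chartMap ξ U) (by
    intro U U' h
    rw [← Category.assoc, ← Spec.map_comp,
      show CommRingCat.ofHom (θ U).hom ≫ CommRingCat.ofHom (res ξ' h) =
        CommRingCat.ofHom (res ξ h) ≫ CommRingCat.ofHom (θ U').hom from
          CommRingCat.hom_ext (RingHom.ext (hθ U U' h)),
      Spec.map_comp, Category.assoc, res_chartMap])
  have h1 : c ≫ ξ.f = ξ'.f ≫ specMap μ := by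
    refine chart_hom_ext ξ' _ _ fun U => ?_
    rw [← Category.assoc, hc, Category.assoc, chartMap_f, ← Category.assoc, chartMap_f, ← Spec.map_comp]
    show _ = _ ≫ Spec.map (CommRingCat.ofHom μ.toAlgHom.toRingHom)
    rw [← Spec.map_comp]
    congr 1
    exact CommRingCat.hom_ext (RingHom.ext (θ U).hom_rB)
  have h2 : ξ'.i ≫ c = ξ.i := by
    refine Scheme.hom_ext_of_forall _ _ fun w => ?_
    obtain ⟨_, ⟨U, hU, rfl⟩, hwU, -⟩ :=
      X.isBasis_affineOpens.exists_subset_of_mem_open (Set.mem_univ w) isOpen_univ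
    refine ⟨U, hwU, ?_⟩
    rw [← hU.isoSpec_hom_fromSpec, Category.assoc, Category.assoc]
    refine congrArg (_ ≫ ·) ?_
    rw [← Category.assoc, fromSpec_i ξ' ⟨U, hU⟩, Category.assoc, hc, ← Category.assoc, ← Spec.map_comp,
      fromSpec_i ξ ⟨U, hU⟩]
    congr 2
    exact CommRingCat.hom_ext (RingHom.ext (θ ⟨U, hU⟩).red_hom)
  refine ⟨c, h1, h2, fun U => LocHom.ext' fun r => ?_⟩
  have h := (chartMap_hom h1 h2 U).symm.trans (hc U)
  rw [cancel_mono] at h
  exact ConcreteCategory.congr_hom (Spec.map_injective h) r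

theorem hom_ext_loc {c c' : ξ'.total ⟶ ξ.total} (hc : c ≫ ξ.f = ξ'.f ≫ specMap μ) (hci : ξ'.i ≫ c = ξ.i)
    (hc' : c' ≫ ξ.f = ξ'.f ≫ specMap μ) (hci' : ξ'.i ≫ c' = ξ.i)
    (h : ∀ U, LocHom.ofHom hc hci U = LocHom.ofHom hc' hci' U) : c = c' :=
  chart_hom_ext ξ' _ _ fun U => by rw [chartMap_hom hc hci, chartMap_hom hc' hci', h U]

end Groth.L14.LocTriv
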