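import Groth.Agent.L14.DefLift.LocTriv.Smooth
import Groth.Agent.L14.DefLift.LocTriv.Glue
import Mathlib.AlgebraicGeometry.Gluing
import Mathlib.RingTheory.Spectrum.Prime.Topology

/-! # Twisting a deformation by derivations -/

set_option autoImplicit false
set_option linter.style.haveILetI false
set_option linter.unusedSectionVars false
set_option backward.isDefEq.respectTransparency.types false
set_option backward.isDefEq.respectTransparency false

universe u

open CategoryTheory CategoryTheory.Limits AlgebraicGeometry TopologicalSpace Opposite ArtFun ArtFun.Art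

noncomputable section

namespace Groth.L14.LocTriv

open Groth.L18.Frame (ro ro_ro ro_self)

variable {k : Type u} [Field k] {X : Scheme.{u}} {x : X ⟶ specPt k} {A : Art k k}

namespace LocHom

variable {A' : Art k k} {μ : A ⟶ A'} {ξ : DefSch X x A} {ξ' : DefSch X x A'} {U U' : X.affineOpens}

variable (ξ) in
/-- The identity. -/
protected def id (U : X.affineOpens) : LocHom (𝟙 A) ξ ξ U :=
  ⟨RingHom.id _, fun _ => rfl, fun _ => rfl⟩

theorem hom_jMul (θ : LocHom μ ξ ξ' U) {a : A} (ha : ∀ c ∈ IsLocalRing.maximalIdeal A, c * a = 0)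
    (ha' : ∀ c ∈ IsLocalRing.maximalIdeal A', c * μ a = 0) (b : Γ(X, U.1)) :
    θ.hom (jMul ξ U a b) = jMul ξ' U (μ a) b := by
  obtain ⟨r, rfl⟩ := red_surjective ξ U b
  rw [← mul_eq_jMul ξ U ha, map_mul, θ.hom_rB, mul_eq_jMul ξ' U ha', θ.red_hom]

theorem hom_sum_id {ξ' : DefSch X x A} (θ : LocHom (𝟙 A) ξ ξ' U) (S : SocBasis A) (b : Fin S.n → Γ(X, U.1)) :
    θ.hom (S.sum ξ U b) = S.sum ξ' U b := by
  simp only [SocBasis.sum, map_sum]
  exact Finset.sum_congr rfl fun l _ => hom_jMul θ (S.kill l) (S.kill l) _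

end LocHom

/-- Twisting data. -/
structure TwistData (ξ₀ : DefSch X x A) (S : SocBasis A) where
  /-- the derivations -/
  D : ∀ U U' : X.affineOpens, U'.1 ≤ U.1 → Fin S.n → Γ(X, U'.1) → Γ(X, U'.1)
  isDer : ∀ U U' h l, IsDer x U'.1 (D U U' h l)
  cocycle : ∀ (U U' U'' : X.affineOpens) (h : U'.1 ≤ U.1) (h' : U''.1 ≤ U'.1) l a,
    D U U'' (h'.trans h) l (ro h' a) = ro h' (D U U' h l a) + D U' U'' h' l (ro h' a)

namespace TwistData

variable {ξ₀ : DefSch X x A} {S : SocBasis A} (t : TwistData ξ₀ S)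

theorem D_self (U : X.affineOpens) (h : U.1 ≤ U.1) (l : Fin S.n) (a : Γ(X, U.1)) : t.D U U h l a = 0 := by
  have e := t.cocycle U U U h h l a
  rwa [ro_self, ro_self, left_eq_add] at e

/-- The automorphism. -/
def aut (U U' : X.affineOpens) (h : U'.1 ≤ U.1) : LocHom (𝟙 A) ξ₀ ξ₀ U' :=
  (LocHom.id ξ₀ U').addDer (t.D U U' h) (t.isDer U U' h)

/-- The twisted restriction. -/
def phi {U U' : X.affineOpens} (h : U'.1 ≤ U.1) : R ξ₀ U.1 →+* R ξ₀ U'.1 := (t.aut U U' h).hom.comp (res ξ₀ h)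

theorem phi_apply {U U' : X.affineOpens} (h : U'.1 ≤ U.1) (r : R ξ₀ U.1) :
    t.phi h r = res ξ₀ h r + S.sum ξ₀ U' fun l => t.D U U' h l (red ξ₀ U'.1 (res ξ₀ h r)) := rfl

theorem red_phi {U U' : X.affineOpens} (h : U'.1 ≤ U.1) (r : R ξ₀ U.1) :
    red ξ₀ U'.1 (t.phi h r) = ro h (red ξ₀ U.1 r) :=
  ((t.aut U U' h).red_hom _).trans (red_res ξ₀ h r)

theorem phi_rB {U U' : X.affineOpens} (h : U'.1 ≤ U.1) (a : A) : t.phi h (rB ξ₀ U.1 a) = rB ξ₀ U'.1 a := by
  show (t.aut U U' h).hom (res ξ₀ h (rB ξ₀ U.1 a)) = _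
  rw [res_rB, LocHom.hom_rB]
  rfl

theorem phi_self {U : X.affineOpens} (h : U.1 ≤ U.1) (r : R ξ₀ U.1) : t.phi h r = r := by
  rw [phi_apply, res_self]
  simp only [D_self]
  exact (congrArg (r + ·) (S.sum_zero ξ₀ U)).trans (add_zero r)

theorem phi_phi {U U' U'' : X.affineOpens} (h : U'.1 ≤ U.1) (h' : U''.1 ≤ U'.1) (r : R ξ₀ U.1) :
    t.phi h' (t.phi h r) = t.phi (h'.trans h) r := by
  rw [phi_apply t h', phi_apply t h, phi_apply, map_add, res_res, S.res_sum, add_assoc]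
  refine congrArg (res ξ₀ _ r + ·) ?_
  rw [← S.sum_add]
  refine congrArg (S.sum ξ₀ U'') (funext fun l => ?_)
  show ro h' _ + t.D U' U'' h' l (red ξ₀ U''.1 _) = _
  rw [map_add, S.red_sum, add_zero, ← res_res ξ₀ h h' r, red_res ξ₀ h', t.cocycle U U' U'' h h']

/-- The inverse automorphism. -/
theorem bijective_aut (U U' : X.affineOpens) (h : U'.1 ≤ U.1) : Function.Bijective (t.aut U U' h).hom := by
  let g := (LocHom.id ξ₀ U').addDer (-t.D U U' h) (fun l => ⟨fun a b => by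
      show -(t.D U U' h l (a + b)) = -t.D U U' h l a + -t.D U U' h l b
      rw [(t.isDer U U' h l).add, neg_add], fun a b => by
      show -(t.D U U' h l (a * b)) = a * -t.D U U' h l b + b * -t.D U U' h l a
      rw [(t.isDer U U' h l).mul, mul_neg, mul_neg, neg_add], fun c => by
      show -(t.D U U' h l (cU x U'.1 c)) = 0
      rw [(t.isDer U U' h l).base, neg_zero]⟩)
  have key : ∀ (D E : Fin S.n → Γ(X, U'.1) → Γ(X, U'.1)) r, E = -D →
      (r + S.sum ξ₀ U' fun l => D l (red ξ₀ U'.1 r)) +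
        (S.sum ξ₀ U' fun l => E l (red ξ₀ U'.1 (r + S.sum ξ₀ U' fun l => D l (red ξ₀ U'.1 r)))) = r := by
    intro D E r hE
    subst hE
    rw [map_add, S.red_sum, add_zero, add_assoc, ← S.sum_add]
    exact (congrArg (r + ·) ((congrArg (S.sum ξ₀ U') (funext fun l => add_neg_cancel _)).trans
      (S.sum_zero ξ₀ U'))).trans (add_zero r)
  exact Function.bijective_iff_has_inverse.2 ⟨g.hom, fun r => key (t.D U U' h) (-t.D U U' h) r rfl,
    fun r => key (-t.D U U' h) (t.D U U' h) r (neg_neg _).symm⟩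

/-- The diagram of charts. -/
def diag : X.affineOpens ⥤ Scheme.{u} where
  obj U := Spec Γ(ξ₀.total, vOf ξ₀ U.1)
  map h := Spec.map (CommRingCat.ofHom (t.phi h.le))
  map_id U := by
    rw [show CommRingCat.ofHom (t.phi (CategoryStruct.id U : U ⟶ U).le) = 𝟙 _ from
      CommRingCat.hom_ext (RingHom.ext (t.phi_self _))]
    exact Spec.map_id _
  map_comp {U U' U''} g g' := by
    rw [← Spec.map_comp]
    refine congrArg Spec.map (CommRingCat.hom_ext (RingHom.ext fun r => ?_))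
    exact (t.phi_phi g'.le g.le r).symm

instance {U U' : X.affineOpens} (g : U ⟶ U') : IsOpenImmersion (t.diag.map g) := by
  haveI : IsOpenImmersion (Spec.map (CommRingCat.ofHom (res ξ₀ g.le))) := by
    haveI : IsOpenImmersion (Spec.map (CommRingCat.ofHom (res ξ₀ g.le)) ≫ chartMap ξ₀ U') := by
      rw [res_chartMap]
      infer_instance
    exact IsOpenImmersion.of_comp _ (chartMap ξ₀ U')
  haveI : IsIso (CommRingCat.ofHom (t.aut U' U g.le).hom) :=
    (ConcreteCategory.isIso_iff_bijective _).2 (t.bijective_aut U' U g.le)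
  show IsOpenImmersion (Spec.map (CommRingCat.ofHom (res ξ₀ g.le) ≫ CommRingCat.ofHom (t.aut U' U g.le).hom))
  rw [Spec.map_comp]
  infer_instance

theorem exists_red_point (U : X.affineOpens) (q : Spec Γ(ξ₀.total, vOf ξ₀ U.1)) :
    ∃ p, Spec.map (CommRingCat.ofHom (red ξ₀ U.1)) p = q := by
  have h : q ∈ Set.range (PrimeSpectrum.comap (red ξ₀ U.1)) := by
    rw [range_comap_of_surjective _ _ (red_surjective ξ₀ U), PrimeSpectrum.mem_zeroLocus]
    intro r hr
    obtain ⟨n, hn⟩ := isNilpotent_ker_red ξ₀ U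
    refine q.isPrime.mem_of_pow_mem n ?_
    have h2 := Ideal.pow_mem_pow hr n
    rw [hn] at h2
    rw [show r ^ n = 0 from h2]
    exact zero_mem _
  exact h

theorem red_phi' {U U' : X.affineOpens} (h : U'.1 ≤ U.1) :
    CommRingCat.ofHom (t.phi h) ≫ CommRingCat.ofHom (red ξ₀ U'.1) =
      CommRingCat.ofHom (res ξ₀ h) ≫ CommRingCat.ofHom (red ξ₀ U'.1) :=
  CommRingCat.hom_ext (RingHom.ext fun r => (t.red_phi h r).trans (red_res ξ₀ h r).symm)

theorem chartMap_diag {U U' : X.affineOpens} (g : U ⟶ U') (q : t.diag.obj U) :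
    chartMap ξ₀ U' (t.diag.map g q) = chartMap ξ₀ U q := by
  obtain ⟨p, rfl⟩ := exists_red_point U q
  have h : Spec.map (CommRingCat.ofHom (red ξ₀ U.1)) ≫ t.diag.map g ≫ chartMap ξ₀ U' =
      Spec.map (CommRingCat.ofHom (red ξ₀ U.1)) ≫ chartMap ξ₀ U := by
    show Spec.map _ ≫ Spec.map _ ≫ _ = _
    rw [← Category.assoc, ← Spec.map_comp, t.red_phi', Spec.map_comp, Category.assoc, res_chartMap]
  exact congrArg (fun c : _ ⟶ ξ₀.total => c p) h

instance : (t.diag ⋙ Scheme.forget).IsLocallyDirected := by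
  constructor
  intro U W V gU gW qU qW e
  have e' : chartMap ξ₀ U qU = chartMap ξ₀ W qW := by
    rw [← t.chartMap_diag gU, ← t.chartMap_diag gW]
    exact congrArg (chartMap ξ₀ V) e
  have hz : chartMap ξ₀ U qU ∈ vOf ξ₀ U.1 ⊓ vOf ξ₀ W.1 :=
    ⟨(range_chartMap ξ₀ U).le ⟨_, rfl⟩, e' ▸ (range_chartMap ξ₀ W).le ⟨_, rfl⟩⟩
  obtain ⟨Z, q, hq, hZO⟩ := exists_chartMap_eq ξ₀ _ _ hz
  have h1 : Z.1 ≤ U.1 := (hZO.trans (ξ₀.i.preimage_mono inf_le_left)).trans (preimage_vOf ξ₀ U.1).le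
  have h2 : Z.1 ≤ W.1 := (hZO.trans (ξ₀.i.preimage_mono inf_le_right)).trans (preimage_vOf ξ₀ W.1).le
  exact ⟨Z, homOfLE h1, homOfLE h2, q,
    (chartMap ξ₀ U).isOpenEmbedding.injective ((t.chartMap_diag (homOfLE h1) q).trans hq),
    (chartMap ξ₀ W).isOpenEmbedding.injective ((t.chartMap_diag (homOfLE h2) q).trans (hq.trans e'))⟩

set_option maxHeartbeats 1600000 in
/-- The twisted deformation exists. -/
theorem exists_twist : ∃ (ξ : DefSch X x A) (ψ : ∀ U, LocHom (𝟙 A) ξ₀ ξ U),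
    ∀ (U U' : X.affineOpens) (h : U'.1 ≤ U.1), LocHom.Diff S (ψ U') ((ψ U).restrict h) (t.D U U' h) := by
  let T := colimit t.diag
  let ι : ∀ U : X.affineOpens, Spec Γ(ξ₀.total, vOf ξ₀ U.1) ⟶ T := fun U => colimit.ι t.diag U
  have hι : ∀ {U U' : X.affineOpens} (h : U'.1 ≤ U.1), Spec.map (CommRingCat.ofHom (t.phi h)) ≫ ι U = ι U' :=
    fun {U U'} h => colimit.w t.diag (homOfLE h : U' ⟶ U)
  haveI : ∀ U, IsOpenImmersion (ι U) := fun U => inferInstanceAs (IsOpenImmersion (colimit.ι t.diag U))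
  let co : Cocone t.diag :=
    { pt := spec A
      ι :=
        { app := fun U => Spec.map (CommRingCat.ofHom (rB ξ₀ U.1))
          naturality := fun U U' g => by
            show Spec.map _ ≫ Spec.map (CommRingCat.ofHom (rB ξ₀ U'.1)) = _ ≫ 𝟙 _
            rw [Category.comp_id, ← Spec.map_comp]
            exact congrArg Spec.map (CommRingCat.hom_ext (RingHom.ext (t.phi_rB g.le))) } }
  let f : T ⟶ spec A := colimit.desc t.diag co
  have hf : ∀ U, ι U ≫ f = Spec.map (CommRingCat.ofHom (rB ξ₀ U.1)) := fun U => colimit.ι_desc co U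
  obtain ⟨i, hi⟩ := exists_desc (slf x)
    (fun U => Spec.map (CommRingCat.ofHom ((slfEquiv (x := x) U).symm.toRingHom.comp (red ξ₀ U.1))) ≫ ι U) (by
      intro U U' h
      rw [← hι h, ← Category.assoc, ← Category.assoc, ← Spec.map_comp, ← Spec.map_comp]
      congr 2
      refine CommRingCat.hom_ext (RingHom.ext fun r => ?_)
      show res (slf x) h ((slfEquiv U).symm (red ξ₀ U.1 r)) = (slfEquiv U').symm (red ξ₀ U'.1 (t.phi h r))
      apply (slfEquiv U').injective
      rw [RingEquiv.apply_symm_apply, t.red_phi]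
      show red (slf x) U'.1 (res (slf x) h _) = _
      rw [red_res]
      exact congrArg (ro h) ((slfEquiv U).apply_symm_apply _))
  have hiU : ∀ U : X.affineOpens, U.2.fromSpec ≫ i = Spec.map (CommRingCat.ofHom (red ξ₀ U.1)) ≫ ι U := by
    intro U
    have h := congrArg (Spec.map (CommRingCat.ofHom (red (slf x) U.1)) ≫ ·) (hi U)
    rw [← Category.assoc, ← fromSpec_i (slf x) U, ← Category.assoc, ← Spec.map_comp] at h
    refine Eq.trans ?_ (h.trans ?_)
    · exact (congrArg (· ≫ i) (Category.comp_id U.2.fromSpec)).symm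
    · congr 2
      exact CommRingCat.hom_ext (RingHom.ext fun r => (slfEquiv U).apply_symm_apply _)
  have hpre : ∀ U : X.affineOpens, i ⁻¹ᵁ (ι U).opensRange = U.1 := by
    intro U
    refine TopologicalSpace.Opens.ext (Set.ext fun w => ⟨?_, fun hw => ?_⟩)
    · rintro ⟨q, hq⟩
      obtain ⟨_, ⟨W, hW, rfl⟩, hwW, -⟩ :=
        X.isBasis_affineOpens.exists_subset_of_mem_open (Set.mem_univ w) isOpen_univ
      obtain ⟨p, hp⟩ := hW.range_fromSpec.ge hwW
      have e : ι U q = ι ⟨W, hW⟩ (Spec.map (CommRingCat.ofHom (red ξ₀ W)) p) := by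
        rw [hq]
        refine Eq.trans ?_ (congrArg (fun c : _ ⟶ T => c p) (hiU ⟨W, hW⟩))
        exact congrArg i hp.symm
      obtain ⟨Z, gU, gW, z, hzU, hzW⟩ := (Scheme.IsLocallyDirected.ι_eq_ι_iff t.diag).1 e
      have e2 : chartMap ξ₀ ⟨W, hW⟩ (Spec.map (CommRingCat.ofHom (red ξ₀ W)) p) = chartMap ξ₀ U q := by
        rw [← hzU, ← hzW, t.chartMap_diag, t.chartMap_diag]
      have e3 : ξ₀.i w = chartMap ξ₀ U q := by
        refine Eq.trans ?_ e2
        refine Eq.trans ?_ (congrArg (fun c : _ ⟶ ξ₀.total => c p) (fromSpec_i ξ₀ ⟨W, hW⟩))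
        exact congrArg ξ₀.i hp.symm
      have : w ∈ ξ₀.i ⁻¹ᵁ vOf ξ₀ U.1 := by
        show ξ₀.i w ∈ vOf ξ₀ U.1
        rw [e3]
        exact (range_chartMap ξ₀ U).le ⟨_, rfl⟩
      rwa [preimage_vOf] at this
    · obtain ⟨p, rfl⟩ := U.2.range_fromSpec.ge hw
      exact ⟨_, (congrArg (fun c : _ ⟶ T => c p) (hiU U)).symm⟩
  let 𝒰 : T.OpenCover := Scheme.IsLocallyDirected.openCover t.diag
  haveI hflat : Flat f := IsZariskiLocalAtSource.of_openCover 𝒰 fun U => by
    show Flat (ι U ≫ f)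
    rw [hf, HasRingHomProperty.Spec_iff (P := @Flat)]
    exact rB_flat ξ₀ U
  have hpb : IsPullback i x f (specRes A) := by
    refine Scheme.isPullback_of_openCover i x f (specRes A) 𝒰 fun U => ?_
    have hsq : IsPullback (Spec.map (CommRingCat.ofHom (red ξ₀ U.1))) U.2.fromSpec (ι U) i :=
      IsOpenImmersion.isPullback _ _ _ _ (hiU U) (by rw [U.2.opensRange_fromSpec, hpre])
    have hloc : IsPullback (Spec.map (CommRingCat.ofHom (red ξ₀ U.1))) (U.2.fromSpec ≫ x) (ι U ≫ f) (specRes A) := by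
      rw [hf, ← chartMap_f]
      exact (Groth.L14.DefLift.restrictAff ξ₀ (isAffineOpen_vOf ξ₀ U) U.2 (preimage_vOf ξ₀ U.1)).isPullback
    refine hloc.of_iso hsq.flip.isoPullback (Iso.refl _) (Iso.refl _) (Iso.refl _) ?_ ?_ ?_ ?_
    · simp only [Iso.refl_hom, Category.comp_id]
      exact (hsq.flip.isoPullback_hom_snd).symm
    · simp only [Iso.refl_hom, Category.comp_id]
      show _ = hsq.flip.isoPullback.hom ≫ pullback.fst i (ι U) ≫ x
      rw [hsq.flip.isoPullback_hom_fst_assoc]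
    · simp only [Iso.refl_hom, Category.comp_id, Category.id_comp]
      rfl
    · simp
  let ξ : DefSch X x A := { total := T, f := f, flat := hflat, i := i, isPullback := hpb }
  have hrange : ∀ U : X.affineOpens, Set.range (chartMap ξ U) = Set.range (ι U) := fun U => by
    rw [range_chartMap, ← eq_vOf ξ (U := U.1) (V := (ι U).opensRange) (hpre U)]
    rfl
  let e : ∀ U : X.affineOpens, Spec Γ(ξ.total, vOf ξ U.1) ≅ Spec Γ(ξ₀.total, vOf ξ₀ U.1) := fun U =>
    IsOpenImmersion.isoOfRangeEq (chartMap ξ U) (ι U) (hrange U)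
  have he : ∀ U, (e U).hom ≫ ι U = chartMap ξ U := fun U => IsOpenImmersion.isoOfRangeEq_hom_fac _ _ _
  let ψ₀ : ∀ U : X.affineOpens, Γ(ξ₀.total, vOf ξ₀ U.1) ⟶ Γ(ξ.total, vOf ξ U.1) := fun U => Spec.preimage (e U).hom
  have hψ₀ : ∀ U, Spec.map (ψ₀ U) = (e U).hom := fun U => Spec.map_preimage _
  let ψ : ∀ U, LocHom (𝟙 A) ξ₀ ξ U := fun U =>
    { hom := (ψ₀ U).hom
      hom_rB := fun a => by
        refine ConcreteCategory.congr_hom (Spec.map_injective (a₁ := CommRingCat.ofHom (rB ξ₀ U.1) ≫ ψ₀ U)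
          (a₂ := CommRingCat.ofHom (rB ξ U.1)) ?_) a
        rw [Spec.map_comp, hψ₀, ← hf, ← Category.assoc, he, ← chartMap_f ξ U]
      red_hom := fun r => by
        refine ConcreteCategory.congr_hom (Spec.map_injective (a₁ := ψ₀ U ≫ CommRingCat.ofHom (red ξ U.1))
          (a₂ := CommRingCat.ofHom (red ξ₀ U.1)) ?_) r
        rw [Spec.map_comp, hψ₀, ← cancel_mono (ι U), Category.assoc, he, ← fromSpec_i ξ U]
        exact hiU U }
  refine ⟨ξ, ψ, fun U U' h => ?_⟩
  have hψres : ∀ r, res ξ h ((ψ U).hom r) = (ψ U').hom (t.phi h r) := fun r => by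
    refine ConcreteCategory.congr_hom (Spec.map_injective (a₁ := ψ₀ U ≫ CommRingCat.ofHom (res ξ h))
      (a₂ := CommRingCat.ofHom (t.phi h) ≫ ψ₀ U') ?_) r
    rw [Spec.map_comp, Spec.map_comp, hψ₀, hψ₀, ← cancel_mono (ι U), Category.assoc, he, Category.assoc, hι, he,
      res_chartMap]
  have e1 : (ψ U).restrict h = (ψ U').addDer (t.D U U' h) (t.isDer U U' h) := by
    refine LocHom.restrict_unique (LocHom.restricts_restrict _ h) fun r => ?_
    rw [hψres, LocHom.diff_addDer _ _ (t.isDer U U' h) (res ξ₀ h r), t.phi_apply, map_add, LocHom.hom_sum_id]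
  rw [e1]
  exact LocHom.diff_addDer _ _ _

end TwistData

end Groth.L14.LocTriv
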