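import Groth.Agent.L14.DefLift.LocTriv.Cocycle
import Groth.Agent.L14.DefLift.LocTriv.Twist

/-! # Extensions of a deformation of a smooth scheme and cocycles -/

set_option autoImplicit false
set_option linter.style.haveILetI false
set_option linter.unusedSectionVars false
set_option backward.isDefEq.respectTransparency.types false
set_option backward.isDefEq.respectTransparency false

universe u

open CategoryTheory CategoryTheory.Limits AlgebraicGeometry TopologicalSpace Opposite ArtFun ArtFun.Art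

noncomputable section

namespace Groth.L14.LocTriv

open Groth.L18.Frame (ro)
open Groth.L14.DefLift (isIso_of_hom)

section Comb

variable {k : Type u} [Field k] {X : Scheme.{u}} {x : X ⟶ specPt k} {A A' A'' : Art k k}
variable {μ : A ⟶ A'} {ν : A' ⟶ A''} {ξ : DefSch X x A} {ξ' : DefSch X x A'} {ξ'' : DefSch X x A''}
variable {U U' : X.affineOpens}

theorem LocHom.restrict_comp (θ : LocHom μ ξ ξ' U) (τ : LocHom ν ξ' ξ'' U) (h : U'.1 ≤ U.1) :
    (θ.comp τ).restrict h = (θ.restrict h).comp (τ.restrict h) :=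
  LocHom.restrict_unique (LocHom.restricts_restrict _ h) fun r => by
    show res ξ'' h (τ.hom (θ.hom r)) = (τ.restrict h).hom ((θ.restrict h).hom (res ξ h r))
    rw [LocHom.restricts_restrict τ h, LocHom.restricts_restrict θ h]

theorem LocHom.ofHom_restrict {c : ξ'.total ⟶ ξ.total} (hc : c ≫ ξ.f = ξ'.f ≫ specMap μ) (hci : ξ'.i ≫ c = ξ.i)
    (h : U'.1 ≤ U.1) : (LocHom.ofHom hc hci U).restrict h = LocHom.ofHom hc hci U' :=
  LocHom.restrict_unique (LocHom.restricts_restrict _ h) (LocHom.ofHom_res hc hci h)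

theorem exists_of_iso [Smooth x] {ξ₁ : DefSch X x A} (μ : A ⟶ A') (θ : LocHom (𝟙 A) ξ₁ ξ U)
    (τ : LocHom μ ξ₁ ξ' U) : ∃ g : LocHom μ ξ ξ' U, ∀ r, g.hom (θ.hom r) = τ.hom r := by
  obtain ⟨s⟩ := exists_spl ξ₁ U
  let s₁ : Spl ξ U := ⟨θ.hom.comp s.hom, fun a => by rw [RingHom.comp_apply, s.hom_rB, θ.hom_rB]; rfl,
    fun r => (θ.red_hom _).trans (s.red_hom r)⟩
  let s₂ : Spl ξ' U := ⟨τ.hom.comp s.hom, fun a => by
      rw [RingHom.comp_apply, s.hom_rB, τ.hom_rB]
      exact congrArg _ (ofBase_apply μ a), fun r => (τ.red_hom _).trans (s.red_hom r)⟩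
  obtain ⟨g, hg⟩ := exists_of_spl μ s₁ s₂
  obtain ⟨h, hh⟩ := exists_of_spl (𝟙 A) s s₁
  have e : h = θ := ext_of_spl s fun r => hh r
  refine ⟨g, fun r => ?_⟩
  let gθ : LocHom μ ξ₁ ξ' U :=
    ⟨g.hom.comp θ.hom, fun a => by rw [RingHom.comp_apply, θ.hom_rB, g.hom_rB]; rfl,
      fun r => (g.red_hom _).trans (θ.red_hom r)⟩
  have e' : gθ = τ := ext_of_spl s fun r => hg r
  exact congrArg (fun t => LocHom.hom t r) e'

theorem ext_of_iso [Smooth x] {ξ₁ : DefSch X x A} (θ : LocHom (𝟙 A) ξ₁ ξ U) {g g' : LocHom μ ξ ξ' U}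
    (h : ∀ r, g.hom (θ.hom r) = g'.hom (θ.hom r)) : g = g' := by
  obtain ⟨s⟩ := exists_spl ξ₁ U
  let s₁ : Spl ξ U := ⟨θ.hom.comp s.hom, fun a => by rw [RingHom.comp_apply, s.hom_rB, θ.hom_rB]; rfl,
    fun r => (θ.red_hom _).trans (s.red_hom r)⟩
  exact ext_of_spl s₁ fun r => h _

end Comb

variable {k : Type u} [Field k] {X : Scheme.{u}} [X.Over (Spec (CommRingCat.of k))]
  [IsSeparated (X ↘ Spec (CommRingCat.of k))] [LocallyOfFiniteType (X ↘ Spec (CommRingCat.of k))]
  [Smooth (X ↘ Spec (CommRingCat.of k))]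
  {C' C : Art k k} {p : C' ⟶ C}

/-- An extension. -/
structure ExtD (p : C' ⟶ C) (Y : DefSch X (X ↘ Spec (CommRingCat.of k)) C) where
  /-- the deformation -/
  D : DefSch X (X ↘ Spec (CommRingCat.of k)) C'
  /-- the morphism -/
  c : Y.total ⟶ D.total
  hc : c ≫ D.f = Y.f ≫ specMap p
  hci : Y.i ≫ c = D.i

variable {Y : DefSch X (X ↘ Spec (CommRingCat.of k)) C} (E₀ E E' : ExtD p Y)

/-- The local morphism of an extension. -/
def ExtD.loc (U : X.affineOpens) : LocHom p E.D Y U := LocHom.ofHom E.hc E.hci U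

/-- Local identifications of two extensions. -/
def IsFrame (θ : Frm (𝟙 C') E₀.D E.D) : Prop := ∀ U r, (E.loc U).hom ((θ U).hom r) = (E₀.loc U).hom r

theorem exists_frame (hp : Function.Surjective p) : ∃ θ, IsFrame E₀ E θ := by
  choose θ hθ using fun U => exists_lift hp (E.loc U) (E₀.loc U) (𝟙 C') (Category.id_comp p)
  exact ⟨θ, hθ⟩

theorem IsFrame.restrict {θ : Frm (𝟙 C') E₀.D E.D} (hθ : IsFrame E₀ E θ) {U U' : X.affineOpens} (h : U'.1 ≤ U.1)
    (r : R E₀.D U'.1) : (E.loc U').hom (((θ U).restrict h).hom r) = (E₀.loc U').hom r := by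
  let T : LocHom p E₀.D Y U := ⟨(E.loc U).hom.comp (θ U).hom, fun a => by
      rw [RingHom.comp_apply, (θ U).hom_rB, (E.loc U).hom_rB]; rfl,
    fun r => ((E.loc U).red_hom _).trans ((θ U).red_hom r)⟩
  let T' : LocHom p E₀.D Y U' := ⟨(E.loc U').hom.comp ((θ U).restrict h).hom, fun a => by
      rw [RingHom.comp_apply, ((θ U).restrict h).hom_rB, (E.loc U').hom_rB]; rfl,
    fun r => ((E.loc U').red_hom _).trans (((θ U).restrict h).red_hom r)⟩
  have e : T' = (E₀.loc U).restrict h :=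
    LocHom.restrict_unique (θ := E₀.loc U) (fun r => by
      rw [← hθ U r]
      show res Y h ((E.loc U).hom ((θ U).hom r)) = (E.loc U').hom (((θ U).restrict h).hom (res E₀.D h r))
      rw [← LocHom.restricts_restrict (θ U) h r]
      exact LocHom.ofHom_res E.hc E.hci h _) (LocHom.restricts_restrict _ h)
  exact (congrArg (fun t => LocHom.hom t r) e).trans
    (congrArg (fun t => LocHom.hom t r) (LocHom.ofHom_restrict E₀.hc E₀.hci h))

variable {E₀ E E'} (S : SocBasis C') (hS : RingHom.ker p.toAlgHom.toRingHom ≤ S.span)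
  (hSp : ∀ l, p (S.e l) = 0)

include hS in
theorem IsFrame.exists_isCls {θ : Frm (𝟙 C') E₀.D E.D} (hθ : IsFrame E₀ E θ) : ∃ c, IsCls S θ c :=
  LocTriv.exists_isCls S θ fun U W Z hU hW r =>
    sub_mem_of_comp_eq S hS (E.loc Z) (fun r => (hθ.restrict E₀ E hU r).trans (hθ.restrict E₀ E hW r).symm) r

include hS in
theorem IsFrame.sub_mem {θ θ' : Frm (𝟙 C') E₀.D E.D} (hθ : IsFrame E₀ E θ) (hθ' : IsFrame E₀ E θ') (U : X.affineOpens)
    (r : R E₀.D U.1) : (θ' U).hom r - (θ U).hom r ∈ S.span.map (rB E.D U.1) :=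
  sub_mem_of_comp_eq S hS (E.loc U) (fun r => (hθ U r).trans (hθ' U r).symm) r

include hSp in
theorem ExtD.loc_sum (E : ExtD p Y) (U : X.affineOpens) (b : Fin S.n → Γ(X, U.1)) :
    (E.loc U).hom (S.sum E.D U b) = 0 := by
  simp only [SocBasis.sum, jMul, map_sum, map_mul, (E.loc U).hom_rB, hSp, map_zero, zero_mul, Finset.sum_const_zero]

include hSp in
theorem IsFrame.addDer {θ : Frm (𝟙 C') E₀.D E.D} (hθ : IsFrame E₀ E θ) (t : Fin S.n → Fn₀ k (tgt k X)) :
    IsFrame E₀ E fun U => (θ U).addDer (S := S) (fun l => dOf (t l U)) fun l => isDer_dOf _ := fun U r => by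
  rw [LocHom.diff_addDer (θ U) _ (fun l => isDer_dOf (t l U)) r, map_add, ExtD.loc_sum S hSp, add_zero]
  exact hθ U r

/-- An isomorphism of extensions. -/
def ExtD.Iso' (E E' : ExtD p Y) : Prop :=
  ∃ g : E.D.total ⟶ E'.D.total, g ≫ E'.D.f = E.D.f ∧ E.D.i ≫ g = E'.D.i ∧ E.c ≫ g = E'.c

theorem IsFrame.transport {θ : Frm (𝟙 C') E₀.D E.D} {c : Fin S.n → Fn k (tgt k X)} (hθ : IsFrame E₀ E θ)
    (hc : IsCls S θ c) (h : E'.Iso' E) : ∃ θ' : Frm (𝟙 C') E₀.D E'.D, IsFrame E₀ E' θ' ∧ IsCls S θ' c := by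
  obtain ⟨g, hgf, hgi, hgc⟩ := h
  have hgf' : g ≫ E.D.f = E'.D.f ≫ specMap (𝟙 C') := by rw [Art.specMap_id, Category.comp_id, hgf]
  let G : ∀ U, LocHom (𝟙 C') E.D E'.D U := fun U => LocHom.ofHom hgf' hgi U
  let θ' : Frm (𝟙 C') E₀.D E'.D := fun U =>
    ⟨(G U).hom.comp (θ U).hom, fun a => by
      rw [RingHom.comp_apply, (θ U).hom_rB, (G U).hom_rB]; rfl,
      fun r => ((G U).red_hom _).trans ((θ U).red_hom r)⟩
  refine ⟨θ', fun U r => ?_, fun U W Z h h' r => ?_⟩
  · show (E'.loc U).hom ((G U).hom ((θ U).hom r)) = _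
    rw [← hθ U r]
    have h1 := LocHom.ofHom_restrict (ξ := E.D) (ξ' := E'.D) hgf' hgi (le_refl U.1)
    refine ConcreteCategory.congr_hom (Spec.map_injective (a₁ := CommRingCat.ofHom (G U).hom ≫ CommRingCat.ofHom (E'.loc U).hom)
      (a₂ := CommRingCat.ofHom (E.loc U).hom) ?_) ((θ U).hom r)
    rw [Spec.map_comp, ← cancel_mono (chartMap E.D U), Category.assoc]
    show Spec.map (CommRingCat.ofHom (LocHom.ofHom E'.hc E'.hci U).hom) ≫
      Spec.map (CommRingCat.ofHom (LocHom.ofHom hgf' hgi U).hom) ≫ _ = _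
    rw [← chartMap_hom hgf' hgi, ← Category.assoc, ← chartMap_hom E'.hc E'.hci, Category.assoc, hgc]
    exact chartMap_hom E.hc E.hci U
  · have hr : ∀ (V : X.affineOpens) (hV : Z.1 ≤ V.1) r,
        ((θ' V).restrict hV).hom r = (G Z).hom (((θ V).restrict hV).hom r) := by
      intro V hV r
      let T : LocHom (𝟙 C') E₀.D E'.D Z := ⟨(G Z).hom.comp ((θ V).restrict hV).hom, fun a => by
          rw [RingHom.comp_apply, ((θ V).restrict hV).hom_rB, (G Z).hom_rB]; rfl,
        fun r => ((G Z).red_hom _).trans (((θ V).restrict hV).red_hom r)⟩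
      have e : (θ' V).restrict hV = T := LocHom.restrict_unique (LocHom.restricts_restrict _ hV) fun r => by
        show res E'.D hV ((G V).hom ((θ V).hom r)) = (G Z).hom (((θ V).restrict hV).hom (res E₀.D hV r))
        rw [← LocHom.restricts_restrict (θ V) hV r]
        exact LocHom.ofHom_res hgf' hgi hV _
      rw [e]
      rfl
    rw [hr, hr, hc U W Z h h' r, map_add, LocHom.hom_sum_id]

include hSp in
/-- Extensions with the same class are isomorphic. -/
theorem iso'_of_cls {θ : Frm (𝟙 C') E₀.D E.D} {θ' : Frm (𝟙 C') E₀.D E'.D} {c : Fin S.n → Fn k (tgt k X)}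
    (hθ : IsFrame E₀ E θ) (hθ' : IsFrame E₀ E' θ') (hc : IsCls S θ c) (hc' : IsCls S θ' c) : E.Iso' E' := by
  choose g hg using fun U => exists_of_iso (𝟙 C') (θ' U) (θ U)
  have hres : ∀ (U U' : X.affineOpens) (h : U'.1 ≤ U.1), (g U).Restricts (g U') h := by
    intro U U' h
    suffices e : (g U).restrict h = g U' by
      have := LocHom.restricts_restrict (g U) h
      rwa [e] at this
    refine ext_of_iso (θ' U') fun r => ?_
    have hT : ∀ r, ((g U).restrict h).hom (((θ' U).restrict h).hom r) = ((θ U).restrict h).hom r := by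
      intro r
      let T : LocHom (𝟙 C') E₀.D E.D U' := ⟨((g U).restrict h).hom.comp ((θ' U).restrict h).hom, fun a => by
          rw [RingHom.comp_apply, ((θ' U).restrict h).hom_rB, ((g U).restrict h).hom_rB]; rfl,
        fun r => (((g U).restrict h).red_hom _).trans (((θ' U).restrict h).red_hom r)⟩
      have e : T = (θ U).restrict h := LocHom.restrict_unique (θ := θ U) (fun r => by
        rw [← hg U r]
        show res E.D h ((g U).hom ((θ' U).hom r)) =
          ((g U).restrict h).hom (((θ' U).restrict h).hom (res E₀.D h r))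
        rw [← LocHom.restricts_restrict (θ' U) h r]
        exact LocHom.restricts_restrict (g U) h _) (LocHom.restricts_restrict _ h)
      exact congrArg (fun t => LocHom.hom t r) e
    have h1 := hc' U U' U' h le_rfl
    have h2 := hc U U' U' h le_rfl
    rw [LocHom.restrict_self] at h1 h2
    rw [hg U' r, h1 r, map_add, hT, LocHom.hom_sum_id]
    exact (h2 r).symm
  obtain ⟨m, hm, hmi, hmθ⟩ := exists_hom_of_fam g hres
  refine ⟨m, by rw [hm, Art.specMap_id, Category.comp_id], hmi, chart_hom_ext Y _ _ fun U => ?_⟩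
  rw [← Category.assoc, chartMap_hom E.hc E.hci, chartMap_hom E'.hc E'.hci, Category.assoc,
    chartMap_hom hm hmi, hmθ, ← Category.assoc, ← Spec.map_comp]
  congr 2
  have e : (g U).comp (E.loc U) = (⟨(E'.loc U).hom, fun a => (E'.loc U).hom_rB a, (E'.loc U).red_hom⟩ :
      LocHom (𝟙 C' ≫ p) E'.D Y U) :=
    ext_of_iso (θ' U) fun r => by
      show (E.loc U).hom ((g U).hom ((θ' U).hom r)) = (E'.loc U).hom ((θ' U).hom r)
      rw [hg U r, hθ' U r, hθ U r]
  exact CommRingCat.hom_ext (congrArg LocHom.hom e)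

variable (E₀)

include hSp in
set_option maxHeartbeats 800000 in
/-- Every cocycle occurs. -/
theorem exists_ext_of_cocycle (c : Fin S.n → Fn k (tgt k X)) (hc : ∀ l, IsCocycle k (tgt k X) (c l)) :
    ∃ (E : ExtD p Y) (θ : Frm (𝟙 C') E₀.D E.D), IsFrame E₀ E θ ∧ IsCls S θ c := by
  let t : TwistData E₀.D S :=
    { D := fun U U' h l => dOf (-(resK k (tgt k X) (le_inf h le_rfl) (c l U U')))
      isDer := fun U U' h l => isDer_dOf _
      cocycle := fun U U' U'' h h' l a => by
        rw [← dOf_res h', ← dOf_add]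
        refine congrArg (fun s => dOf s (ro h' a)) ?_
        rw [map_neg, resK_resK, ← neg_add]
        exact congrArg Neg.neg (hc l U U' U'' U''.1 (le_inf (h'.trans h) h') (le_inf h' le_rfl)
          (le_inf (h'.trans h) le_rfl)).symm }
  obtain ⟨ξ, ψ, hψ⟩ := t.exists_twist
  choose g hg using fun U => exists_of_iso p (ψ U) (E₀.loc U)
  have hres : ∀ (U U' : X.affineOpens) (h : U'.1 ≤ U.1), (g U).Restricts (g U') h := by
    intro U U' h
    suffices e : (g U).restrict h = g U' by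
      have := LocHom.restricts_restrict (g U) h
      rwa [e] at this
    refine ext_of_iso (ψ U') fun r => ?_
    have hT : ((g U).restrict h).hom (((ψ U).restrict h).hom r) = (E₀.loc U').hom r := by
      let T : LocHom p E₀.D Y U' := ⟨((g U).restrict h).hom.comp ((ψ U).restrict h).hom, fun a => by
          rw [RingHom.comp_apply, ((ψ U).restrict h).hom_rB, ((g U).restrict h).hom_rB]; rfl,
        fun r => (((g U).restrict h).red_hom _).trans (((ψ U).restrict h).red_hom r)⟩
      have e : T = (E₀.loc U).restrict h := LocHom.restrict_unique (θ := E₀.loc U) (fun r => by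
        rw [← hg U r]
        show res Y h ((g U).hom ((ψ U).hom r)) =
          ((g U).restrict h).hom (((ψ U).restrict h).hom (res E₀.D h r))
        rw [← LocHom.restricts_restrict (ψ U) h r]
        exact LocHom.restricts_restrict (g U) h _) (LocHom.restricts_restrict _ h)
      exact (congrArg (fun t => LocHom.hom t r) e).trans
        (congrArg (fun t => LocHom.hom t r) (LocHom.ofHom_restrict E₀.hc E₀.hci h))
    rw [hg U' r, ← hT, hψ U U' h r, map_add, left_eq_add]
    simp only [SocBasis.sum, jMul, map_sum, map_mul, ((g U).restrict h).hom_rB, hSp, map_zero, zero_mul,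
      Finset.sum_const_zero]
  obtain ⟨m, hm, hmi, hmθ⟩ := exists_hom_of_fam g hres
  let E : ExtD p Y := ⟨ξ, m, hm, hmi⟩
  refine ⟨E, ψ, fun U r => ?_, fun U W Z h h' => ?_⟩
  · rw [show E.loc U = g U from hmθ U]
    exact hg U r
  · have e : ∀ (V : X.affineOpens) (hV : Z.1 ≤ V.1), LocHom.Diff S (ψ Z) ((ψ V).restrict hV)
        (fun l => dOf (-(resK k (tgt k X) (le_inf hV le_rfl) (c l V Z)))) := fun V hV => hψ V Z hV
    convert (e U h).symm.trans (e W h') using 1
    funext l a
    show dOf _ a = -dOf _ a + dOf _ a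
    rw [← dOf_neg, ← dOf_add, neg_neg]
    refine congrArg (fun s => dOf s a) ?_
    rw [← hc l U W Z Z.1 (le_inf h h') (le_inf h' le_rfl) (le_inf h le_rfl)]
    abel

end Groth.L14.LocTriv
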