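import Groth.Agent.L14.DefLift.LocTriv.Twist

/-! # Gluing a deformation along automorphisms of the charts -/

set_option autoImplicit false
set_option linter.style.haveILetI false
set_option linter.unusedSectionVars false
set_option backward.isDefEq.respectTransparency.types false
set_option backward.isDefEq.respectTransparency false

universe u

open CategoryTheory CategoryTheory.Limits AlgebraicGeometry TopologicalSpace Opposite ArtFun ArtFun.Art

noncomputable section

namespace Groth.L14.LocTriv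

open Groth.L18.Frame (ro ro_ro ro_self)

variable {k : Type u} [Field k] {X : Scheme.{u}} {x : X ⟶ specPt k} [Smooth x] {A : Art k k}

namespace LocHom

theorem bijective_id_hom {ξ ξ' : DefSch X x A} {U : X.affineOpens} (θ : LocHom (𝟙 A) ξ ξ' U) :
    Function.Bijective θ.hom := by
  obtain ⟨s⟩ := exists_spl ξ U
  refine ⟨(injective_iff_map_eq_zero _).2 fun r hr => ?_, surjective_hom s θ fun a => ⟨a, rfl⟩⟩
  have h := mem_map_of_hom_eq_zero s θ hr
  rw [show RingHom.ker (𝟙 A : A ⟶ A).toAlgHom.toRingHom = ⊥ from (RingHom.injective_iff_ker_eq_bot _).1 fun a b h => h,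
    Ideal.map_bot, Ideal.mem_bot] at h
  exact h

end LocHom

/-- Gluing data. -/
structure AutData (ξ₀ : DefSch X x A) where
  /-- the automorphisms -/
  aut : ∀ U U' : X.affineOpens, U'.1 ≤ U.1 → LocHom (𝟙 A) ξ₀ ξ₀ U'
  cocycle : ∀ (U U' U'' : X.affineOpens) (h : U'.1 ≤ U.1) (h' : U''.1 ≤ U'.1) (r : R ξ₀ U''.1),
    (aut U' U'' h').hom (((aut U U' h).restrict h').hom r) = (aut U U'' (h'.trans h)).hom r

namespace AutData

variable {ξ₀ : DefSch X x A} (t : AutData ξ₀)

/-- The twisted restriction. -/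
def phi {U U' : X.affineOpens} (h : U'.1 ≤ U.1) : R ξ₀ U.1 →+* R ξ₀ U'.1 := (t.aut U U' h).hom.comp (res ξ₀ h)

theorem red_phi {U U' : X.affineOpens} (h : U'.1 ≤ U.1) (r : R ξ₀ U.1) :
    red ξ₀ U'.1 (t.phi h r) = ro h (red ξ₀ U.1 r) :=
  ((t.aut U U' h).red_hom _).trans (red_res ξ₀ h r)

theorem phi_rB {U U' : X.affineOpens} (h : U'.1 ≤ U.1) (a : A) : t.phi h (rB ξ₀ U.1 a) = rB ξ₀ U'.1 a := by
  show (t.aut U U' h).hom (res ξ₀ h (rB ξ₀ U.1 a)) = _
  rw [res_rB, LocHom.hom_rB]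
  rfl

theorem phi_self {U : X.affineOpens} (h : U.1 ≤ U.1) (r : R ξ₀ U.1) : t.phi h r = r := by
  have e := t.cocycle U U U h h (res ξ₀ h r)
  rw [LocHom.restrict_self] at e
  show (t.aut U U h).hom (res ξ₀ h r) = r
  exact ((LocHom.bijective_id_hom _).1 e).trans (res_self ξ₀ h r)

theorem phi_phi {U U' U'' : X.affineOpens} (h : U'.1 ≤ U.1) (h' : U''.1 ≤ U'.1) (r : R ξ₀ U.1) :
    t.phi h' (t.phi h r) = t.phi (h'.trans h) r := by
  show (t.aut U' U'' h').hom (res ξ₀ h' ((t.aut U U' h).hom (res ξ₀ h r))) = _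
  rw [LocHom.restricts_restrict (t.aut U U' h) h', res_res, t.cocycle U U' U'' h h']
  rfl

/-- The diagram of charts. -/
def diag : X.affineOpens ⥤ Scheme.{u} where
  obj U := Spec Γ(ξ₀.total, vOf ξ₀ U.1)
  map h := Spec.map (CommRingCat.ofHom (t.phi h.le))
  map_id U := by
    rw [show CommRingCat.ofHom (t.phi (CategoryStruct.id U : U ⟶ U).le) = 𝟙 _ from
      CommRingCat.hom_ext (RingHom.ext (t.phi_self _))]
    exact Spec.map_id _
  map_comp {U U' U''} g g' := by
    rw [← Spec.map_comp]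
    refine congrArg Spec.map (CommRingCat.hom_ext (RingHom.ext fun r => ?_))
    exact (t.phi_phi g'.le g.le r).symm

instance {U U' : X.affineOpens} (g : U ⟶ U') : IsOpenImmersion (t.diag.map g) := by
  haveI : IsOpenImmersion (Spec.map (CommRingCat.ofHom (res ξ₀ g.le))) := by
    haveI : IsOpenImmersion (Spec.map (CommRingCat.ofHom (res ξ₀ g.le)) ≫ chartMap ξ₀ U') := by
      rw [res_chartMap]
      infer_instance
    exact IsOpenImmersion.of_comp _ (chartMap ξ₀ U')
  haveI : IsIso (CommRingCat.ofHom (t.aut U' U g.le).hom) :=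
    (ConcreteCategory.isIso_iff_bijective _).2 ((LocHom.bijective_id_hom (t.aut U' U g.le)))
  show IsOpenImmersion (Spec.map (CommRingCat.ofHom (res ξ₀ g.le) ≫ CommRingCat.ofHom (t.aut U' U g.le).hom))
  rw [Spec.map_comp]
  infer_instance

theorem exists_red_point (U : X.affineOpens) (q : Spec Γ(ξ₀.total, vOf ξ₀ U.1)) :
    ∃ p, Spec.map (CommRingCat.ofHom (red ξ₀ U.1)) p = q := by
  have h : q ∈ Set.range (PrimeSpectrum.comap (red ξ₀ U.1)) := by
    rw [range_comap_of_surjective _ _ (red_surjective ξ₀ U), PrimeSpectrum.mem_zeroLocus]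
    intro r hr
    obtain ⟨n, hn⟩ := isNilpotent_ker_red ξ₀ U
    refine q.isPrime.mem_of_pow_mem n ?_
    have h2 := Ideal.pow_mem_pow hr n
    rw [hn] at h2
    rw [show r ^ n = 0 from h2]
    exact zero_mem _
  exact h

theorem red_phi' {U U' : X.affineOpens} (h : U'.1 ≤ U.1) :
    CommRingCat.ofHom (t.phi h) ≫ CommRingCat.ofHom (red ξ₀ U'.1) =
      CommRingCat.ofHom (res ξ₀ h) ≫ CommRingCat.ofHom (red ξ₀ U'.1) :=
  CommRingCat.hom_ext (RingHom.ext fun r => (t.red_phi h r).trans (red_res ξ₀ h r).symm)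

theorem chartMap_diag {U U' : X.affineOpens} (g : U ⟶ U') (q : t.diag.obj U) :
    chartMap ξ₀ U' (t.diag.map g q) = chartMap ξ₀ U q := by
  obtain ⟨p, rfl⟩ := exists_red_point U q
  have h : Spec.map (CommRingCat.ofHom (red ξ₀ U.1)) ≫ t.diag.map g ≫ chartMap ξ₀ U' =
      Spec.map (CommRingCat.ofHom (red ξ₀ U.1)) ≫ chartMap ξ₀ U := by
    show Spec.map _ ≫ Spec.map _ ≫ _ = _
    rw [← Category.assoc, ← Spec.map_comp, t.red_phi', Spec.map_comp, Category.assoc, res_chartMap]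
  exact congrArg (fun c : _ ⟶ ξ₀.total => c p) h

instance : (t.diag ⋙ Scheme.forget).IsLocallyDirected := by
  constructor
  intro U W V gU gW qU qW e
  have e' : chartMap ξ₀ U qU = chartMap ξ₀ W qW := by
    rw [← t.chartMap_diag gU, ← t.chartMap_diag gW]
    exact congrArg (chartMap ξ₀ V) e
  have hz : chartMap ξ₀ U qU ∈ vOf ξ₀ U.1 ⊓ vOf ξ₀ W.1 :=
    ⟨(range_chartMap ξ₀ U).le ⟨_, rfl⟩, e' ▸ (range_chartMap ξ₀ W).le ⟨_, rfl⟩⟩
  obtain ⟨Z, q, hq, hZO⟩ := exists_chartMap_eq ξ₀ _ _ hz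
  have h1 : Z.1 ≤ U.1 := (hZO.trans (ξ₀.i.preimage_mono inf_le_left)).trans (preimage_vOf ξ₀ U.1).le
  have h2 : Z.1 ≤ W.1 := (hZO.trans (ξ₀.i.preimage_mono inf_le_right)).trans (preimage_vOf ξ₀ W.1).le
  exact ⟨Z, homOfLE h1, homOfLE h2, q,
    (chartMap ξ₀ U).isOpenEmbedding.injective ((t.chartMap_diag (homOfLE h1) q).trans hq),
    (chartMap ξ₀ W).isOpenEmbedding.injective ((t.chartMap_diag (homOfLE h2) q).trans (hq.trans e'))⟩

set_option maxHeartbeats 1600000 in
/-- The twisted deformation exists. -/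
theorem exists_glue : ∃ (ξ : DefSch X x A) (ψ : ∀ U, LocHom (𝟙 A) ξ₀ ξ U),
    ∀ (U U' : X.affineOpens) (h : U'.1 ≤ U.1) (r : R ξ₀ U'.1),
      ((ψ U).restrict h).hom r = (ψ U').hom ((t.aut U U' h).hom r) := by
  let T := colimit t.diag
  let ι : ∀ U : X.affineOpens, Spec Γ(ξ₀.total, vOf ξ₀ U.1) ⟶ T := fun U => colimit.ι t.diag U
  have hι : ∀ {U U' : X.affineOpens} (h : U'.1 ≤ U.1), Spec.map (CommRingCat.ofHom (t.phi h)) ≫ ι U = ι U' :=
    fun {U U'} h => colimit.w t.diag (homOfLE h : U' ⟶ U)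
  haveI : ∀ U, IsOpenImmersion (ι U) := fun U => inferInstanceAs (IsOpenImmersion (colimit.ι t.diag U))
  let co : Cocone t.diag :=
    { pt := spec A
      ι :=
        { app := fun U => Spec.map (CommRingCat.ofHom (rB ξ₀ U.1))
          naturality := fun U U' g => by
            show Spec.map _ ≫ Spec.map (CommRingCat.ofHom (rB ξ₀ U'.1)) = _ ≫ 𝟙 _
            rw [Category.comp_id, ← Spec.map_comp]
            exact congrArg Spec.map (CommRingCat.hom_ext (RingHom.ext (t.phi_rB g.le))) } }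
  let f : T ⟶ spec A := colimit.desc t.diag co
  have hf : ∀ U, ι U ≫ f = Spec.map (CommRingCat.ofHom (rB ξ₀ U.1)) := fun U => colimit.ι_desc co U
  obtain ⟨i, hi⟩ := exists_desc (slf x)
    (fun U => Spec.map (CommRingCat.ofHom ((slfEquiv (x := x) U).symm.toRingHom.comp (red ξ₀ U.1))) ≫ ι U) (by
      intro U U' h
      rw [← hι h, ← Category.assoc, ← Category.assoc, ← Spec.map_comp, ← Spec.map_comp]
      congr 2
      refine CommRingCat.hom_ext (RingHom.ext fun r => ?_)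
      show res (slf x) h ((slfEquiv U).symm (red ξ₀ U.1 r)) = (slfEquiv U').symm (red ξ₀ U'.1 (t.phi h r))
      apply (slfEquiv U').injective
      rw [RingEquiv.apply_symm_apply, t.red_phi]
      show red (slf x) U'.1 (res (slf x) h _) = _
      rw [red_res]
      exact congrArg (ro h) ((slfEquiv U).apply_symm_apply _))
  have hiU : ∀ U : X.affineOpens, U.2.fromSpec ≫ i = Spec.map (CommRingCat.ofHom (red ξ₀ U.1)) ≫ ι U := by
    intro U
    have h := congrArg (Spec.map (CommRingCat.ofHom (red (slf x) U.1)) ≫ ·) (hi U)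
    rw [← Category.assoc, ← fromSpec_i (slf x) U, ← Category.assoc, ← Spec.map_comp] at h
    refine Eq.trans ?_ (h.trans ?_)
    · exact (congrArg (· ≫ i) (Category.comp_id U.2.fromSpec)).symm
    · congr 2
      exact CommRingCat.hom_ext (RingHom.ext fun r => (slfEquiv U).apply_symm_apply _)
  have hpre : ∀ U : X.affineOpens, i ⁻¹ᵁ (ι U).opensRange = U.1 := by
    intro U
    refine TopologicalSpace.Opens.ext (Set.ext fun w => ⟨?_, fun hw => ?_⟩)
    · rintro ⟨q, hq⟩
      obtain ⟨_, ⟨W, hW, rfl⟩, hwW, -⟩ :=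
        X.isBasis_affineOpens.exists_subset_of_mem_open (Set.mem_univ w) isOpen_univ
      obtain ⟨p, hp⟩ := hW.range_fromSpec.ge hwW
      have e : ι U q = ι ⟨W, hW⟩ (Spec.map (CommRingCat.ofHom (red ξ₀ W)) p) := by
        rw [hq]
        refine Eq.trans ?_ (congrArg (fun c : _ ⟶ T => c p) (hiU ⟨W, hW⟩))
        exact congrArg i hp.symm
      obtain ⟨Z, gU, gW, z, hzU, hzW⟩ := (Scheme.IsLocallyDirected.ι_eq_ι_iff t.diag).1 e
      have e2 : chartMap ξ₀ ⟨W, hW⟩ (Spec.map (CommRingCat.ofHom (red ξ₀ W)) p) = chartMap ξ₀ U q := by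
        rw [← hzU, ← hzW, t.chartMap_diag, t.chartMap_diag]
      have e3 : ξ₀.i w = chartMap ξ₀ U q := by
        refine Eq.trans ?_ e2
        refine Eq.trans ?_ (congrArg (fun c : _ ⟶ ξ₀.total => c p) (fromSpec_i ξ₀ ⟨W, hW⟩))
        exact congrArg ξ₀.i hp.symm
      have : w ∈ ξ₀.i ⁻¹ᵁ vOf ξ₀ U.1 := by
        show ξ₀.i w ∈ vOf ξ₀ U.1
        rw [e3]
        exact (range_chartMap ξ₀ U).le ⟨_, rfl⟩
      rwa [preimage_vOf] at this
    · obtain ⟨p, rfl⟩ := U.2.range_fromSpec.ge hw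
      exact ⟨_, (congrArg (fun c : _ ⟶ T => c p) (hiU U)).symm⟩
  let 𝒰 : T.OpenCover := Scheme.IsLocallyDirected.openCover t.diag
  haveI hflat : Flat f := IsZariskiLocalAtSource.of_openCover 𝒰 fun U => by
    show Flat (ι U ≫ f)
    rw [hf, HasRingHomProperty.Spec_iff (P := @Flat)]
    exact rB_flat ξ₀ U
  have hpb : IsPullback i x f (specRes A) := by
    refine Scheme.isPullback_of_openCover i x f (specRes A) 𝒰 fun U => ?_
    have hsq : IsPullback (Spec.map (CommRingCat.ofHom (red ξ₀ U.1))) U.2.fromSpec (ι U) i :=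
      IsOpenImmersion.isPullback _ _ _ _ (hiU U) (by rw [U.2.opensRange_fromSpec, hpre])
    have hloc : IsPullback (Spec.map (CommRingCat.ofHom (red ξ₀ U.1))) (U.2.fromSpec ≫ x) (ι U ≫ f) (specRes A) := by
      rw [hf, ← chartMap_f]
      exact (Groth.L14.DefLift.restrictAff ξ₀ (isAffineOpen_vOf ξ₀ U) U.2 (preimage_vOf ξ₀ U.1)).isPullback
    refine hloc.of_iso hsq.flip.isoPullback (Iso.refl _) (Iso.refl _) (Iso.refl _) ?_ ?_ ?_ ?_
    · simp only [Iso.refl_hom, Category.comp_id]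
      exact (hsq.flip.isoPullback_hom_snd).symm
    · simp only [Iso.refl_hom, Category.comp_id]
      show _ = hsq.flip.isoPullback.hom ≫ pullback.fst i (ι U) ≫ x
      rw [hsq.flip.isoPullback_hom_fst_assoc]
    · simp only [Iso.refl_hom, Category.comp_id, Category.id_comp]
      rfl
    · simp
  let ξ : DefSch X x A := { total := T, f := f, flat := hflat, i := i, isPullback := hpb }
  have hrange : ∀ U : X.affineOpens, Set.range (chartMap ξ U) = Set.range (ι U) := fun U => by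
    rw [range_chartMap, ← eq_vOf ξ (U := U.1) (V := (ι U).opensRange) (hpre U)]
    rfl
  let e : ∀ U : X.affineOpens, Spec Γ(ξ.total, vOf ξ U.1) ≅ Spec Γ(ξ₀.total, vOf ξ₀ U.1) := fun U =>
    IsOpenImmersion.isoOfRangeEq (chartMap ξ U) (ι U) (hrange U)
  have he : ∀ U, (e U).hom ≫ ι U = chartMap ξ U := fun U => IsOpenImmersion.isoOfRangeEq_hom_fac _ _ _
  let ψ₀ : ∀ U : X.affineOpens, Γ(ξ₀.total, vOf ξ₀ U.1) ⟶ Γ(ξ.total, vOf ξ U.1) := fun U => Spec.preimage (e U).hom
  have hψ₀ : ∀ U, Spec.map (ψ₀ U) = (e U).hom := fun U => Spec.map_preimage _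
  let ψ : ∀ U, LocHom (𝟙 A) ξ₀ ξ U := fun U =>
    { hom := (ψ₀ U).hom
      hom_rB := fun a => by
        refine ConcreteCategory.congr_hom (Spec.map_injective (a₁ := CommRingCat.ofHom (rB ξ₀ U.1) ≫ ψ₀ U)
          (a₂ := CommRingCat.ofHom (rB ξ U.1)) ?_) a
        rw [Spec.map_comp, hψ₀, ← hf, ← Category.assoc, he, ← chartMap_f ξ U]
      red_hom := fun r => by
        refine ConcreteCategory.congr_hom (Spec.map_injective (a₁ := ψ₀ U ≫ CommRingCat.ofHom (red ξ U.1))
          (a₂ := CommRingCat.ofHom (red ξ₀ U.1)) ?_) r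
        rw [Spec.map_comp, hψ₀, ← cancel_mono (ι U), Category.assoc, he, ← fromSpec_i ξ U]
        exact hiU U }
  refine ⟨ξ, ψ, fun U U' h => ?_⟩
  have hψres : ∀ r, res ξ h ((ψ U).hom r) = (ψ U').hom (t.phi h r) := fun r => by
    refine ConcreteCategory.congr_hom (Spec.map_injective (a₁ := ψ₀ U ≫ CommRingCat.ofHom (res ξ h))
      (a₂ := CommRingCat.ofHom (t.phi h) ≫ ψ₀ U') ?_) r
    rw [Spec.map_comp, Spec.map_comp, hψ₀, hψ₀, ← cancel_mono (ι U), Category.assoc, he, Category.assoc, hι, he,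
      res_chartMap]
  intro r
  let T : LocHom (𝟙 A) ξ₀ ξ U' := ⟨(ψ U').hom.comp (t.aut U U' h).hom, fun a => by
      rw [RingHom.comp_apply, (t.aut U U' h).hom_rB, (ψ U').hom_rB]; rfl,
    fun r => ((ψ U').red_hom _).trans ((t.aut U U' h).red_hom r)⟩
  have e1 : (ψ U).restrict h = T :=
    LocHom.restrict_unique (LocHom.restricts_restrict _ h) fun r => hψres r
  rw [e1]
  rfl

end AutData

end Groth.L14.LocTriv
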