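import Groth.Agent.L17.BC.CechA
import Groth.Prelude.Def_ArtFun2

/-! # First cohomology by cocycles on pairs of affine opens -/

set_option autoImplicit false
set_option linter.style.haveILetI false
set_option linter.unusedSectionVars false
set_option backward.isDefEq.respectTransparency.types false
set_option backward.isDefEq.respectTransparency false

universe u

open CategoryTheory CategoryTheory.Limits AlgebraicGeometry TopologicalSpace Opposite

noncomputable section

namespace Groth.L14.LocTriv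

open Groth.L18.Frame (rs ro rs_rs rs_self rs_smul ro_ro)
open Groth.L17.BC (Sec resL C dL dL_apply Idx opn K K_d)

variable {k : Type u} [CommRing k] {X : Scheme.{u}} [X.Over (Spec (CommRingCat.of k))] (F : X.Modules)

/-- Sections with their structure of a module over the base. -/
abbrev SecK (k : Type u) [CommRing k] [X.Over (Spec (CommRingCat.of k))] (F : X.Modules) (V : X.Opens) : Type u :=
  Sec (Coh.toGlobal (X ↘ Spec (CommRingCat.of k))) F V

variable (k)

/-- Restriction. -/
abbrev resK {V W : X.Opens} (h : W ≤ V) : SecK k F V →ₗ[k] SecK k F W := resL _ F h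

theorem resK_resK {U V W : X.Opens} (h : V ≤ U) (h' : W ≤ V) (s : SecK k F U) :
    resK k F h' (resK k F h s) = resK k F (h'.trans h) s := rs_rs F h h' s

theorem resK_self {U : X.Opens} (h : U ≤ U) (s : SecK k F U) : resK k F h s = s := rs_self F h s

/-- One-cochains on pairs of affine opens. -/
abbrev Fn : Type u := ∀ U W : X.affineOpens, SecK k F (U.1 ⊓ W.1)

/-- Zero-cochains. -/
abbrev Fn₀ : Type u := ∀ U : X.affineOpens, SecK k F U.1

/-- One-cocycles. -/
def IsCocycle (c : Fn k F) : Prop :=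
  ∀ (U V W : X.affineOpens) (Z : X.Opens) (hUV : Z ≤ U.1 ⊓ V.1) (hVW : Z ≤ V.1 ⊓ W.1) (hUW : Z ≤ U.1 ⊓ W.1),
    resK k F hUV (c U V) + resK k F hVW (c V W) = resK k F hUW (c U W)

/-- The coboundary of a zero-cochain. -/
def bdry : Fn₀ k F →ₗ[k] Fn k F :=
  LinearMap.pi fun U => LinearMap.pi fun W =>
    (resK k F inf_le_right).comp (LinearMap.proj W) - (resK k F inf_le_left).comp (LinearMap.proj U)

theorem bdry_apply (t : Fn₀ k F) (U W : X.affineOpens) :
    bdry k F t U W = resK k F inf_le_right (t W) - resK k F inf_le_left (t U) := rfl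

/-- The cocycles. -/
def cocycles : Submodule k (Fn k F) where
  carrier := {c | IsCocycle k F c}
  add_mem' {c d} hc hd U V W Z h1 h2 h3 := by
    simp only [Pi.add_apply, map_add]
    rw [add_add_add_comm, hc U V W Z h1 h2 h3, hd U V W Z h1 h2 h3]
  zero_mem' U V W Z h1 h2 h3 := by simp
  smul_mem' r c hc U V W Z h1 h2 h3 := by
    simp only [Pi.smul_apply, map_smul]
    rw [← smul_add, hc U V W Z h1 h2 h3]

theorem mem_cocycles {c : Fn k F} : c ∈ cocycles k F ↔ IsCocycle k F c := Iff.rfl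

theorem bdry_mem (t : Fn₀ k F) : bdry k F t ∈ cocycles k F := by
  intro U V W Z h1 h2 h3
  simp only [bdry_apply, map_sub, resK_resK]
  abel

section Translate

local notation "ρ" => Coh.toGlobal (X ↘ Spec (CommRingCat.of k))
local notation "𝒰" => (fun U : X.affineOpens => (U : X.Opens))

variable {k F}

theorem opn_le_getElem (a : List X.affineOpens) (i : ℕ) (h : i < a.length) : opn 𝒰 a ≤ (a[i] : X.affineOpens).1 :=
  iInf_le (fun l : Fin a.length => (a[l.1] : X.affineOpens).1) ⟨i, h⟩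

theorem le_opn_pair (U W : X.affineOpens) : U.1 ⊓ W.1 ≤ opn 𝒰 [U, W] := by
  refine le_iInf fun l => ?_
  fin_cases l
  · exact inf_le_left
  · exact inf_le_right

theorem idx_len {i : ℕ} (a : Idx X.affineOpens (i : ℤ)) : a.1.length = i + 1 := by
  have := a.2.1
  omega

/-- The index of a pair. -/
def pair (U W : X.affineOpens) : Idx X.affineOpens 1 := ⟨[U, W], rfl, List.cons_ne_nil _ _⟩

/-- The index of one open. -/
def single (U : X.affineOpens) : Idx X.affineOpens 0 := ⟨[U], rfl, List.cons_ne_nil _ _⟩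

theorem exists_pair (a : Idx X.affineOpens 1) : ∃ U W, a = pair U W := by
  obtain ⟨U, W, h⟩ := List.length_eq_two.1 (idx_len (i := 1) a)
  exact ⟨U, W, Subtype.ext h⟩

theorem exists_single (a : Idx X.affineOpens 0) : ∃ U, a = single U := by
  obtain ⟨U, h⟩ := List.length_eq_one_iff.1 (idx_len (i := 0) a)
  exact ⟨U, Subtype.ext h⟩

theorem exists_triple (a : Idx X.affineOpens (1 + 1)) :
    ∃ U V W, a = ⟨[U, V, W], rfl, List.cons_ne_nil _ _⟩ := by
  obtain ⟨U, V, W, h⟩ := List.length_eq_three.1 (show a.1.length = 3 from idx_len (i := 2) a)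
  exact ⟨U, V, W, Subtype.ext h⟩

theorem resK_congr {i : ℤ} (x : C ρ F 𝒰 i) {a a' : Idx X.affineOpens i} (h : a = a') {W : X.Opens}
    (ha : W ≤ opn 𝒰 a.1) (ha' : W ≤ opn 𝒰 a'.1) : resK k F ha (x a) = resK k F ha' (x a') := by
  subst h
  rfl

/-- The first entry. -/
abbrev fstI (a : Idx X.affineOpens 1) : X.affineOpens := a.1[0]'(by rw [idx_len (i := 1) a]; omega)

/-- The second entry. -/
abbrev sndI (a : Idx X.affineOpens 1) : X.affineOpens := a.1[1]'(by rw [idx_len (i := 1) a]; omega)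

theorem opn_le_fst_snd (a : Idx X.affineOpens 1) : opn 𝒰 a.1 ≤ (fstI a).1 ⊓ (sndI a).1 :=
  le_inf (opn_le_getElem a.1 0 _) (opn_le_getElem a.1 1 _)

/-- To the one-cochains of the complex. -/
def toC1 : Fn k F →ₗ[k] C ρ F 𝒰 1 where
  toFun c a := resK k F (opn_le_fst_snd a) (c (fstI a) (sndI a))
  map_add' c d := funext fun a => map_add _ (c (fstI a) (sndI a)) (d (fstI a) (sndI a))
  map_smul' r c := funext fun a => map_smul _ r (c (fstI a) (sndI a))

theorem toC1_pair (c : Fn k F) (U W : X.affineOpens) {V : X.Opens} (h : V ≤ opn 𝒰 (pair U W).1)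
    (h' : V ≤ U.1 ⊓ W.1) : resK k F h (toC1 c (pair U W)) = resK k F h' (c U W) := by
  show resK k F h (resK k F _ (c U W)) = _
  rw [resK_resK]

theorem toC1_bijective : Function.Bijective (toC1 : Fn k F →ₗ[k] C ρ F 𝒰 1) := by
  refine ⟨fun c d e => funext fun U => funext fun W => ?_, fun y => ?_⟩
  · have h := congrArg (fun z : C ρ F 𝒰 1 => resK k F (le_opn_pair U W) (z (pair U W))) e
    exact (resK_self k F le_rfl (c U W)).symm.trans ((toC1_pair c U W _ le_rfl).symm.trans
      (h.trans ((toC1_pair d U W _ le_rfl).trans (resK_self k F le_rfl (d U W)))))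
  · refine ⟨fun U W => resK k F (le_opn_pair U W) (y (pair U W)), funext fun a => ?_⟩
    obtain ⟨U, W, rfl⟩ := exists_pair a
    show resK k F _ (resK k F _ (y (pair U W))) = y (pair U W)
    rw [resK_resK, resK_self]

/-- To the zero-cochains of the complex. -/
def toC0 : Fn₀ k F →ₗ[k] C ρ F 𝒰 0 :=
  LinearMap.pi fun a =>
    (resK k F (opn_le_getElem a.1 0 (by rw [idx_len (i := 0) a]; omega))).comp
      (LinearMap.proj (φ := fun U : X.affineOpens => SecK k F U.1) _)

theorem toC0_single (t : Fn₀ k F) (U : X.affineOpens) {V : X.Opens} (h : V ≤ opn 𝒰 (single U).1)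
    (h' : V ≤ U.1) : resK k F h (toC0 t (single U)) = resK k F h' (t U) := by
  show resK k F h (resK k F _ (t U)) = _
  rw [resK_resK]

theorem toC0_surjective : Function.Surjective (toC0 : Fn₀ k F →ₗ[k] C ρ F 𝒰 0) := fun y => by
  refine ⟨fun U => resK k F (le_iInf fun l => (by fin_cases l; exact le_rfl)) (y (single U)), funext fun a => ?_⟩
  obtain ⟨U, rfl⟩ := exists_single a
  show resK k F _ (resK k F _ (y (single U))) = y (single U)
  rw [resK_resK, resK_self]

theorem dL_toC0 (t : Fn₀ k F) : dL ρ F 𝒰 0 (toC0 t) = toC1 (bdry k F t) := by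
  funext a
  obtain ⟨U, W, rfl⟩ := exists_pair a
  refine (dL_apply ρ F 𝒰 le_rfl _ _).trans ?_
  refine (Fin.sum_univ_two (M := SecK k F _) _).trans ?_
  have h0 : (opn 𝒰 [U, W]) ≤ U.1 := opn_le_getElem [U, W] 0 (by simp)
  have h1 : (opn 𝒰 [U, W]) ≤ W.1 := opn_le_getElem [U, W] 1 (by simp)
  show ((-1 : ℤ) ^ 0) • resK k F _ (toC0 t (single W)) + ((-1 : ℤ) ^ 1) • resK k F _ (toC0 t (single U)) =
    resK k F _ (resK k F _ (t W) - resK k F _ (t U))
  rw [pow_zero, pow_one, one_smul, neg_smul, one_smul, map_sub, resK_resK, resK_resK, ← sub_eq_add_neg]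
  exact congrArg₂ (· - ·) (toC0_single t W _ h1) (toC0_single t U _ h0)

theorem dL_toC1_eq_zero_iff (c : Fn k F) : dL ρ F 𝒰 1 (toC1 c) = 0 ↔ IsCocycle k F c := by
  have key : ∀ U V W, (dL ρ F 𝒰 1 (toC1 c) ⟨[U, V, W], rfl, List.cons_ne_nil _ _⟩ : SecK k F (opn 𝒰 [U, V, W])) =
      resK k F (le_inf (opn_le_getElem [U, V, W] 1 (by simp)) (opn_le_getElem [U, V, W] 2 (by simp))) (c V W) -
      resK k F (le_inf (opn_le_getElem [U, V, W] 0 (by simp)) (opn_le_getElem [U, V, W] 2 (by simp))) (c U W) +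
      resK k F (le_inf (opn_le_getElem [U, V, W] 0 (by simp)) (opn_le_getElem [U, V, W] 1 (by simp))) (c U V) := by
    intro U V W
    refine (dL_apply ρ F 𝒰 zero_le_one _ _).trans ?_
    refine (Fin.sum_univ_three (M := SecK k F (opn 𝒰 [U, V, W])) _).trans ?_
    show ((-1 : ℤ) ^ 0) • resK k F _ (toC1 c (pair V W)) + ((-1 : ℤ) ^ 1) • resK k F _ (toC1 c (pair U W)) +
      ((-1 : ℤ) ^ 2) • resK k F _ (toC1 c (pair U V)) = _
    rw [pow_zero, pow_one, one_smul, neg_smul, one_smul, neg_one_sq, one_smul, ← sub_eq_add_neg]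
    exact congrArg₂ (· + ·) (congrArg₂ (· - ·) (toC1_pair c V W _ _) (toC1_pair c U W _ _)) (toC1_pair c U V _ _)
  constructor
  · intro h U V W Z h1 h2 h3
    have h' := (key U V W).symm.trans (congrFun h ⟨[U, V, W], rfl, List.cons_ne_nil _ _⟩)
    have hZ : Z ≤ opn 𝒰 [U, V, W] := le_iInf fun l => by
      fin_cases l
      · exact h1.trans inf_le_left
      · exact h1.trans inf_le_right
      · exact h2.trans inf_le_right
    have h'' := congrArg (resK k F hZ) h'
    simp only [map_add, map_sub, resK_resK, Pi.zero_apply, map_zero] at h''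
    rw [← sub_eq_zero]
    refine Eq.trans ?_ (show resK k F h2 (c V W) - resK k F h3 (c U W) + resK k F h1 (c U V) = 0 from h'')
    abel
  · intro h
    funext a
    obtain ⟨U, V, W, rfl⟩ := exists_triple a
    refine (key U V W).trans ?_
    show _ = (0 : SecK k F _)
    rw [sub_add_eq_add_sub, sub_eq_zero, add_comm]
    exact h U V W _ _ _ _

end Translate

variable [IsSeparated (X ↘ Spec (CommRingCat.of k))]

include k in
theorem isAffineOpen_iInf {n : ℕ} (a : Fin (n + 1) → X.affineOpens) : IsAffineOpen (⨅ l, (a l).1) := by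
  haveI : X.IsSeparated := ⟨by
    have : terminal.from X = (X ↘ Spec (CommRingCat.of k)) ≫ terminal.from _ := terminal.hom_ext _ _
    rw [this]
    infer_instance⟩
  induction n with
  | zero =>
    rw [show (⨅ l, (a l).1) = (a 0).1 from le_antisymm (iInf_le _ 0) (le_iInf fun l => by rw [Fin.fin_one_eq_zero l])]
    exact (a 0).2
  | succ n ih =>
    rw [show (⨅ l, (a l).1) = (a 0).1 ⊓ ⨅ l : Fin (n + 1), (a l.succ).1 from
      le_antisymm (le_inf (iInf_le _ 0) (le_iInf fun l => iInf_le _ l.succ))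
        (le_iInf (Fin.cases inf_le_left fun l => inf_le_right.trans (iInf_le _ l)))]
    exact (a 0).2.inf (ih _)

set_option maxHeartbeats 800000 in
/-- First cohomology is cocycles modulo coboundaries. -/
theorem exists_class [Coh.IsQCoh F] :
    ∃ κ : cocycles k F →ₗ[k] Coh.HH X F 1,
      Function.Surjective κ ∧ ∀ c, κ c = 0 ↔ ∃ t : Fn₀ k F, bdry k F t = c.1 := by
  let ρ := Coh.toGlobal (X ↘ Spec (CommRingCat.of k))
  let 𝒰 := fun U : X.affineOpens => (U : X.Opens)
  let Kc := K ρ F 𝒰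
  obtain ⟨e⟩ := Groth.L17.BC.exists_homology_equiv ρ F 𝒰 (iSup_affineOpens_eq_top X)
    (fun n a => isAffineOpen_iInf (k := k) a) 1
  have hn : (ComplexShape.up ℤ).next (1 : ℤ) = 1 + 1 := CochainComplex.next _ _
  have hp : (ComplexShape.up ℤ).prev (1 : ℤ) = 0 := CochainComplex.prev _ _
  have hx : ∀ c : cocycles k F, Kc.d 1 (1 + 1) (toC1 c.1) = 0 := fun c =>
    (K_d ρ F 𝒰 1 _).trans ((dL_toC1_eq_zero_iff c.1).2 c.2)
  choose w hw using fun c => Groth.L28.HomElt.exists_cycle (K := Kc) hn _ (hx c)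
  have hinj := Groth.L28.HomElt.iCycles_injective Kc (1 : ℤ)
  let w' : cocycles k F →ₗ[k] Kc.homology (1 : ℤ) :=
    { toFun := fun c => Kc.homologyπ 1 (w c)
      map_add' := fun c d => by
        rw [← map_add]
        refine congrArg _ (hinj ?_)
        rw [map_add, hw, hw, hw]
        exact map_add toC1 c.1 d.1
      map_smul' := fun r c => by
        rw [RingHom.id_apply, ← map_smul]
        refine congrArg _ (hinj ?_)
        rw [map_smul, hw, hw]
        exact map_smul toC1 r c.1 }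
  refine ⟨e.toLinearMap.comp w', e.surjective.comp fun h => ?_, fun c => ?_⟩
  · obtain ⟨z, rfl⟩ := Groth.L28.HomElt.homologyπ_surjective Kc 1 h
    obtain ⟨c, hc⟩ := toC1_bijective.2 (Kc.iCycles 1 z)
    have hc' : c ∈ cocycles k F := by
      refine (dL_toC1_eq_zero_iff c).1 ((K_d ρ F 𝒰 1 _).symm.trans ?_)
      rw [hc]
      exact Groth.L28.HomElt.d_iCycles 1 (1 + 1) z
    refine ⟨⟨c, hc'⟩, congrArg (Kc.homologyπ 1) (hinj ?_)⟩
    rw [hw]
    exact hc
  · refine (e.map_eq_zero_iff).trans ((Groth.L28.HomElt.π_eq_zero_iff hp (w c)).trans ?_)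
    rw [hw]
    constructor
    · rintro ⟨y, hy⟩
      obtain ⟨t, rfl⟩ := toC0_surjective y
      exact ⟨t, toC1_bijective.1 ((dL_toC0 t).symm.trans ((K_d ρ F 𝒰 0 _).symm.trans hy))⟩
    · rintro ⟨t, ht⟩
      exact ⟨toC0 t, (K_d ρ F 𝒰 0 _).trans ((dL_toC0 t).trans (congrArg toC1 ht))⟩

end Groth.L14.LocTriv
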