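import Groth.Agent.L14.DefLift.LocTriv.H1

/-! # Second cohomology by cocycles on triples of affine opens -/

set_option autoImplicit false
set_option linter.style.haveILetI false
set_option linter.unusedSectionVars false
set_option backward.isDefEq.respectTransparency.types false
set_option backward.isDefEq.respectTransparency false

universe u

open CategoryTheory CategoryTheory.Limits AlgebraicGeometry TopologicalSpace Opposite

noncomputable section

namespace Groth.L14.LocTriv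

open Groth.L18.Frame (rs ro rs_rs rs_self rs_smul ro_ro)
open Groth.L17.BC (Sec resL C dL dL_apply Idx opn K K_d)

variable (k : Type u) [CommRing k] {X : Scheme.{u}} [X.Over (Spec (CommRingCat.of k))] (F : X.Modules)

/-- Two-cochains on triples of affine opens. -/
abbrev Fn₂ : Type u := ∀ U V W : X.affineOpens, SecK k F (U.1 ⊓ V.1 ⊓ W.1)

/-- The coboundary of a one-cochain. -/
def bdry₁ : Fn k F →ₗ[k] Fn₂ k F where
  toFun c U V W :=
    resK k F (le_inf (inf_le_left.trans inf_le_right) inf_le_right) (c V W)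
      - resK k F (le_inf (inf_le_left.trans inf_le_left) inf_le_right) (c U W)
      + resK k F inf_le_left (c U V)
  map_add' c d := funext fun U => funext fun V => funext fun W => by
    simp only [Pi.add_apply, map_add]
    abel
  map_smul' r c := funext fun U => funext fun V => funext fun W => by
    simp only [Pi.smul_apply, map_smul, RingHom.id_apply, smul_add, smul_sub]

theorem bdry₁_apply (c : Fn k F) (U V W : X.affineOpens) : bdry₁ k F c U V W =
    resK k F (le_inf (inf_le_left.trans inf_le_right) inf_le_right) (c V W)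
      - resK k F (le_inf (inf_le_left.trans inf_le_left) inf_le_right) (c U W)
      + resK k F inf_le_left (c U V) := rfl

/-- Two-cocycles. -/
def IsCocycle₂ (o : Fn₂ k F) : Prop :=
  ∀ (U V W T : X.affineOpens) (Z : X.Opens) (h₀ : Z ≤ V.1 ⊓ W.1 ⊓ T.1) (h₁ : Z ≤ U.1 ⊓ W.1 ⊓ T.1)
    (h₂ : Z ≤ U.1 ⊓ V.1 ⊓ T.1) (h₃ : Z ≤ U.1 ⊓ V.1 ⊓ W.1),
    resK k F h₀ (o V W T) + resK k F h₂ (o U V T) = resK k F h₁ (o U W T) + resK k F h₃ (o U V W)

/-- The two-cocycles. -/
def cocycles₂ : Submodule k (Fn₂ k F) where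
  carrier := {o | IsCocycle₂ k F o}
  add_mem' {o o'} h h' U V W T Z a b c d := by
    simp only [Pi.add_apply, map_add]
    rw [add_add_add_comm, h U V W T Z a b c d, h' U V W T Z a b c d, add_add_add_comm]
  zero_mem' U V W T Z a b c d := by simp
  smul_mem' r o h U V W T Z a b c d := by
    simp only [Pi.smul_apply, map_smul]
    rw [← smul_add, h U V W T Z a b c d, smul_add]

section Translate

local notation "ρ" => Coh.toGlobal (X ↘ Spec (CommRingCat.of k))
local notation "𝒰" => (fun U : X.affineOpens => (U : X.Opens))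

variable {k F}

/-- The index of a triple. -/
def triple (U V W : X.affineOpens) : Idx X.affineOpens 2 := ⟨[U, V, W], rfl, List.cons_ne_nil _ _⟩

theorem exists_triple₂ (a : Idx X.affineOpens 2) : ∃ U V W, a = triple U V W := by
  obtain ⟨U, V, W, h⟩ := List.length_eq_three.1 (show a.1.length = 3 from idx_len (i := 2) a)
  exact ⟨U, V, W, Subtype.ext h⟩

theorem le_opn_triple (U V W : X.affineOpens) : U.1 ⊓ V.1 ⊓ W.1 ≤ opn 𝒰 [U, V, W] := by
  refine le_iInf fun l => ?_
  fin_cases l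
  · exact inf_le_left.trans inf_le_left
  · exact inf_le_left.trans inf_le_right
  · exact inf_le_right

theorem opn_le_triple (U V W : X.affineOpens) : opn 𝒰 [U, V, W] ≤ U.1 ⊓ V.1 ⊓ W.1 :=
  le_inf (le_inf (opn_le_getElem [U, V, W] 0 (by simp)) (opn_le_getElem [U, V, W] 1 (by simp)))
    (opn_le_getElem [U, V, W] 2 (by simp))

/-- The first entry. -/
abbrev e₀ (a : Idx X.affineOpens 2) : X.affineOpens := a.1[0]'(by rw [idx_len (i := 2) a]; omega)

/-- The second entry. -/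
abbrev e₁ (a : Idx X.affineOpens 2) : X.affineOpens := a.1[1]'(by rw [idx_len (i := 2) a]; omega)

/-- The third entry. -/
abbrev e₂ (a : Idx X.affineOpens 2) : X.affineOpens := a.1[2]'(by rw [idx_len (i := 2) a]; omega)

theorem opn_le_entries (a : Idx X.affineOpens 2) : opn 𝒰 a.1 ≤ (e₀ a).1 ⊓ (e₁ a).1 ⊓ (e₂ a).1 :=
  le_inf (le_inf (opn_le_getElem a.1 0 _) (opn_le_getElem a.1 1 _)) (opn_le_getElem a.1 2 _)

/-- To the two-cochains of the complex. -/
def toC2 : Fn₂ k F →ₗ[k] C ρ F 𝒰 2 where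
  toFun o a := resK k F (opn_le_entries a) (o (e₀ a) (e₁ a) (e₂ a))
  map_add' c d := funext fun a => map_add _ (c (e₀ a) (e₁ a) (e₂ a)) (d (e₀ a) (e₁ a) (e₂ a))
  map_smul' r c := funext fun a => map_smul _ r (c (e₀ a) (e₁ a) (e₂ a))

theorem toC2_triple (o : Fn₂ k F) (U V W : X.affineOpens) {Z : X.Opens} (h : Z ≤ opn 𝒰 (triple U V W).1)
    (h' : Z ≤ U.1 ⊓ V.1 ⊓ W.1) : resK k F h (toC2 o (triple U V W)) = resK k F h' (o U V W) := by
  show resK k F h (resK k F _ (o U V W)) = _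
  rw [resK_resK]

theorem toC2_injective : Function.Injective (toC2 : Fn₂ k F →ₗ[k] C ρ F 𝒰 2) := fun c d e => by
  funext U V W
  have h := congrArg (fun z : C ρ F 𝒰 2 => resK k F (le_opn_triple U V W) (z (triple U V W))) e
  exact (resK_self k F le_rfl (c U V W)).symm.trans ((toC2_triple c U V W _ le_rfl).symm.trans
    (h.trans ((toC2_triple d U V W _ le_rfl).trans (resK_self k F le_rfl (d U V W)))))

theorem dL_toC1 (c : Fn k F) : dL ρ F 𝒰 1 (toC1 c) = toC2 (bdry₁ k F c) := by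
  funext a
  obtain ⟨U, V, W, rfl⟩ := exists_triple₂ a
  refine (dL_apply ρ F 𝒰 zero_le_one _ _).trans ?_
  refine (Fin.sum_univ_three (M := SecK k F (opn 𝒰 [U, V, W])) _).trans ?_
  show ((-1 : ℤ) ^ 0) • resK k F _ (toC1 c (pair V W)) + ((-1 : ℤ) ^ 1) • resK k F _ (toC1 c (pair U W)) +
    ((-1 : ℤ) ^ 2) • resK k F _ (toC1 c (pair U V)) = resK k F _ (bdry₁ k F c U V W)
  rw [pow_zero, pow_one, one_smul, neg_smul, one_smul, neg_one_sq, one_smul, ← sub_eq_add_neg, bdry₁_apply, map_add,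
    map_sub, resK_resK, resK_resK, resK_resK]
  exact congrArg₂ (· + ·) (congrArg₂ (· - ·) (toC1_pair c V W _ _) (toC1_pair c U W _ _)) (toC1_pair c U V _ _)

theorem dL_toC2_eq_zero (o : Fn₂ k F) (ho : IsCocycle₂ k F o) : dL ρ F 𝒰 2 (toC2 o) = 0 := by
  funext a
  obtain ⟨U, V, W, T, h⟩ : ∃ U V W T, a.1 = [U, V, W, T] := by
    have hl : a.1.length = 4 := idx_len (i := 3) a
    match a.1, hl with
    | [U, V, W, T], _ => exact ⟨U, V, W, T, rfl⟩
  obtain rfl : a = ⟨[U, V, W, T], rfl, List.cons_ne_nil _ _⟩ := Subtype.ext h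
  refine (dL_apply ρ F 𝒰 (by norm_num) _ _).trans ?_
  refine (Fin.sum_univ_four (M := SecK k F (opn 𝒰 [U, V, W, T])) _).trans ?_
  have h₀ : opn 𝒰 [U, V, W, T] ≤ V.1 ⊓ W.1 ⊓ T.1 := le_inf (le_inf (opn_le_getElem [U, V, W, T] 1 (by simp))
    (opn_le_getElem [U, V, W, T] 2 (by simp))) (opn_le_getElem [U, V, W, T] 3 (by simp))
  have h₁ : opn 𝒰 [U, V, W, T] ≤ U.1 ⊓ W.1 ⊓ T.1 := le_inf (le_inf (opn_le_getElem [U, V, W, T] 0 (by simp))
    (opn_le_getElem [U, V, W, T] 2 (by simp))) (opn_le_getElem [U, V, W, T] 3 (by simp))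
  have h₂ : opn 𝒰 [U, V, W, T] ≤ U.1 ⊓ V.1 ⊓ T.1 := le_inf (le_inf (opn_le_getElem [U, V, W, T] 0 (by simp))
    (opn_le_getElem [U, V, W, T] 1 (by simp))) (opn_le_getElem [U, V, W, T] 3 (by simp))
  have h₃ : opn 𝒰 [U, V, W, T] ≤ U.1 ⊓ V.1 ⊓ W.1 := le_inf (le_inf (opn_le_getElem [U, V, W, T] 0 (by simp))
    (opn_le_getElem [U, V, W, T] 1 (by simp))) (opn_le_getElem [U, V, W, T] 2 (by simp))
  show ((-1 : ℤ) ^ 0) • resK k F _ (toC2 o (triple V W T)) + ((-1 : ℤ) ^ 1) • resK k F _ (toC2 o (triple U W T)) +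
    ((-1 : ℤ) ^ 2) • resK k F _ (toC2 o (triple U V T)) + ((-1 : ℤ) ^ 3) • resK k F _ (toC2 o (triple U V W)) =
      (0 : SecK k F _)
  rw [pow_zero, pow_one, one_smul, neg_smul, one_smul, neg_one_sq, one_smul,
    show ((-1 : ℤ) ^ 3) = -1 by norm_num, neg_smul, one_smul, toC2_triple o V W T _ h₀, toC2_triple o U W T _ h₁,
    toC2_triple o U V T _ h₂, toC2_triple o U V W _ h₃]
  rw [← sub_eq_zero.2 (ho U V W T _ h₀ h₁ h₂ h₃)]
  abel

end Translate

variable [IsSeparated (X ↘ Spec (CommRingCat.of k))]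

set_option maxHeartbeats 800000 in
/-- A linear map on two-cocycles that detects coboundaries. -/
theorem exists_class₂ [Coh.IsQCoh F] :
    ∃ κ : cocycles₂ k F →ₗ[k] Coh.HH X F 2, ∀ o, κ o = 0 ↔ ∃ c : Fn k F, bdry₁ k F c = o.1 := by
  let ρ := Coh.toGlobal (X ↘ Spec (CommRingCat.of k))
  let 𝒰 := fun U : X.affineOpens => (U : X.Opens)
  let Kc := K ρ F 𝒰
  obtain ⟨e⟩ := Groth.L17.BC.exists_homology_equiv ρ F 𝒰 (iSup_affineOpens_eq_top X)
    (fun n a => isAffineOpen_iInf (k := k) a) 2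
  have hn : (ComplexShape.up ℤ).next (2 : ℤ) = 2 + 1 := CochainComplex.next _ _
  have hp : (ComplexShape.up ℤ).prev (2 : ℤ) = 1 := CochainComplex.prev _ _
  have hx : ∀ o : cocycles₂ k F, Kc.d 2 (2 + 1) (toC2 o.1) = 0 := fun o =>
    (K_d ρ F 𝒰 2 _).trans (dL_toC2_eq_zero o.1 o.2)
  choose w hw using fun o => Groth.L28.HomElt.exists_cycle (K := Kc) hn _ (hx o)
  have hinj := Groth.L28.HomElt.iCycles_injective Kc (2 : ℤ)
  let w' : cocycles₂ k F →ₗ[k] Kc.homology (2 : ℤ) :=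
    { toFun := fun o => Kc.homologyπ 2 (w o)
      map_add' := fun c d => by
        rw [← map_add]
        refine congrArg _ (hinj ?_)
        rw [map_add, hw, hw, hw]
        exact map_add toC2 c.1 d.1
      map_smul' := fun r c => by
        rw [RingHom.id_apply, ← map_smul]
        refine congrArg _ (hinj ?_)
        rw [map_smul, hw, hw]
        exact map_smul toC2 r c.1 }
  refine ⟨e.toLinearMap.comp w', fun o => ?_⟩
  refine (e.map_eq_zero_iff).trans ((Groth.L28.HomElt.π_eq_zero_iff hp (w o)).trans ?_)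
  rw [hw]
  constructor
  · rintro ⟨y, hy⟩
    obtain ⟨c, rfl⟩ := toC1_bijective.2 y
    exact ⟨c, toC2_injective ((dL_toC1 c).symm.trans ((K_d ρ F 𝒰 1 _).symm.trans hy))⟩
  · rintro ⟨c, hc⟩
    exact ⟨toC1 c, (K_d ρ F 𝒰 1 _).trans ((dL_toC1 c).trans (congrArg toC2 hc))⟩

end Groth.L14.LocTriv
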