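import Groth.Agent.L14.DefLift.LocTriv.Ext
import Groth.Agent.L14.DefLift.LocTriv.H2
import Groth.Agent.L14.DefLift.LocTriv.GenTwist

/-! # The obstruction to lifting a deformation of a smooth scheme -/

set_option autoImplicit false
set_option linter.style.haveILetI false
set_option linter.unusedSectionVars false
set_option backward.isDefEq.respectTransparency.types false
set_option backward.isDefEq.respectTransparency false

universe u

open CategoryTheory CategoryTheory.Limits AlgebraicGeometry TopologicalSpace Opposite ArtFun ArtFun.Art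

noncomputable section

namespace Groth.L14.LocTriv

open Groth.L18.Frame (ro)

section Comb

variable {k : Type u} [Field k] {X : Scheme.{u}} {x : X ⟶ specPt k} [Smooth x] {A A' A'' : Art k k}
variable {ξ : DefSch X x A} {ξ₁ ξ₂ ξ₃ : DefSch X x A'} {ξ' : DefSch X x A'} {ξ'' : DefSch X x A''}
variable {U U' : X.affineOpens}

namespace LocHom

/-- Precomposition with an isomorphism. -/
def cId {μ : A' ⟶ A''} (θ : LocHom (𝟙 A') ξ₁ ξ₂ U) (τ : LocHom μ ξ₂ ξ'' U) : LocHom μ ξ₁ ξ'' U where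
  hom := τ.hom.comp θ.hom
  hom_rB a := by rw [RingHom.comp_apply, θ.hom_rB, τ.hom_rB]; rfl
  red_hom r := by rw [RingHom.comp_apply, τ.red_hom, θ.red_hom]

theorem cId_apply {μ : A' ⟶ A''} (θ : LocHom (𝟙 A') ξ₁ ξ₂ U) (τ : LocHom μ ξ₂ ξ'' U) (r : R ξ₁ U.1) :
    (cId θ τ).hom r = τ.hom (θ.hom r) := rfl

/-- The inverse. -/
def inv (θ : LocHom (𝟙 A') ξ₁ ξ₂ U) : LocHom (𝟙 A') ξ₂ ξ₁ U where
  hom := (RingEquiv.ofBijective θ.hom (bijective_id_hom θ)).symm.toRingHom
  hom_rB a := by
    show (RingEquiv.ofBijective θ.hom (bijective_id_hom θ)).symm _ = _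
    rw [RingEquiv.symm_apply_eq]
    exact (θ.hom_rB a).symm
  red_hom r := by
    obtain ⟨r, rfl⟩ := (bijective_id_hom θ).2 r
    show red ξ₁ U.1 ((RingEquiv.ofBijective θ.hom (bijective_id_hom θ)).symm
      ((RingEquiv.ofBijective θ.hom (bijective_id_hom θ)) r)) = _
    rw [RingEquiv.symm_apply_apply, θ.red_hom]

theorem inv_hom_apply (θ : LocHom (𝟙 A') ξ₁ ξ₂ U) (r : R ξ₁ U.1) : (inv θ).hom (θ.hom r) = r :=
  (RingEquiv.ofBijective θ.hom (bijective_id_hom θ)).symm_apply_apply r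

theorem hom_inv_apply (θ : LocHom (𝟙 A') ξ₁ ξ₂ U) (r : R ξ₂ U.1) : θ.hom ((inv θ).hom r) = r :=
  (RingEquiv.ofBijective θ.hom (bijective_id_hom θ)).apply_symm_apply r

variable {μ : A ⟶ A''} {ν : A ⟶ A'} {ν' : A' ⟶ A''}

theorem hom_restrict_of_comp {a : LocHom ν ξ ξ' U} {b : LocHom ν' ξ' ξ'' U} {c : LocHom μ ξ ξ'' U}
    (hμ : ν ≫ ν' = μ) (h : ∀ r, b.hom (a.hom r) = c.hom r) (hU : U'.1 ≤ U.1) (r : R ξ U'.1) :
    (b.restrict hU).hom ((a.restrict hU).hom r) = (c.restrict hU).hom r := by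
  let T : LocHom μ ξ ξ'' U' := ⟨(b.restrict hU).hom.comp (a.restrict hU).hom, fun t => by
      rw [RingHom.comp_apply, (a.restrict hU).hom_rB, (b.restrict hU).hom_rB, ← hμ]; rfl,
    fun r => ((b.restrict hU).red_hom _).trans ((a.restrict hU).red_hom r)⟩
  have e : T = c.restrict hU := restrict_unique (θ := c) (fun r => by
    rw [← h r]
    show res ξ'' hU (b.hom (a.hom r)) = (b.restrict hU).hom ((a.restrict hU).hom (res ξ hU r))
    rw [← restricts_restrict a hU r]
    exact restricts_restrict b hU _) (restricts_restrict _ hU)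
  exact congrArg (fun t => LocHom.hom t r) e

theorem Diff.cId_left {S : SocBasis A'} {f g : LocHom (𝟙 A') ξ₁ ξ₂ U} {D : Fin S.n → Γ(X, U.1) → Γ(X, U.1)}
    (h : Diff S f g D) (τ : LocHom (𝟙 A') ξ₂ ξ₃ U) : Diff S (cId f τ) (cId g τ) D := fun r => by
  rw [cId_apply, cId_apply, h r, map_add, hom_sum_id]

theorem Diff.cId_right {S : SocBasis A'} {f g : LocHom (𝟙 A') ξ₂ ξ₃ U} {D : Fin S.n → Γ(X, U.1) → Γ(X, U.1)}
    (h : Diff S f g D) (θ : LocHom (𝟙 A') ξ₁ ξ₂ U) : Diff S (cId θ f) (cId θ g) D := fun r => by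
  rw [cId_apply, cId_apply, h, θ.red_hom]

theorem hom_sum_zero (θ : LocHom ν' ξ' ξ'' U) (S : SocBasis A') (hS : ∀ l, ν' (S.e l) = 0)
    (b : Fin S.n → Γ(X, U.1)) : θ.hom (S.sum ξ' U b) = 0 := by
  simp only [SocBasis.sum, map_sum]
  refine Finset.sum_eq_zero fun l _ => ?_
  rw [jMul, map_mul, θ.hom_rB, hS, map_zero, zero_mul]

theorem cId_assoc {ξ₄ : DefSch X x A'} (a : LocHom (𝟙 A') ξ₁ ξ₂ U) (b : LocHom (𝟙 A') ξ₂ ξ₃ U)
    (c : LocHom (𝟙 A') ξ₃ ξ₄ U) : cId (cId a b) c = cId a (cId b c) := rfl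

end LocHom

end Comb

variable {k : Type u} [Field k] {X : Scheme.{u}} [X.Over (Spec (CommRingCat.of k))]
  [IsSeparated (X ↘ Spec (CommRingCat.of k))] [LocallyOfFiniteType (X ↘ Spec (CommRingCat.of k))]
  [Smooth (X ↘ Spec (CommRingCat.of k))]

variable (k) in
/-- The intersection of two affine opens. -/
abbrev cap (U W : X.affineOpens) : X.affineOpens := ⟨U.1 ⊓ W.1, isAffineOpen_inter (k := k) U W⟩

variable {C' C : Art k k} {p : C' ⟶ C} {Y : DefSch X (X ↘ Spec (CommRingCat.of k)) C}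

/-- Local lifts with transition maps. -/
structure LiftData (p : C' ⟶ C) (Y : DefSch X (X ↘ Spec (CommRingCat.of k)) C) where
  /-- the local model -/
  T : DefSch X (X ↘ Spec (CommRingCat.of k)) C'
  /-- the local lifts -/
  θ : Frm p T Y
  /-- the transition maps -/
  τ : ∀ U W, LocHom (𝟙 C') T T (cap k U W)
  rel : ∀ (U W : X.affineOpens) r, ((θ W).restrict (U' := cap k U W) inf_le_right).hom ((τ U W).hom r) =
    ((θ U).restrict (U' := cap k U W) inf_le_left).hom r

theorem exists_liftData (hp : Function.Surjective p) (Y : DefSch X (X ↘ Spec (CommRingCat.of k)) C) :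
    Nonempty (LiftData p Y) := by
  let T := (slf (X ↘ Spec (CommRingCat.of k))).baseChange (ofBase C')
  choose θ hθ using fun U => exists_of_spl p (exists_spl T U).some (exists_spl Y U).some
  choose τ hτ using fun U W : X.affineOpens => exists_lift hp ((θ W).restrict (U' := cap k U W) inf_le_right)
    ((θ U).restrict (U' := cap k U W) inf_le_left) (𝟙 C') (Category.id_comp p)
  exact ⟨⟨T, θ, τ, hτ⟩⟩

namespace LiftData

variable (d : LiftData p Y)

/-- The transition map on a smaller open. -/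
abbrev t {U W Z : X.affineOpens} (hU : Z.1 ≤ U.1) (hW : Z.1 ≤ W.1) : LocHom (𝟙 C') d.T d.T Z :=
  (d.τ U W).restrict (le_inf hU hW : Z.1 ≤ (cap k U W).1)

theorem rel' {U W Z : X.affineOpens} (hU : Z.1 ≤ U.1) (hW : Z.1 ≤ W.1) (r : R d.T Z.1) :
    ((d.θ W).restrict hW).hom ((d.t hU hW).hom r) = ((d.θ U).restrict hU).hom r := by
  have h := LocHom.hom_restrict_of_comp (a := d.τ U W) (Category.id_comp p) (d.rel U W)
    (le_inf hU hW : Z.1 ≤ (cap k U W).1) r
  rwa [LocHom.restrict_restrict, LocHom.restrict_restrict] at h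

/-- `o` measures the failure of the cocycle condition. -/
def IsObs (S : SocBasis C') (o : Fin S.n → Fn₂ k (tgt k X)) : Prop :=
  ∀ (U V W Z : X.affineOpens) (hU : Z.1 ≤ U.1) (hV : Z.1 ≤ V.1) (hW : Z.1 ≤ W.1),
    LocHom.Diff S (d.t hU hW) (LocHom.cId (d.t hU hV) (d.t hV hW))
      fun l => dOf (resK k (tgt k X) (le_inf (le_inf hU hV) hW) (o l U V W))

variable {d} {S : SocBasis C'}

theorem exists_obs (hS : RingHom.ker p.toAlgHom.toRingHom ≤ S.span) : ∃ o, d.IsObs S o := by
  let Q : ∀ U V W : X.affineOpens, X.affineOpens := fun U V W => cap k (cap k U V) W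
  have hex : ∀ U V W : X.affineOpens, ∃ o : Fin S.n → SecK k (tgt k X) (U.1 ⊓ V.1 ⊓ W.1),
      LocHom.Diff S (d.t (Z := Q U V W) (inf_le_left.trans inf_le_left) inf_le_right)
        (LocHom.cId (d.t (Z := Q U V W) (inf_le_left.trans inf_le_left) (inf_le_left.trans inf_le_right))
          (d.t (Z := Q U V W) (inf_le_left.trans inf_le_right) inf_le_right)) fun l => dOf (o l) := by
    intro U V W
    obtain ⟨D, hD⟩ := LocHom.exists_diff (S := S)
      (θ₁ := d.t (Z := Q U V W) (inf_le_left.trans inf_le_left) inf_le_right)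
      (θ₂ := LocHom.cId (d.t (Z := Q U V W) (inf_le_left.trans inf_le_left) (inf_le_left.trans inf_le_right))
        (d.t (Z := Q U V W) (inf_le_left.trans inf_le_right) inf_le_right)) fun r =>
      sub_mem_of_comp_eq (μ := 𝟙 C') S hS ((d.θ W).restrict (U' := Q U V W) inf_le_right) (fun r => by
        rw [d.rel', LocHom.cId_apply, d.rel', d.rel']) r
    choose o ho using fun l => exists_dOf_eq (Q U V W).2 (hD.isDer l)
    exact ⟨o, by rw [show (fun l => dOf (o l)) = D from funext ho]; exact hD⟩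
  choose o ho using hex
  refine ⟨fun l U V W => o U V W l, fun U V W Z hU hV hW r => ?_⟩
  have h' := (ho U V W).restrict (U' := Z) (le_inf (le_inf hU hV) hW)
    (D₀ := fun l => dOf (resK k (tgt k X) (le_inf (le_inf hU hV) hW) (o U V W l))) (fun l => isDer_dOf _)
    (fun l a => dOf_res _ _ a) r
  rw [LocHom.restrict_restrict] at h'
  rw [LocHom.cId_apply]
  refine Eq.trans ?_ h'
  rw [← LocHom.hom_restrict_of_comp (c := LocHom.cId _ _) (Category.id_comp _) (fun r => rfl),
    LocHom.restrict_restrict, LocHom.restrict_restrict]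

theorem IsObs.unique {o o' : Fin S.n → Fn₂ k (tgt k X)} (ho : d.IsObs S o) (ho' : d.IsObs S o') : o = o' := by
  funext l U V W
  let Z := cap k (cap k U V) W
  have hU : Z.1 ≤ U.1 := inf_le_left.trans inf_le_left
  have hV : Z.1 ≤ V.1 := inf_le_left.trans inf_le_right
  have hW : Z.1 ≤ W.1 := inf_le_right
  have h := dOf_injective Z.2 (congrFun ((ho U V W Z hU hV hW).unique (ho' U V W Z hU hV hW)) l)
  rwa [resK_self, resK_self] at h

theorem IsObs.cocycle {o : Fin S.n → Fn₂ k (tgt k X)} (ho : d.IsObs S o) (l : Fin S.n) :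
    IsCocycle₂ k (tgt k X) (o l) := by
  intro U V W T Z h₀ h₁ h₂ h₃
  let Q := cap k (cap k (cap k U V) W) T
  have hU : Q.1 ≤ U.1 := (inf_le_left.trans inf_le_left).trans inf_le_left
  have hV : Q.1 ≤ V.1 := (inf_le_left.trans inf_le_left).trans inf_le_right
  have hW : Q.1 ≤ W.1 := inf_le_left.trans inf_le_right
  have hT : Q.1 ≤ T.1 := inf_le_right
  have A := (ho U V T Q hU hV hT).trans ((ho V W T Q hV hW hT).cId_right (d.t hU hV))
  have B := (ho U W T Q hU hW hT).trans ((ho U V W Q hU hV hW).cId_left (d.t hW hT))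
  rw [LocHom.cId_assoc] at B
  have e := congrFun (A.unique B) l
  have e' : resK k (tgt k X) (le_inf (le_inf hU hV) hT) (o l U V T) +
        resK k (tgt k X) (le_inf (le_inf hV hW) hT) (o l V W T) =
      resK k (tgt k X) (le_inf (le_inf hU hW) hT) (o l U W T) +
        resK k (tgt k X) (le_inf (le_inf hU hV) hW) (o l U V W) := dOf_injective Q.2 (funext fun a => by
    rw [dOf_add, dOf_add]
    exact congrFun e a)
  have hZ : Z ≤ Q.1 := le_inf h₃ (h₀.trans inf_le_right)
  have e'' := congrArg (resK k (tgt k X) hZ) e'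
  rw [map_add, map_add, resK_resK, resK_resK, resK_resK, resK_resK] at e''
  rw [add_comm]
  exact e''

/-- The data with changed transition maps. -/
def addCh (d : LiftData p Y) (S : SocBasis C') (hSp : ∀ l, p (S.e l) = 0) (c : Fin S.n → Fn k (tgt k X)) :
    LiftData p Y where
  T := d.T
  θ := d.θ
  τ U W := (d.τ U W).addDer (S := S) (fun l => dOf (c l U W)) fun l => isDer_dOf _
  rel U W r := by
    rw [LocHom.diff_addDer (d.τ U W) _ (fun l => isDer_dOf (c l U W)) r, map_add, d.rel]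
    rw [LocHom.hom_sum_zero _ S hSp, add_zero]

theorem addCh_t (hSp : ∀ l, p (S.e l) = 0) (c : Fin S.n → Fn k (tgt k X)) {U W Z : X.affineOpens}
    (hU : Z.1 ≤ U.1) (hW : Z.1 ≤ W.1) :
    LocHom.Diff S (d.t hU hW) ((d.addCh S hSp c).t hU hW)
      fun l => dOf (resK k (tgt k X) (le_inf hU hW) (c l U W)) :=
  (LocHom.diff_addDer (d.τ U W) _ fun l => isDer_dOf (c l U W)).restrict _ (fun l => isDer_dOf _) fun l a => dOf_res _ _ a

theorem IsObs.addCh {o : Fin S.n → Fn₂ k (tgt k X)} (ho : d.IsObs S o) (hSp : ∀ l, p (S.e l) = 0)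
    (c : Fin S.n → Fn k (tgt k X)) :
    (d.addCh S hSp c).IsObs S (fun l => o l + bdry₁ k (tgt k X) (c l)) := by
  intro U V W Z hU hV hW
  let d' := d.addCh S hSp c
  have h1 := (addCh_t (d := d) hSp c hU hV).cId_left (d.t hV hW)
  have h2 := (addCh_t (d := d) hSp c hV hW).cId_right (d'.t hU hV)
  have h3 := addCh_t (d := d) hSp c hU hW
  have e := ((h3.symm.trans (ho U V W Z hU hV hW)).trans h1).trans h2
  intro r
  refine (e r).trans (congrArg (fun D => _ + S.sum d.T Z D) (funext fun l => ?_))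
  show -dOf (k := k) _ (red d.T Z.1 r) + dOf (k := k) _ (red d.T Z.1 r) + dOf (k := k) _ (red d.T Z.1 r) + dOf (k := k) _ (red d.T Z.1 r) = dOf (k := k) _ (red d.T Z.1 r)
  rw [← dOf_neg, ← dOf_add, ← dOf_add, ← dOf_add]
  refine congrArg (fun s => dOf s (red d.T Z.1 r)) ?_
  simp only [Pi.add_apply, bdry₁_apply, map_add, map_sub, resK_resK]
  abel

theorem IsObs.congr_model {o : Fin S.n → Fn₂ k (tgt k X)} (ho : d.IsObs S o) {T' : DefSch X (X ↘ Spec (CommRingCat.of k)) C'}
    (θ' : Frm p T' Y) (β : Frm (𝟙 C') T' d.T) (hβ : ∀ U r, (d.θ U).hom ((β U).hom r) = (θ' U).hom r) :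
    ∃ τ' : ∀ U W, LocHom (𝟙 C') T' T' (cap k U W),
      ∃ hr : ∀ (U W : X.affineOpens) r, ((θ' W).restrict (U' := cap k U W) inf_le_right).hom ((τ' U W).hom r) =
        ((θ' U).restrict (U' := cap k U W) inf_le_left).hom r,
      (⟨T', θ', τ', hr⟩ : LiftData p Y).IsObs S o := by
  let τ' : ∀ U W, LocHom (𝟙 C') T' T' (cap k U W) := fun U W =>
    LocHom.cId (LocHom.cId ((β U).restrict inf_le_left) (d.τ U W)) (LocHom.inv ((β W).restrict inf_le_right))
  have hr : ∀ (U W : X.affineOpens) r, ((θ' W).restrict (U' := cap k U W) inf_le_right).hom ((τ' U W).hom r) =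
      ((θ' U).restrict (U' := cap k U W) inf_le_left).hom r := fun U W r => by
    rw [← LocHom.hom_restrict_of_comp (Category.id_comp p) (hβ W), ← LocHom.hom_restrict_of_comp (Category.id_comp p) (hβ U),
      LocHom.cId_apply, LocHom.hom_inv_apply, LocHom.cId_apply, d.rel]
  refine ⟨τ', hr, ?_⟩
  let d' : LiftData p Y := ⟨T', θ', τ', hr⟩
  have ht : ∀ {U W Z : X.affineOpens} (hU : Z.1 ≤ U.1) (hW : Z.1 ≤ W.1) r,
      ((β W).restrict hW).hom ((d'.t hU hW).hom r) = (d.t hU hW).hom (((β U).restrict hU).hom r) := by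
    intro U W Z hU hW r
    have h1 := LocHom.hom_restrict_of_comp (a := τ' U W) (b := (β W).restrict inf_le_right)
      (c := LocHom.cId ((β U).restrict inf_le_left) (d.τ U W)) (Category.id_comp _)
      (fun r => LocHom.hom_inv_apply _ _) (le_inf hU hW : Z.1 ≤ (cap k U W).1) r
    have h2 := LocHom.hom_restrict_of_comp (a := (β U).restrict inf_le_left) (b := d.τ U W)
      (c := LocHom.cId ((β U).restrict inf_le_left) (d.τ U W)) (Category.id_comp _)
      (fun r => rfl) (le_inf hU hW : Z.1 ≤ (cap k U W).1) r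
    rw [LocHom.restrict_restrict] at h1 h2
    exact h1.trans h2.symm
  intro U V W Z hU hV hW r
  refine (LocHom.bijective_id_hom ((β W).restrict hW)).1 ?_
  rw [LocHom.cId_apply, ht hV hW, ht hU hV, map_add, LocHom.hom_sum_id, ht hU hW]
  have e := ho U V W Z hU hV hW (((β U).restrict hU).hom r)
  rw [LocHom.cId_apply] at e
  rw [e, ((β U).restrict hU).red_hom]

theorem exists_bdry_of_obs (hp : Function.Surjective p) (hS : RingHom.ker p.toAlgHom.toRingHom ≤ S.span)
    (hSp : ∀ l, p (S.e l) = 0) {d' : LiftData p Y} {o o' : Fin S.n → Fn₂ k (tgt k X)} (ho : d.IsObs S o)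
    (ho' : d'.IsObs S o') : ∃ c : Fin S.n → Fn k (tgt k X), ∀ l, o' l = o l + bdry₁ k (tgt k X) (c l) := by
  choose β hβ using fun U => exists_lift hp (d.θ U) (d'.θ U) (𝟙 C') (Category.id_comp p)
  obtain ⟨τ'', hr, ho''⟩ := ho.congr_model d'.θ β hβ
  let d'' : LiftData p Y := ⟨d'.T, d'.θ, τ'', hr⟩
  choose D hD using fun U W : X.affineOpens => LocHom.exists_diff (S := S) (θ₁ := τ'' U W) (θ₂ := d'.τ U W) fun r =>
    sub_mem_of_comp_eq (μ := 𝟙 C') S hS ((d'.θ W).restrict (U' := cap k U W) inf_le_right)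
      (fun r => (hr U W r).trans (d'.rel U W r).symm) r
  choose c hc using fun (l : Fin S.n) (U W : X.affineOpens) => exists_dOf_eq (cap k U W).2 ((hD U W).isDer l)
  refine ⟨c, fun l => ?_⟩
  have e : d' = d''.addCh S hSp c := by
    obtain ⟨T', θ', τ', hr'⟩ := d'
    show LiftData.mk _ _ _ _ = LiftData.mk _ _ _ _
    congr 1
    funext U W
    refine LocHom.ext' fun r => ?_
    rw [hD U W r, LocHom.diff_addDer (τ'' U W) _ (fun l => isDer_dOf (c l U W)) r]
    simp only [hc]
  have h2 := ho''.addCh (d := d'') hSp c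
  rw [← e] at h2
  exact congrFun (ho'.unique h2) l

theorem exists_extD_of_obs_zero (ho : d.IsObs S 0) : Nonempty (ExtD p Y) := by
  have hz : ∀ (U V W Z : X.affineOpens) (hU : Z.1 ≤ U.1) (hV : Z.1 ≤ V.1) (hW : Z.1 ≤ W.1) r,
      (d.t hV hW).hom ((d.t hU hV).hom r) = (d.t hU hW).hom r := by
    intro U V W Z hU hV hW r
    have e := (ho U V W Z hU hV hW).eq_zero (funext fun l => funext fun a => by
      show dOf (resK k (tgt k X) _ 0) a = 0
      rw [map_zero, dOf_zero])
    exact congrArg (fun t => LocHom.hom t r) e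
  let t : AutData d.T :=
    { aut := fun U U' h => d.t h le_rfl
      cocycle := fun U U' U'' h h' r => by
        rw [LiftData.t, LocHom.restrict_restrict]
        exact hz U U' U'' U'' (h'.trans h) h' le_rfl r }
  obtain ⟨ξ, ψ, hψ⟩ := t.exists_glue
  choose g hg using fun U => exists_of_iso p (ψ U) (d.θ U)
  have hres : ∀ (U U' : X.affineOpens) (h : U'.1 ≤ U.1), (g U).Restricts (g U') h := by
    intro U U' h
    suffices e : (g U).restrict h = g U' by
      have := LocHom.restricts_restrict (g U) h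
      rwa [e] at this
    refine ext_of_iso (ψ U') fun r => ?_
    obtain ⟨r, rfl⟩ := (LocHom.bijective_id_hom (t.aut U U' h)).2 r
    rw [hg U', ← hψ U U' h r, LocHom.hom_restrict_of_comp (Category.id_comp p) (hg U) h r, ← d.rel' h le_rfl r,
      LocHom.restrict_self]
  obtain ⟨m, hm, hmi, -⟩ := exists_hom_of_fam g hres
  exact ⟨⟨ξ, m, hm, hmi⟩⟩

theorem exists_obs_zero (hp : Function.Surjective p) (S : SocBasis C') (E : ExtD p Y) :
    ∃ d : LiftData p Y, d.IsObs S 0 := by
  obtain ⟨d⟩ := exists_liftData hp Y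
  choose φ hφ using fun U => exists_lift hp (E.loc U) (d.θ U) (𝟙 C') (Category.id_comp p)
  have hloc : ∀ (U Z : X.affineOpens) (h : Z.1 ≤ U.1) r,
      (E.loc Z).hom (((φ U).restrict h).hom r) = ((d.θ U).restrict h).hom r := fun U Z h r => by
    rw [← LocHom.hom_restrict_of_comp (Category.id_comp p) (hφ U) h r]
    exact congrArg (fun t => LocHom.hom t (((φ U).restrict h).hom r)) (LocHom.ofHom_restrict E.hc E.hci h).symm
  let τ : ∀ U W, LocHom (𝟙 C') d.T d.T (cap k U W) := fun U W =>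
    LocHom.cId ((φ U).restrict inf_le_left) (LocHom.inv ((φ W).restrict inf_le_right))
  have hr : ∀ (U W : X.affineOpens) r, ((d.θ W).restrict (U' := cap k U W) inf_le_right).hom ((τ U W).hom r) =
      ((d.θ U).restrict (U' := cap k U W) inf_le_left).hom r := fun U W r => by
    rw [← hloc W, ← hloc U, LocHom.cId_apply, LocHom.hom_inv_apply]
  let d₀ : LiftData p Y := ⟨d.T, d.θ, τ, hr⟩
  have ht : ∀ {U W Z : X.affineOpens} (hU : Z.1 ≤ U.1) (hW : Z.1 ≤ W.1) r,
      ((φ W).restrict hW).hom ((d₀.t hU hW).hom r) = ((φ U).restrict hU).hom r := by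
    intro U W Z hU hW r
    have h1 := LocHom.hom_restrict_of_comp (a := τ U W) (b := (φ W).restrict inf_le_right)
      (c := (φ U).restrict inf_le_left) (Category.id_comp _) (fun r => LocHom.hom_inv_apply _ _)
      (le_inf hU hW : Z.1 ≤ (cap k U W).1) r
    rwa [LocHom.restrict_restrict, LocHom.restrict_restrict] at h1
  refine ⟨d₀, fun U V W Z hU hV hW r => ?_⟩
  refine (LocHom.bijective_id_hom ((φ W).restrict hW)).1 ?_
  rw [LocHom.cId_apply, ht hV hW, ht hU hV, map_add, LocHom.hom_sum_id, ht hU hW]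
  simp only [Pi.zero_apply, map_zero, dOf_zero]
  exact ((congrArg (_ + ·) (S.sum_zero E.D Z)).trans (add_zero _)).symm

end LiftData

end Groth.L14.LocTriv
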