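import Groth.Agent.L14.DefLift.LocTriv.Obs

/-! # The obstruction and quotients of the kernel -/

set_option autoImplicit false
set_option linter.style.haveILetI false
set_option linter.unusedSectionVars false
set_option backward.isDefEq.respectTransparency.types false
set_option backward.isDefEq.respectTransparency false

universe u

open CategoryTheory CategoryTheory.Limits AlgebraicGeometry TopologicalSpace Opposite ArtFun ArtFun.Art

noncomputable section

namespace Groth.L14.LocTriv

section Comb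

variable {k : Type u} [Field k] {X : Scheme.{u}} {x : X ⟶ specPt k} [Smooth x] {A A' A'' : Art k k}
variable {ξ : DefSch X x A} {ξ' : DefSch X x A'} {ξ'' : DefSch X x A''} {U : X.affineOpens}

/-- Local morphisms factor along base changes. -/
theorem LocHom.exists_factor {q : A ⟶ A'} {p' : A' ⟶ A''} {p : A ⟶ A''} (hpq : q ≫ p' = p)
    (g : LocHom q ξ ξ' U) (f : LocHom p ξ ξ'' U) : ∃ f' : LocHom p' ξ' ξ'' U, ∀ r, f'.hom (g.hom r) = f.hom r := by
  subst hpq
  obtain ⟨s⟩ := exists_spl ξ U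
  let s' : Spl ξ' U := ⟨g.hom.comp s.hom, fun a => by
      rw [RingHom.comp_apply, s.hom_rB, g.hom_rB]
      exact congrArg _ (ofBase_apply q a), fun r => (g.red_hom _).trans (s.red_hom r)⟩
  let s'' : Spl ξ'' U := ⟨f.hom.comp s.hom, fun a => by
      rw [RingHom.comp_apply, s.hom_rB, f.hom_rB]
      exact congrArg _ (ofBase_apply (q ≫ p') a), fun r => (f.red_hom _).trans (s.red_hom r)⟩
  obtain ⟨f', hf'⟩ := exists_of_spl p' s' s''
  exact ⟨f', fun r => congrArg (fun t => LocHom.hom t r)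
    (ext_of_spl s (θ := g.comp f') (θ' := f) fun r => hf' r)⟩

theorem SocBasis.sum_finset (S : SocBasis A) {ι : Type*} (s : Finset ι) (b : ι → Fin S.n → Γ(X, U.1)) :
    S.sum ξ U (∑ i ∈ s, b i) = ∑ i ∈ s, S.sum ξ U (b i) := by
  classical
  induction s using Finset.induction_on with
  | empty => exact S.sum_zero ξ U
  | insert i s hi ih => rw [Finset.sum_insert hi, Finset.sum_insert hi, S.sum_add, ih]

theorem LocHom.hom_sum_map {q : A ⟶ A'} (g : LocHom q ξ ξ' U) (S : SocBasis A) (S' : SocBasis A')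
    (M : Fin S.n → Fin S'.n → k) (hM : ∀ l, q (S.e l) = ∑ l', algebraMap k A' (M l l') * S'.e l')
    (b : Fin S.n → Γ(X, U.1)) : g.hom (S.sum ξ U b) = S'.sum ξ' U (∑ l, fun l' => cU x U.1 (M l l') * b l) := by
  rw [S'.sum_finset, SocBasis.sum, map_sum]
  refine Finset.sum_congr rfl fun l _ => ?_
  obtain ⟨r, hr⟩ := red_surjective ξ U (b l)
  rw [← hr, ← mul_eq_jMul ξ U (S.kill l), map_mul, g.hom_rB, hM, map_sum, Finset.sum_mul, SocBasis.sum]
  refine Finset.sum_congr rfl fun l' _ => ?_
  rw [map_mul, mul_assoc, mul_eq_jMul ξ' U (S'.kill l'), g.red_hom, jMul_mul ξ' U (S'.kill l'), red_rB,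
    AlgHom.commutes]
  rfl

end Comb

variable {k : Type u} [Field k] {X : Scheme.{u}} [X.Over (Spec (CommRingCat.of k))]
  [IsSeparated (X ↘ Spec (CommRingCat.of k))] [LocallyOfFiniteType (X ↘ Spec (CommRingCat.of k))]
  [Smooth (X ↘ Spec (CommRingCat.of k))]

theorem dOf_sum_smul {Z : X.Opens} {ι : Type*} (s : Finset ι) (a : ι → k) (D : ι → SecK k (tgt k X) Z) (v : Γ(X, Z)) :
    dOf (∑ l ∈ s, a l • D l) v = ∑ l ∈ s, cU (X ↘ Spec (CommRingCat.of k) : X ⟶ specPt k) Z (a l) * dOf (D l) v := by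
  classical
  induction s using Finset.induction_on with
  | empty => exact dOf_zero v
  | insert i s hi ih => rw [Finset.sum_insert hi, Finset.sum_insert hi, dOf_add, dOf_smul, ih]

variable {C' C'' C : Art k k} {p : C' ⟶ C} {Y : DefSch X (X ↘ Spec (CommRingCat.of k)) C}

namespace LiftData

variable {d : LiftData p Y} {S : SocBasis C'}

theorem IsObs.push {o : Fin S.n → Fn₂ k (tgt k X)} (ho : d.IsObs S o) {q : C' ⟶ C''} (hq : Function.Surjective q)
    {p'' : C'' ⟶ C} (hpq : q ≫ p'' = p) (S'' : SocBasis C'') (M : Fin S.n → Fin S''.n → k)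
    (hM : ∀ l, q (S.e l) = ∑ l', algebraMap k C'' (M l l') * S''.e l') :
    ∃ d'' : LiftData p'' Y, d''.IsObs S'' fun l' => ∑ l, M l l' • o l := by
  let T'' := d.T.baseChange q
  have hg : pullback.fst d.T.f (specMap q) ≫ d.T.f = T''.f ≫ specMap q := pullback.condition
  have hgi : T''.i ≫ pullback.fst d.T.f (specMap q) = d.T.i := DefSch.baseChange_i_fst _ _
  let G : ∀ U, LocHom q d.T T'' U := fun U => LocHom.ofHom hg hgi U
  have hGs : ∀ Z, Function.Surjective (G Z).hom := fun Z =>
    surjective_hom (exists_spl d.T Z).some (G Z) hq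
  choose θ'' hθ'' using fun U => LocHom.exists_factor hpq (G U) (d.θ U)
  choose τ'' hτ'' using fun U W => LocHom.exists_factor (Category.comp_id q) (G (cap k U W))
    (⟨(G (cap k U W)).hom.comp (d.τ U W).hom, fun a => by
        rw [RingHom.comp_apply, (d.τ U W).hom_rB, (G _).hom_rB]; rfl,
      fun r => ((G _).red_hom _).trans ((d.τ U W).red_hom r)⟩ : LocHom q d.T T'' (cap k U W))
  have hres : ∀ (U Z : X.affineOpens) (h : Z.1 ≤ U.1) r,
      ((θ'' U).restrict h).hom ((G Z).hom r) = ((d.θ U).restrict h).hom r := fun U Z h r => by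
    rw [← LocHom.hom_restrict_of_comp hpq (hθ'' U) h r]
    exact congrArg (fun t => ((θ'' U).restrict h).hom (LocHom.hom t r)) (LocHom.ofHom_restrict hg hgi h).symm
  have hr : ∀ (U W : X.affineOpens) r, ((θ'' W).restrict (U' := cap k U W) inf_le_right).hom ((τ'' U W).hom r) =
      ((θ'' U).restrict (U' := cap k U W) inf_le_left).hom r := fun U W r => by
    obtain ⟨r, rfl⟩ := hGs _ r
    rw [hτ'']
    show ((θ'' W).restrict _).hom ((G _).hom ((d.τ U W).hom r)) = _
    rw [hres, hres, d.rel]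
  let d'' : LiftData p'' Y := ⟨T'', θ'', τ'', hr⟩
  have ht : ∀ {U W Z : X.affineOpens} (hU : Z.1 ≤ U.1) (hW : Z.1 ≤ W.1) r,
      (d''.t hU hW).hom ((G Z).hom r) = (G Z).hom ((d.t hU hW).hom r) := by
    intro U W Z hU hW r
    let c : LocHom q d.T T'' (cap k U W) :=
      ⟨(G (cap k U W)).hom.comp (d.τ U W).hom, fun a => by
        rw [RingHom.comp_apply, (d.τ U W).hom_rB, (G _).hom_rB]; rfl,
      fun r => ((G _).red_hom _).trans ((d.τ U W).red_hom r)⟩
    have hZ : Z.1 ≤ (cap k U W).1 := le_inf hU hW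
    have h1 := LocHom.hom_restrict_of_comp (a := G (cap k U W)) (b := τ'' U W) (c := c) (Category.comp_id q)
      (hτ'' U W) hZ r
    have h2 := LocHom.hom_restrict_of_comp (a := d.τ U W) (b := G (cap k U W)) (c := c) (Category.id_comp q)
      (fun r => rfl) hZ r
    rw [show (G (cap k U W)).restrict hZ = G Z from LocHom.ofHom_restrict hg hgi hZ] at h1 h2
    exact h1.trans h2.symm
  refine ⟨d'', fun U V W Z hU hV hW r => ?_⟩
  obtain ⟨r, rfl⟩ := hGs Z r
  rw [LocHom.cId_apply, ht hU hV, ht hV hW, ht hU hW]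
  have e := ho U V W Z hU hV hW r
  rw [LocHom.cId_apply] at e
  rw [e, map_add, (G Z).hom_sum_map S S'' M hM, (G Z).red_hom]
  refine congrArg (fun D => _ + S''.sum T'' Z D) (funext fun l' => ?_)
  simp only [Finset.sum_apply, map_sum, map_smul, Pi.smul_apply, dOf_sum_smul]

end LiftData

end Groth.L14.LocTriv
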