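import Groth.Agent.L14.DefLift.LocTriv.ObsPush
import Groth.Agent.L14.DefLift.LocTriv.SmoothRigid
import Groth.Agent.L12.Obs

/-! # The obstruction theory of a smooth scheme -/

set_option autoImplicit false
set_option linter.style.haveILetI false
set_option linter.unusedSectionVars false
set_option backward.isDefEq.respectTransparency.types false
set_option backward.isDefEq.respectTransparency false

universe u

open CategoryTheory CategoryTheory.Limits AlgebraicGeometry TopologicalSpace Opposite ArtFun ArtFun.Art TensorProduct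

noncomputable section

namespace Groth.L14.LocTriv

variable {k : Type u} [Field k] {X : Scheme.{u}} [X.Over (Spec (CommRingCat.of k))]
  [IsSeparated (X ↘ Spec (CommRingCat.of k))] [LocallyOfFiniteType (X ↘ Spec (CommRingCat.of k))]
  [Smooth (X ↘ Spec (CommRingCat.of k))]

theorem extD_iff_lift {C' C : Art k k} (p : C' ⟶ C)
    (u : (defFunctor (Λ := k) X (X ↘ Spec (CommRingCat.of k))).obj C) :
    Nonempty (ExtD p (Quotient.out u)) ↔
      ∃ u', (defFunctor (Λ := k) X (X ↘ Spec (CommRingCat.of k))).map p u' = u := by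
  constructor
  · rintro ⟨E⟩
    obtain ⟨a, rfl⟩ := ofPair_surjective E
    refine ⟨a.1.cl, ?_⟩
    rw [defFunctor_map_cl]
    exact (Quotient.sound (show Nonempty ((a.1.baseChange p).Iso (Quotient.out u)) from ⟨a.2⟩)).trans
      (Quotient.out_eq u)
  · rintro ⟨u', hu'⟩
    induction u' using Quotient.inductionOn with
    | h D =>
      obtain ⟨i⟩ := Quotient.exact ((defFunctor_map_cl p D).symm.trans (hu'.trans (Quotient.out_eq u).symm))
      exact ⟨ExtD.ofPair ⟨D, i⟩⟩

set_option maxHeartbeats 1000000 in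
/-- The obstruction theory of a smooth separated scheme. -/
theorem hasObsTheory_tgt :
    HasObsTheory (defFunctor (Λ := k) X (X ↘ Spec (CommRingCat.of k))) (Coh.HH X (tgt k X) 2) := by
  haveI := isQCoh_tgt (k := k) (X := X)
  obtain ⟨κ, hκ⟩ := exists_class₂ k (tgt k X)
  let F := defFunctor (Λ := k) X (X ↘ Spec (CommRingCat.of k))
  have hdata : ∀ {C' C : Art k k} (p : C' ⟶ C) (hp : Art.IsSemismallExt p) (u : F.obj C),
      ∃ v : Coh.HH X (tgt k X) 2 ⊗[k] ↥(RingHom.ker p.toAlgHom),
        ∀ (S : SocBasis C') (b : Module.Basis (Fin S.n) k ↥(RingHom.ker p.toAlgHom)),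
          RingHom.ker p.toAlgHom.toRingHom ≤ S.span → (∀ l, p (S.e l) = 0) → (∀ l, (b l : C') = S.e l) →
          ∀ (d : LiftData p (Quotient.out u)) (o : Fin S.n → Fn₂ k (tgt k X)) (ho : d.IsObs S o),
            v = ∑ l, κ ⟨o l, ho.cocycle l⟩ ⊗ₜ b l := by
    intro C' C p hp u
    obtain ⟨S₀, b₀, hS₀, hSp₀, hb₀⟩ := exists_socBasis p hp
    obtain ⟨d₀⟩ := exists_liftData hp.1 (Quotient.out u)
    obtain ⟨o₀, ho₀⟩ := LiftData.exists_obs (d := d₀) hS₀
    refine ⟨∑ l, κ ⟨o₀ l, ho₀.cocycle l⟩ ⊗ₜ b₀ l, fun S b hS hSp hb d o ho => ?_⟩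
    obtain ⟨d₁, ho₁⟩ := ho₀.push (q := 𝟙 C') (fun a => ⟨a, rfl⟩) (Category.id_comp p) S
      (fun l l' => b.repr (b₀ l) l') (fun l => by
        show S₀.e l = _
        rw [← hb₀, show (b₀ l : C') = ((∑ l', b.repr (b₀ l) l' • b l' : ↥(RingHom.ker p.toAlgHom)) : C') by
          rw [b.sum_repr], Submodule.coe_sum]
        refine Finset.sum_congr rfl fun l' _ => ?_
        rw [Submodule.coe_smul_of_tower, Algebra.smul_def, hb])
    obtain ⟨c, hc⟩ := LiftData.exists_bdry_of_obs hp.1 hS hSp ho₁ ho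
    have e : ∀ l', κ ⟨o l', ho.cocycle l'⟩ = ∑ l, b.repr (b₀ l) l' • κ ⟨o₀ l, ho₀.cocycle l⟩ := by
      intro l'
      simp only [← map_smul, ← map_sum]
      rw [← sub_eq_zero, ← map_sub, hκ]
      refine ⟨c l', ?_⟩
      simp only [Submodule.coe_sub, Submodule.coe_sum, Submodule.coe_smul]
      rw [hc l', add_sub_cancel_left]
    simp only [e, TensorProduct.sum_tmul, TensorProduct.smul_tmul]
    rw [Finset.sum_comm]
    refine Finset.sum_congr rfl fun l _ => ?_
    rw [← TensorProduct.tmul_sum, b.sum_repr]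
  choose obs hobs using @hdata
  refine ⟨{ obs := fun p hp u => obs p hp u
            obs_eq_zero_iff := fun {C' C} p hp u => ?_
            obs_quot := fun {C' C} p hp K hK hKJ hq u => ?_ }⟩
  · rw [← extD_iff_lift p u]
    obtain ⟨S, b, hS, hSp, hb⟩ := exists_socBasis p hp
    constructor
    · intro h0
      obtain ⟨d⟩ := exists_liftData hp.1 (Quotient.out u)
      obtain ⟨o, ho⟩ := LiftData.exists_obs (d := d) hS
      rw [hobs p hp u S b hS hSp hb d o ho] at h0
      have hz : ∀ l, κ ⟨o l, ho.cocycle l⟩ = 0 := fun l => by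
        have hinj := TensorProduct.sum_tmul_basis_right_eq_zero b
          (Finsupp.equivFunOnFinite.symm fun l => κ ⟨o l, ho.cocycle l⟩) (by
            refine (Finsupp.sum_fintype _ (fun i m => m ⊗ₜ[k] b i) fun i => TensorProduct.zero_tmul _ (b i)).trans ?_
            exact h0)
        exact congrArg (fun f : Fin S.n →₀ Coh.HH X (tgt k X) 2 => f l) hinj
      choose c hc using fun l => (hκ _).1 (hz l)
      refine LiftData.exists_extD_of_obs_zero (S := S) (d := d.addCh S hSp fun l => -c l) ?_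
      convert ho.addCh hSp fun l => -c l using 1
      funext l
      rw [map_neg, show bdry₁ k (tgt k X) (c l) = o l from hc l, add_neg_cancel]
      rfl
    · rintro ⟨E⟩
      obtain ⟨d, hd⟩ := LiftData.exists_obs_zero hp.1 S E
      rw [hobs p hp u S b hS hSp hb d 0 hd]
      refine Finset.sum_eq_zero fun l _ => ?_
      rw [show (⟨(0 : Fin S.n → Fn₂ k (tgt k X)) l, hd.cocycle l⟩ : cocycles₂ k (tgt k X)) = 0 from rfl,
        map_zero, TensorProduct.zero_tmul]
  · obtain ⟨S, b, hS, hSp, hb⟩ := exists_socBasis p hp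
    obtain ⟨S'', b'', hS'', hSp'', hb''⟩ := exists_socBasis _ hq
    obtain ⟨d⟩ := exists_liftData hp.1 (Quotient.out u)
    obtain ⟨o, ho⟩ := LiftData.exists_obs (d := d) hS
    let J := (kerToQuot hK p hKJ).restrictScalars k
    obtain ⟨d'', ho''⟩ := ho.push (quotMk_surjective C' K hK) (quotMk_quotFactor hK p hKJ) S''
      (fun l l' => b''.repr (J (b l)) l') (fun l => by
        rw [quotMk_apply, ← hb l,
          show Ideal.Quotient.mk K (b l : C') = (J (b l) : quot C' K hK) from rfl,
          show (J (b l) : quot C' K hK) =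
            ((∑ l', b''.repr (J (b l)) l' • b'' l' : ↥(RingHom.ker (quotFactor hK p hKJ).toAlgHom)) : quot C' K hK) by
            rw [b''.sum_repr], Submodule.coe_sum]
        refine Finset.sum_congr rfl fun l' _ => ?_
        rw [Submodule.coe_smul_of_tower, Algebra.smul_def, hb''])
    rw [hobs _ hq u S'' b'' hS'' hSp'' hb'' d'' _ ho'', hobs p hp u S b hS hSp hb d o ho, map_sum]
    have e : ∀ l', (⟨∑ l, b''.repr (J (b l)) l' • o l, ho''.cocycle l'⟩ : cocycles₂ k (tgt k X)) =
        ∑ l, b''.repr (J (b l)) l' • ⟨o l, ho.cocycle l⟩ := fun l' => Subtype.ext (by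
      simp only [Submodule.coe_sum, Submodule.coe_smul])
    simp only [e, map_sum, map_smul, TensorProduct.sum_tmul, TensorProduct.smul_tmul]
    rw [Finset.sum_comm]
    refine Finset.sum_congr rfl fun l _ => ?_
    rw [LinearMap.lTensor_tmul, ← TensorProduct.tmul_sum, b''.sum_repr]

/-- The obstruction theory with values in `H²` of the tangent sheaf. -/
theorem hasObsTheory_sheafHom [DCoh.HasSheafHom (Omega.sheaf (X ↘ Spec (CommRingCat.of k)))] :
    HasObsTheory (defFunctor (Λ := k) X (X ↘ Spec (CommRingCat.of k)))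
      (Coh.HH X ((DCoh.sheafHom (Omega.sheaf (X ↘ Spec (CommRingCat.of k)))).obj (Coh.structureModule X)) 2) := by
  obtain ⟨e⟩ := exists_hh_equiv (k := k) (X := X) 2
  exact Groth.L12.hasObsTheory_equiv e hasObsTheory_tgt

/-- If `H²(T) = 0`, deformations are unobstructed. -/
theorem isSmoothFunctor_of_h2 (h2 : Subsingleton (Coh.HH X (tgt k X) 2)) :
    IsSmoothFunctor (defFunctor (Λ := k) X (X ↘ Spec (CommRingCat.of k))) := by
  obtain ⟨T⟩ := hasObsTheory_tgt (k := k) (X := X)
  refine Groth.L12.isSmoothFunctor_of_small fun B A μ hμ u => (T.obs_eq_zero_iff μ hμ.isSemismallExt u).1 ?_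
  haveI := h2
  exact Subsingleton.elim _ _

set_option maxHeartbeats 800000 in
/-- Lifting along small extensions when `Ext²(Ω, O) = 0`. -/
theorem exists_lift_of_ext2 [HasExt.{u} X.Modules]
    (h2 : Subsingleton (Abelian.Ext.{u} (Omega.sheaf (X ↘ Spec (CommRingCat.of k))) (Coh.structureModule X) 2))
    (A' : Type u) [CommRing A'] [Algebra k A'] [IsLocalRing A'] [IsArtinianRing A']
    (t : A') (htm : ∀ a ∈ IsLocalRing.maximalIdeal A', a * t = 0)
    (e : (A' ⧸ Ideal.span {t}) →ₐ[k] k)
    (Y : Scheme.{u}) (f : Y ⟶ Spec (CommRingCat.of (A' ⧸ Ideal.span {t}))) (i : X ⟶ Y) (hf : Flat f)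
    (hY : IsPullback i (X ↘ Spec (CommRingCat.of k)) f (Spec.map (CommRingCat.ofHom e.toRingHom))) :
    ∃ (Y' : Scheme.{u}) (f' : Y' ⟶ Spec (CommRingCat.of A')) (j : Y ⟶ Y'), Flat f' ∧
      IsPullback j f f' (Spec.map (CommRingCat.ofHom (Ideal.Quotient.mk (Ideal.span {t})))) := by
  obtain ⟨e₂⟩ := exists_ext_equiv (k := k) (X := X) 2
  haveI := h2
  have h := isSmoothFunctor_of_h2 (k := k) (X := X) e₂.symm.subsingleton
  haveI : Nontrivial (A' ⧸ Ideal.span {t}) := e.toRingHom.domain_nontrivial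
  haveI : IsLocalRing (A' ⧸ Ideal.span {t}) :=
    IsLocalRing.of_surjective' (Ideal.Quotient.mk (Ideal.span {t})) Ideal.Quotient.mk_surjective
  let C : Art k k := Art.of (A' ⧸ Ideal.span {t}) e fun c => ⟨algebraMap k _ c, e.commutes c⟩
  let C' : Art k k := Art.of A' (e.comp (Ideal.Quotient.mkₐ k (Ideal.span {t})))
    fun c => ⟨algebraMap k A' c, AlgHom.commutes _ c⟩
  let p : C' ⟶ C := ⟨Ideal.Quotient.mkₐ k (Ideal.span {t}), rfl⟩
  let D : DefSch X (X ↘ Spec (CommRingCat.of k)) C := { total := Y, f := f, flat := hf, i := i, isPullback := hY }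
  obtain ⟨u', hu'⟩ := h p Ideal.Quotient.mk_surjective D.cl
  induction u' using Quotient.inductionOn with
  | h D' =>
    obtain ⟨ψ⟩ := Quotient.exact ((defFunctor_map_cl p D').symm.trans hu')
    refine ⟨D'.total, D'.f, ψ.iso.inv ≫ pullback.fst D'.f (specMap p), D'.flat, ?_⟩
    exact (IsPullback.of_hasPullback D'.f (specMap p)).of_iso ψ.iso (Iso.refl _) (Iso.refl _) (Iso.refl _)
      (by simp) (by simp only [Iso.refl_hom, Category.comp_id]; exact ψ.hom_f.symm) (by simp) (by simp; rfl)

end Groth.L14.LocTriv
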