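import Groth.Agent.L14.DefLift.LocTriv.Frame
import Groth.Agent.L14.DefLift.LocTriv.Glue
import Groth.Prelude.Def_PtDefo

/-! # Marked points on the charts of a deformation -/

set_option autoImplicit false
set_option linter.style.haveILetI false
set_option linter.unusedSectionVars false
set_option backward.isDefEq.respectTransparency.types false
set_option backward.isDefEq.respectTransparency false

universe u

open CategoryTheory CategoryTheory.Limits AlgebraicGeometry TopologicalSpace Opposite ArtFun ArtFun.Art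

noncomputable section

namespace Groth.L14.LocTriv

open Groth.L18.Frame (ro)
open Groth.L14.DefLift (baseS appLE_congr_hom)

variable {k : Type u} [Field k] {X : Scheme.{u}} {x : X ⟶ specPt k} {ι : Type u} {p : ι → (specPt k ⟶ X)}
variable {A A' : Art k k}

/-- The point lies in the open. -/
abbrev InU (p : ι → (specPt k ⟶ X)) (j : ι) (U : X.Opens) : Prop := p j (IsLocalRing.closedPoint k) ∈ U

theorem subsingleton_spec (A : Art k k) (q : spec A) : q = IsLocalRing.closedPoint A := by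
  obtain ⟨n, hn⟩ := Groth.L12.isNilpotent_maximalIdeal A
  refine PrimeSpectrum.ext ?_
  refine ((IsLocalRing.maximalIdeal.isMaximal A).eq_of_le q.isPrime.ne_top ?_).symm
  intro a ha
  refine q.isPrime.mem_of_pow_mem n ?_
  have : a ^ n ∈ IsLocalRing.maximalIdeal A ^ n := Ideal.pow_mem_pow ha n
  rw [hn] at this
  rw [show a ^ n = 0 from this]
  exact zero_mem _

theorem le_preimage_pt {j : ι} {U : X.Opens} (h : InU p j U) : ⊤ ≤ (p j) ⁻¹ᵁ U := fun q _ => by
  show p j q ∈ U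
  rw [show q = IsLocalRing.closedPoint k from Subsingleton.elim (α := PrimeSpectrum k) _ _]
  exact h

/-- Evaluation at the point. -/
def evp {j : ι} {U : X.Opens} (h : InU p j U) : Γ(X, U) →+* k :=
  (Scheme.ΓSpecIso (CommRingCat.of k)).hom.hom.comp ((p j).appLE U ⊤ (le_preimage_pt h)).hom

theorem evp_ro {j : ι} {U U' : X.Opens} (h : U' ≤ U) (h' : InU p j U') (a : Γ(X, U)) :
    evp h' (ro h a) = evp (h h' : InU p j U) a := by
  refine congrArg (Scheme.ΓSpecIso (CommRingCat.of k)).hom ?_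
  exact ConcreteCategory.congr_hom (Scheme.Hom.map_appLE (p j) (le_preimage_pt h') (homOfLE h).op) a

theorem appLE_id_top (B : CommRingCat.{u}) (b : B) :
    (Scheme.ΓSpecIso B).hom ((𝟙 (Spec B) : Spec B ⟶ Spec B).appLE ⊤ ⊤ le_top ((Scheme.ΓSpecIso B).inv b)) = b := by
  rw [show (𝟙 (Spec B) : Spec B ⟶ Spec B).appLE ⊤ ⊤ le_top = 𝟙 _ by simp [Scheme.Hom.appLE]]
  exact ConcreteCategory.congr_hom (Scheme.ΓSpecIso B).inv_hom_id b

theorem appLE_specMap_top {B C : CommRingCat.{u}} (φ : B ⟶ C) (b : Γ(Spec B, ⊤)) :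
    (Scheme.ΓSpecIso C).hom ((Spec.map φ).appLE ⊤ ⊤ le_top b) = φ ((Scheme.ΓSpecIso B).hom b) := by
  rw [show (Spec.map φ).appLE ⊤ ⊤ le_top = (Spec.map φ).appTop by simp [Scheme.Hom.appTop, Scheme.Hom.app_eq_appLE]]
  exact ConcreteCategory.congr_hom (Scheme.ΓSpecIso_naturality φ) b

theorem evp_cU {j : ι} (hp : p j ≫ x = 𝟙 _) {U : X.Opens} (h : InU p j U) (c : k) : evp h (cU x U c) = c := by
  have e : x.appLE ⊤ U le_top ≫ (p j).appLE U ⊤ (le_preimage_pt h) = (p j ≫ x).appLE ⊤ ⊤ le_top :=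
    Scheme.Hom.appLE_comp_appLE _ _ _ _ _ _ _
  show (Scheme.ΓSpecIso (CommRingCat.of k)).hom ((x.appLE ⊤ U le_top ≫ (p j).appLE U ⊤ (le_preimage_pt h)) _) = c
  rw [e]
  refine (congrArg (Scheme.ΓSpecIso (CommRingCat.of k)).hom (appLE_congr_hom hp _ le_top _)).trans ?_
  exact appLE_id_top (CommRingCat.of k) c

theorem spec_map_evp {j : ι} (U : X.affineOpens) (h : InU p j U.1) :
    Spec.map (CommRingCat.ofHom (evp h)) ≫ U.2.fromSpec = p j := by
  have e := IsAffineOpen.SpecMap_appLE_fromSpec (p j) U.2 (isAffineOpen_top (specPt k)) (le_preimage_pt h)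
  rw [show CommRingCat.ofHom (evp h) = (p j).appLE U.1 ⊤ (le_preimage_pt h) ≫
    (Scheme.ΓSpecIso (CommRingCat.of k)).hom from rfl, Spec.map_comp, Category.assoc, e, IsAffineOpen.fromSpec_top,
    Scheme.isoSpec_Spec_inv, ← Spec.map_comp_assoc]
  simp

theorem evp_injective [Finite ι] (hinj : Function.Injective p) {U : X.affineOpens} {i j : ι} (hi : InU p i U.1)
    (hj : InU p j U.1) (e : evp hi = evp hj) : i = j :=
  hinj (by rw [← spec_map_evp U hi, ← spec_map_evp U hj, e])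

theorem exists_sep [Finite ι] (hp : ∀ j, p j ≫ x = 𝟙 _) (hinj : Function.Injective p) (U : X.affineOpens) {i : ι}
    (hi : InU p i U.1) :
    ∃ f : Γ(X, U.1), evp hi f = 1 ∧ ∀ j (hj : InU p j U.1), j ≠ i → evp hj f = 0 := by
  classical
  have hex : ∀ j, ∃ f : Γ(X, U.1), evp hi f = 1 ∧ ∀ hj : InU p j U.1, j ≠ i → evp hj f = 0 := by
    intro j
    by_cases hj : InU p j U.1 ∧ j ≠ i
    · obtain ⟨a, ha⟩ : ∃ a, evp hi a ≠ evp hj.1 a := by
        by_contra hcon
        push Not at hcon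
        exact hj.2 (evp_injective hinj hj.1 hi (RingHom.ext fun a => (hcon a).symm))
      refine ⟨cU x U.1 (evp hi a - evp hj.1 a)⁻¹ * (a - cU x U.1 (evp hj.1 a)), ?_, fun _ _ => ?_⟩
      · rw [map_mul, map_sub, evp_cU (hp i), evp_cU (hp i), inv_mul_cancel₀ (sub_ne_zero.2 ha)]
      · rw [map_mul, map_sub, evp_cU (hp j), evp_cU (hp j), sub_self, mul_zero]
    · exact ⟨1, map_one _, fun h1 h2 => absurd ⟨h1, h2⟩ hj⟩
  choose f hf1 hf0 using hex
  haveI := Fintype.ofFinite ι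
  refine ⟨∏ j, f j, by rw [map_prod]; exact Finset.prod_eq_one fun j _ => hf1 j, fun j hj hne => ?_⟩
  rw [map_prod]
  exact Finset.prod_eq_zero (Finset.mem_univ j) (hf0 j hj hne)

section Def

variable (ξ : PtDefo.DefSch X x p A)

theorem sect_mem {j : ι} {U : X.Opens} (h : InU p j U) : ⊤ ≤ ξ.sect j ⁻¹ᵁ vOf ξ.toDefSch U := fun q _ => by
  show ξ.sect j q ∈ vOf ξ.toDefSch U
  rw [subsingleton_spec A q, ← subsingleton_spec A (specRes A (IsLocalRing.closedPoint k)),
    ← Scheme.Hom.comp_apply, ← ξ.pt_sect j, Scheme.Hom.comp_apply]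
  exact (preimage_vOf ξ.toDefSch U).ge h

/-- The section on a chart. -/
def scp {j : ι} {U : X.Opens} (h : InU p j U) : R ξ.toDefSch U →+* A :=
  (Scheme.ΓSpecIso (CommRingCat.of A)).hom.hom.comp ((ξ.sect j).appLE (vOf ξ.toDefSch U) ⊤ (sect_mem ξ h)).hom

theorem scp_res {j : ι} {U U' : X.Opens} (h : U' ≤ U) (h' : InU p j U') (r : R ξ.toDefSch U) :
    scp ξ h' (res ξ.toDefSch h r) = scp ξ (h h' : InU p j U) r := by
  refine congrArg (Scheme.ΓSpecIso (CommRingCat.of A)).hom ?_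
  exact ConcreteCategory.congr_hom
    (Scheme.Hom.map_appLE (ξ.sect j) (sect_mem ξ h') (homOfLE (vOf_mono ξ.toDefSch h)).op) r

theorem scp_rB {j : ι} {U : X.Opens} (h : InU p j U) (a : A) : scp ξ h (rB ξ.toDefSch U a) = a := by
  have e : ξ.f.appLE ⊤ (vOf ξ.toDefSch U) le_top ≫ (ξ.sect j).appLE (vOf ξ.toDefSch U) ⊤ (sect_mem ξ h) =
      (ξ.sect j ≫ ξ.f).appLE ⊤ ⊤ le_top := Scheme.Hom.appLE_comp_appLE _ _ _ _ _ _ _
  show (Scheme.ΓSpecIso (CommRingCat.of A)).hom
    ((ξ.f.appLE ⊤ (vOf ξ.toDefSch U) le_top ≫ (ξ.sect j).appLE (vOf ξ.toDefSch U) ⊤ (sect_mem ξ h)) _) = a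
  rw [e]
  refine (congrArg (Scheme.ΓSpecIso (CommRingCat.of A)).hom (appLE_congr_hom (ξ.sect_f j) _ le_top _)).trans ?_
  exact appLE_id_top (CommRingCat.of A) a

theorem res_scp {j : ι} {U : X.Opens} (h : InU p j U) (r : R ξ.toDefSch U) :
    A.res (scp ξ h r) = evp h (red ξ.toDefSch U r) := by
  have e1 : (ξ.sect j).appLE (vOf ξ.toDefSch U) ⊤ (sect_mem ξ h) ≫ (specRes A).appLE ⊤ ⊤ le_top =
      (specRes A ≫ ξ.sect j).appLE (vOf ξ.toDefSch U) ⊤
        (fun q _ => sect_mem ξ h (show specRes A q ∈ (⊤ : (spec A).Opens) from trivial)) :=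
    Scheme.Hom.appLE_comp_appLE _ _ _ _ _ _ _
  have e2 : ξ.i.appLE (vOf ξ.toDefSch U) U (preimage_vOf ξ.toDefSch U).ge ≫ (p j).appLE U ⊤ (le_preimage_pt h) =
      (p j ≫ ξ.i).appLE (vOf ξ.toDefSch U) ⊤
        ((le_preimage_pt h).trans ((p j).preimage_mono (preimage_vOf ξ.toDefSch U).ge)) :=
    Scheme.Hom.appLE_comp_appLE _ _ _ _ _ _ _
  show _ = (Scheme.ΓSpecIso (CommRingCat.of k)).hom ((_ ≫ (p j).appLE U ⊤ (le_preimage_pt h)) r)
  rw [e2, appLE_congr_hom (ξ.pt_sect j) _ (fun q _ => sect_mem ξ h (show specRes A q ∈ (⊤ : (spec A).Opens) from trivial)),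
    ← e1]
  exact (appLE_specMap_top (CommRingCat.ofHom A.res.toRingHom) _).symm

theorem scp_jMul {j : ι} {U : X.affineOpens} (h : InU p j U.1) {a : A}
    (ha : ∀ c ∈ IsLocalRing.maximalIdeal A, c * a = 0) (b : Γ(X, U.1)) :
    scp ξ h (jMul ξ.toDefSch U a b) = a * algebraMap k A (evp h b) := by
  obtain ⟨r, rfl⟩ := red_surjective ξ.toDefSch U b
  rw [← mul_eq_jMul ξ.toDefSch U ha, map_mul, scp_rB, ← res_scp, ← sub_eq_zero, ← mul_sub, mul_comm]
  refine ha _ ?_
  rw [Art.mem_maximalIdeal_iff, map_sub, AlgHom.commutes]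
  exact sub_self _

theorem scp_sum (S : SocBasis A) {j : ι} {U : X.affineOpens} (h : InU p j U.1) (b : Fin S.n → Γ(X, U.1)) :
    scp ξ h (S.sum ξ.toDefSch U b) = ∑ l, S.e l * algebraMap k A (evp h (b l)) := by
  simp only [SocBasis.sum, map_sum, scp_jMul ξ h (S.kill _)]

/-- Agreeing with the constant section at one point. -/
def CmpAt {U : X.affineOpens} (s : Spl ξ.toDefSch U) {j : ι} (h : InU p j U.1) : Prop :=
  ∀ r, scp ξ h (s.hom r) = algebraMap k A (evp h (red (slf x) U.1 r))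

/-- Agreeing with the constant sections. -/
def Cmp {U : X.affineOpens} (s : Spl ξ.toDefSch U) : Prop := ∀ j (h : InU p j U.1), CmpAt ξ s h

theorem spec_map_scp {j : ι} {U : X.affineOpens} (h : InU p j U.1) :
    Spec.map (CommRingCat.ofHom (scp ξ h)) ≫ chartMap ξ.toDefSch U = ξ.sect j := by
  have e := IsAffineOpen.SpecMap_appLE_fromSpec (ξ.sect j) (isAffineOpen_vOf ξ.toDefSch U)
    (isAffineOpen_top (spec A)) (sect_mem ξ h)
  rw [show CommRingCat.ofHom (scp ξ h) = (ξ.sect j).appLE (vOf ξ.toDefSch U.1) ⊤ (sect_mem ξ h) ≫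
    (Scheme.ΓSpecIso (CommRingCat.of A)).hom from rfl, Spec.map_comp, Category.assoc]
  refine (congrArg (_ ≫ ·) e).trans ?_
  rw [IsAffineOpen.fromSpec_top, Scheme.isoSpec_Spec_inv, ← Spec.map_comp_assoc]
  simp

variable {ξ}

theorem scp_map {η : PtDefo.DefSch X x p A'} {ν : A ⟶ A'} {g : η.total ⟶ ξ.total} (hg : g ≫ ξ.f = η.f ≫ specMap ν)
    (hgi : η.i ≫ g = ξ.i) {j : ι} (hgs : η.sect j ≫ g = specMap ν ≫ ξ.sect j) {U : X.affineOpens}
    (h : InU p j U.1) (r : R ξ.toDefSch U.1) :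
    scp η h ((LocHom.ofHom hg hgi U).hom r) = ν (scp ξ h r) := by
  have e : CommRingCat.ofHom (LocHom.ofHom hg hgi U).hom ≫ CommRingCat.ofHom (scp η h) =
      CommRingCat.ofHom (scp ξ h) ≫ CommRingCat.ofHom ν.toAlgHom.toRingHom := by
    apply Spec.map_injective
    rw [← cancel_mono (chartMap ξ.toDefSch U), Spec.map_comp, Spec.map_comp, Category.assoc, Category.assoc,
      spec_map_scp ξ h, ← chartMap_hom hg hgi, ← Category.assoc, spec_map_scp η h, hgs]
  exact ConcreteCategory.congr_hom e r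

theorem CmpAt.restrict {U U' : X.affineOpens} {s : Spl ξ.toDefSch U} (h : U'.1 ≤ U.1) {j : ι} (hj : InU p j U'.1)
    (hs : CmpAt ξ s (h hj : InU p j U.1)) : CmpAt ξ (s.restrict h) hj := by
  intro r
  letI : Algebra (R (slf x) U.1) (R (slf x) U'.1) := (res (slf x) h).toAlgebra
  haveI : Algebra.FormallyEtale (R (slf x) U.1) (R (slf x) U'.1) := LocHom.formallyEtale_res (slf x) h
  let f₁ : R (slf x) U'.1 →+* A := (scp ξ hj).comp (s.restrict h).hom
  let f₂ : R (slf x) U'.1 →+* A := (algebraMap k A).comp ((evp hj).comp (red (slf x) U'.1))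
  have hf : ∀ r, f₁ (res (slf x) h r) = f₂ (res (slf x) h r) := fun r => by
    show scp ξ hj ((s.restrict h).hom (res (slf x) h r)) = algebraMap k A (evp hj (red (slf x) U'.1 (res (slf x) h r)))
    rw [← LocHom.restricts_restrict s h r, scp_res, red_res, evp_ro, hs]
  letI : Algebra (R (slf x) U.1) A := (f₂.comp (res (slf x) h)).toAlgebra
  let g₁ : R (slf x) U'.1 →ₐ[R (slf x) U.1] A := { f₁ with commutes' := hf }
  let g₂ : R (slf x) U'.1 →ₐ[R (slf x) U.1] A := { f₂ with commutes' := fun r => rfl }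
  have := Algebra.FormallyUnramified.lift_unique (IsLocalRing.maximalIdeal A) (Groth.L12.isNilpotent_maximalIdeal A)
    g₁ g₂ (AlgHom.ext fun r => Ideal.Quotient.eq.2 ((Art.mem_maximalIdeal_iff A _).2 (by
      show A.res (f₁ r - f₂ r) = 0
      rw [map_sub, sub_eq_zero]
      show A.res (scp ξ hj ((s.restrict h).hom r)) = A.res (algebraMap k A (evp hj (red (slf x) U'.1 r)))
      rw [res_scp, (s.restrict h).red_hom, AlgHom.commutes]
      rfl)))
  exact DFunLike.congr_fun this r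

theorem Cmp.restrict {U U' : X.affineOpens} {s : Spl ξ.toDefSch U} (hs : Cmp ξ s) (h : U'.1 ≤ U.1) :
    Cmp ξ (s.restrict h) := fun j hj => CmpAt.restrict h hj (hs j _)

theorem CmpAt.vanish {U : X.affineOpens} {S : SocBasis A} {s s' : Spl ξ.toDefSch U} {j : ι} {h : InU p j U.1}
    (hs : CmpAt ξ s h) (hs' : CmpAt ξ s' h) {D : Fin S.n → Γ(X, U.1) → Γ(X, U.1)} (hD : LocHom.Diff S s s' D)
    (l : Fin S.n) (a : Γ(X, U.1)) : evp h (D l a) = 0 := by
  obtain ⟨r, rfl⟩ := red_surjective (slf x) U a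
  have e := congrArg (scp ξ h) (hD r)
  rw [map_add, hs', hs, scp_sum, left_eq_add] at e
  refine Fintype.linearIndependent_iff.1 S.indep (fun l => evp h (D l (red (slf x) U.1 r))) ?_ l
  rw [← e]
  exact Finset.sum_congr rfl fun l _ => by rw [Algebra.smul_def, mul_comm]

theorem CmpAt.of_diff {U : X.affineOpens} {S : SocBasis A} {s s' : Spl ξ.toDefSch U} {j : ι} {h : InU p j U.1}
    (hs : CmpAt ξ s h) {D : Fin S.n → Γ(X, U.1) → Γ(X, U.1)} (hD : LocHom.Diff S s s' D)
    (hv : ∀ l a, evp h (D l a) = 0) : CmpAt ξ s' h := fun r => by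
  rw [hD r, map_add, scp_sum, hs]
  simp [hv]

theorem Cmp.addDer {U : X.affineOpens} {S : SocBasis A} {s : Spl ξ.toDefSch U} (hs : Cmp ξ s)
    {D : Fin S.n → Γ(X, U.1) → Γ(X, U.1)} (hD : ∀ l, IsDer x U.1 (D l))
    (hv : ∀ j (h : InU p j U.1) l a, evp h (D l a) = 0) : Cmp ξ (s.addDer D hD) := fun j h =>
  (hs j h).of_diff (LocHom.diff_addDer s D hD) (hv j h)

/-- Compatible splittings exist. -/
theorem exists_cmp [Smooth x] [Finite ι] (hp : ∀ j, p j ≫ x = 𝟙 _) (hinj : Function.Injective p)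
    (ξ : PtDefo.DefSch X x p A) (U : X.affineOpens) : ∃ s : Spl ξ.toDefSch U, Cmp ξ s := by
  classical
  haveI := Fintype.ofFinite ι
  let J := {j : ι // InU p j U.1}
  have hw : ∀ i : J, ∃ w : R ξ.toDefSch U.1, ∀ j : J, scp ξ j.2 w = if j = i then 1 else 0 := by
    intro i
    obtain ⟨f, hf1, hf0⟩ := exists_sep hp hinj U i.2
    obtain ⟨g, rfl⟩ := red_surjective ξ.toDefSch U f
    obtain ⟨n, hn⟩ := Groth.L12.isNilpotent_maximalIdeal A
    have h0 : ∀ j : J, j ≠ i → scp ξ j.2 (g ^ n) = 0 := fun j hj => by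
      have hm : scp ξ j.2 g ∈ IsLocalRing.maximalIdeal A := (Art.mem_maximalIdeal_iff A _).2
        ((res_scp ξ j.2 g).trans (hf0 j.1 j.2 fun e => hj (Subtype.ext e)))
      have := Ideal.pow_mem_pow hm n
      rw [hn] at this
      rw [map_pow]
      exact this
    have h1 : IsUnit (scp ξ i.2 (g ^ n)) := by
      refine IsLocalRing.notMem_maximalIdeal.1 fun hm => ?_
      have := ((res_scp ξ i.2 (g ^ n)).symm.trans ((Art.mem_maximalIdeal_iff A _).1 hm))
      rw [map_pow, map_pow, hf1, one_pow] at this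
      exact one_ne_zero this
    refine ⟨rB ξ.toDefSch U.1 ↑h1.unit⁻¹ * g ^ n, fun j => ?_⟩
    rw [map_mul, scp_rB]
    by_cases hj : j = i
    · subst hj
      rw [if_pos rfl]
      exact h1.val_inv_mul
    · rw [if_neg hj, h0 j hj, mul_zero]
  choose w hw using hw
  letI : Algebra k Γ(X, U.1) := (cU x U.1).toAlgebra
  haveI : Algebra.FormallySmooth k Γ(X, U.1) := formallySmooth_cU U
  letI : Algebra k (R ξ.toDefSch U.1) := ((rB ξ.toDefSch U.1).comp (algebraMap k A)).toAlgebra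
  let α : J → (Γ(X, U.1) × (J → A) →ₐ[k] k) := fun j =>
    AlgHom.comp { evp j.2 with commutes' := fun c => evp_cU (hp j.1) j.2 c } (AlgHom.fst k _ _)
  let β : J → (Γ(X, U.1) × (J → A) →ₐ[k] k) := fun j =>
    (A.res.comp (Pi.evalAlgHom k (fun _ : J => (A : Type u)) j)).comp (AlgHom.snd k _ _)
  let T : Subalgebra k (Γ(X, U.1) × (J → A)) := ⨅ j, AlgHom.equalizer (α j) (β j)
  have hT : ∀ z : Γ(X, U.1) × (J → A), z ∈ T ↔ ∀ j : J, evp j.2 z.1 = A.res (z.2 j) := fun z => by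
    rw [Algebra.mem_iInf]
    rfl
  let q₁ : R ξ.toDefSch U.1 →ₐ[k] Γ(X, U.1) × (J → A) :=
    AlgHom.prod { red ξ.toDefSch U.1 with commutes' := fun c => (red_rB ξ.toDefSch U.1 _).trans (congrArg _ (A.res.commutes c)) }
      (Pi.algHom k _ fun j : J => { scp ξ j.2 with commutes' := fun c => scp_rB ξ j.2 _ })
  let q : R ξ.toDefSch U.1 →ₐ[k] T := q₁.codRestrict T fun r => (hT _).2 fun j => (res_scp ξ j.2 r).symm
  let q₀ : Γ(X, U.1) →ₐ[k] T :=
    (AlgHom.prod (AlgHom.id k _) (Pi.algHom k _ fun j : J =>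
      (Algebra.ofId k A).comp { evp j.2 with commutes' := fun c => evp_cU (hp j.1) j.2 c })).codRestrict T
      fun a => (hT _).2 fun j => ((A.res.commutes _).trans (Algebra.algebraMap_self_apply _)).symm
  have hqs : Function.Surjective q := by
    rintro ⟨⟨b, v⟩, hz⟩
    obtain ⟨r, hr⟩ := red_surjective ξ.toDefSch U b
    refine ⟨r + ∑ i : J, rB ξ.toDefSch U.1 (v i - scp ξ i.2 r) * w i, Subtype.ext (Prod.ext ?_ (funext fun j => ?_))⟩
    · show red ξ.toDefSch U.1 (r + _) = b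
      rw [map_add, hr, add_eq_left, map_sum]
      refine Finset.sum_eq_zero fun i _ => ?_
      rw [map_mul, red_rB, map_sub, res_scp, hr, ← (hT _).1 hz i, sub_self, map_zero, zero_mul]
    · show scp ξ j.2 (r + _) = v j
      rw [map_add, map_sum, Finset.sum_eq_single j]
      · rw [map_mul, scp_rB, hw, if_pos rfl, mul_one, add_sub_cancel]
      · intro i _ hij
        rw [map_mul, scp_rB, hw, if_neg (Ne.symm hij), mul_zero]
      · exact fun h => absurd (Finset.mem_univ j) h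
  have hqk : IsNilpotent (RingHom.ker q) := by
    obtain ⟨n, hn⟩ := isNilpotent_ker_red ξ.toDefSch U
    refine ⟨n, le_bot_iff.mp (le_trans (Ideal.pow_right_mono ?_ n) hn.le)⟩
    intro r hr
    exact congrArg (fun z : T => z.1.1) hr
  let g := Algebra.FormallySmooth.liftOfSurjective q₀ q hqs hqk
  have hg : ∀ b, q (g b) = q₀ b := fun b => Algebra.FormallySmooth.liftOfSurjective_apply q₀ q hqs hqk b
  refine ⟨splOf g.toRingHom (fun c => g.commutes c) fun b => congrArg (fun z : T => z.1.1) (hg b), fun j hj r => ?_⟩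
  exact congrArg (fun z : T => z.1.2 ⟨j, hj⟩) (hg (red (slf x) U.1 r))

end Def

end Groth.L14.LocTriv
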