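import Groth.Agent.L14.DefLift.LocTriv.PtFrame

/-! # First-order deformations of schemes with marked points -/

set_option autoImplicit false
set_option linter.style.haveILetI false
set_option linter.unusedSectionVars false
set_option backward.isDefEq.respectTransparency.types false
set_option backward.isDefEq.respectTransparency false

universe u

open CategoryTheory CategoryTheory.Limits AlgebraicGeometry TopologicalSpace Opposite ArtFun ArtFun.Art

noncomputable section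

namespace Groth.L14.LocTriv

variable {k : Type u} [Field k] {X : Scheme.{u}} [X.Over (Spec (CommRingCat.of k))]
  [IsSeparated (X ↘ Spec (CommRingCat.of k))] [LocallyOfFiniteType (X ↘ Spec (CommRingCat.of k))]
  [Smooth (X ↘ Spec (CommRingCat.of k))]
variable {ι : Type u} [Finite ι] {p : ι → (specPt k ⟶ X)}
  (hp : ∀ j, p j ≫ (X ↘ Spec (CommRingCat.of k)) = 𝟙 _) (hinj : Function.Injective p)

include hp in
theorem exists_ptCls {A : Art k k} (S : SocBasis A) (hS : IsLocalRing.maximalIdeal A ≤ S.span)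
    {ξ : PtDefo.DefSch X (X ↘ Spec (CommRingCat.of k)) p A} (σ : PFrm ξ) :
    ∃ c : Fin S.n → ptCocycles k p hp, IsCls S σ.1 fun l => (c l).1 := by
  obtain ⟨c, hc⟩ := exists_splClass S hS σ.1
  exact ⟨fun l => ⟨c l, mem_ptCocycles hp S σ hc l⟩, hc⟩

include hp hinj in
set_option maxHeartbeats 800000 in
/-- The classifying map. -/
theorem exists_ptMap {A : Art k k} (S : SocBasis A) (hS : IsLocalRing.maximalIdeal A ≤ S.span)
    (κ : ptCocycles k p hp →ₗ[k] Coh.HH X (ptTgt k p) 1) (hκs : Function.Surjective κ)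
    (hκ : ∀ c, κ c = 0 ↔ ∃ t : Fn₀ k (tgt k X), (∀ U, Vanish p (dOf (t U))) ∧ bdry k (tgt k X) t = c.1) :
    ∃ Φ : PtDefo.DefSch X (X ↘ Spec (CommRingCat.of k)) p A → (Fin S.n → Coh.HH X (ptTgt k p) 1),
      Function.Surjective Φ ∧ (∀ ξ ξ', Φ ξ = Φ ξ' ↔ ξ.cl = ξ'.cl) ∧
      ∀ ξ (σ : PFrm ξ) (c : Fin S.n → ptCocycles k p hp), IsCls S σ.1 (fun l => (c l).1) → ∀ l, Φ ξ l = κ (c l) := by
  choose σ hσ using fun ξ : PtDefo.DefSch X (X ↘ Spec (CommRingCat.of k)) p A =>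
    (show ∃ σ : PFrm ξ, True from ⟨(exists_pfrm hp hinj ξ).some, trivial⟩)
  choose c hc using fun ξ => exists_ptCls hp S hS (σ ξ)
  let Φ : PtDefo.DefSch X (X ↘ Spec (CommRingCat.of k)) p A → (Fin S.n → Coh.HH X (ptTgt k p) 1) :=
    fun ξ l => κ (c ξ l)
  have hind : ∀ ξ (σ' : PFrm ξ) (c' : Fin S.n → ptCocycles k p hp), IsCls S σ'.1 (fun l => (c' l).1) →
      ∀ l, Φ ξ l = κ (c' l) := by
    intro ξ σ' c' hc' l
    obtain ⟨t, htv, ht⟩ := pfrm_bdry S hS (σ ξ) σ' (hc ξ) hc'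
    rw [eq_comm, ← sub_eq_zero, ← map_sub, hκ]
    refine ⟨t l, htv l, ?_⟩
    show _ = (c' l).1 - (c ξ l).1
    rw [ht l, add_sub_cancel_left]
  refine ⟨Φ, fun v => ?_, fun ξ ξ' => ⟨fun h => ?_, fun h => ?_⟩, hind⟩
  · choose z hz using fun l => hκs (v l)
    obtain ⟨ξ, σ', hσ'⟩ := exists_pt_of_cocycle hp S hS (fun l => (z l).1) fun l => (z l).2
    exact ⟨ξ, funext fun l => (hind ξ σ' z hσ' l).trans (hz l)⟩
  · have hb : ∀ l, ∃ t : Fn₀ k (tgt k X), (∀ U, Vanish p (dOf (t U))) ∧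
        bdry k (tgt k X) t = (c ξ' l).1 - (c ξ l).1 := fun l =>
      (hκ (c ξ' l - c ξ l)).1 (by rw [map_sub, sub_eq_zero]; exact (congrFun h l).symm)
    choose t htv ht using hb
    let σ₁ : PFrm ξ := ⟨fun U => ((σ ξ).1 U).addDer (fun l => dOf (t l U)) fun l => isDer_dOf _,
      fun U => ((σ ξ).2 U).addDer (fun l => isDer_dOf _) fun j h l a => htv l U j h a⟩
    refine iso_of_cls hp S σ₁ (σ ξ') ((hc ξ).add_bdry t) ?_
    convert hc ξ' using 1
    funext l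
    rw [ht l, add_sub_cancel]
  · obtain ⟨e⟩ := Quotient.exact h
    have hg : e.iso.inv ≫ ξ.f = ξ'.f ≫ specMap (𝟙 A) := by
      rw [Art.specMap_id, Category.comp_id]
      exact e.toIso.symm.hom_f
    have hgi : ξ'.i ≫ e.iso.inv = ξ.i := e.toIso.symm.i_hom
    have hgs : ∀ j, ξ'.sect j ≫ e.iso.inv = specMap (𝟙 A) ≫ ξ.sect j := fun j => by
      rw [Art.specMap_id, Category.id_comp]
      exact e.symm.sect_hom j
    funext l
    exact (hind ξ' ((σ ξ).map hg hgi hgs) (c ξ) ((σ ξ).isCls_map hg hgi hgs S (hc ξ)) l).symm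

include hp hinj in
set_option maxHeartbeats 1000000 in
/-- First-order pointed deformations are `H¹` of the twisted tangent sheaf. -/
theorem nonempty_ptTangent_equiv [DCoh.HasSheafHom (Omega.sheaf (X ↘ Spec (CommRingCat.of k)))]
    [TangentStr (PtDefo.defFunctor (Λ := k) X (X ↘ Spec (CommRingCat.of k)) p)] :
    Nonempty (TangentSpace (PtDefo.defFunctor (Λ := k) X (X ↘ Spec (CommRingCat.of k)) p) ≃ₗ[k]
      Coh.HH X (TanTw.tanTw (X ↘ Spec (CommRingCat.of k)) (PtDefo.ptIdeal p)) 1) := by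
  obtain ⟨κ, hκs, hκ⟩ := exists_ptClass (k := k) (p := p) hp
  obtain ⟨Φ, hΦs, hΦi, hΦκ⟩ := exists_ptMap hp hinj (S₁ k) maxIdeal_le_S₁ κ hκs hκ
  obtain ⟨Φ₂, hΦ₂s, -, hΦ₂κ⟩ := exists_ptMap hp hinj (S₂ k) maxIdeal_le_S₂ κ hκs hκ
  let l₀ : Fin (S₁ k).n := ⟨0, Nat.one_pos⟩
  have hinj₁ : ∀ ξ ξ', Φ ξ l₀ = Φ ξ' l₀ ↔ ξ.cl = ξ'.cl := fun ξ ξ' => by
    rw [← hΦi]
    refine ⟨fun h => funext fun l => ?_, fun h => congrFun h l₀⟩
    obtain rfl : l = l₀ := Subsingleton.elim (α := Fin 1) l _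
    exact h
  let F := PtDefo.defFunctor (Λ := k) X (X ↘ Spec (CommRingCat.of k)) p
  let Ψ : F.obj (dual k k) → Coh.HH X (ptTgt k p) 1 :=
    Quotient.lift (fun ξ => Φ ξ l₀) fun a b h => (hinj₁ a b).2 (Quotient.sound h)
  have hΨinj : Function.Injective Ψ := fun P Q h => by
    induction P using Quotient.inductionOn with
    | h ξ => induction Q using Quotient.inductionOn with
      | h ξ' => exact (hinj₁ ξ ξ').1 h
  have hpush : ∀ {A : Art k k} (ν : A ⟶ dual k k) (S : SocBasis A) (hS : IsLocalRing.maximalIdeal A ≤ S.span)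
      (ζ : PtDefo.DefSch X (X ↘ Spec (CommRingCat.of k)) p A)
      (ΦA : PtDefo.DefSch X (X ↘ Spec (CommRingCat.of k)) p A → (Fin S.n → Coh.HH X (ptTgt k p) 1))
      (hA : ∀ ξ (σ : PFrm ξ) (c : Fin S.n → ptCocycles k p hp), IsCls S σ.1 (fun l => (c l).1) →
        ∀ l, ΦA ξ l = κ (c l))
      (a : Fin S.n → k), (∀ l, ν (S.e l) = algebraMap k (dual k k) (a l) * εd) →
      Ψ (F.map ν ζ.cl) = ∑ l, a l • ΦA ζ l := by
    intro A ν S hS ζ ΦA hA a ha
    obtain ⟨σ⟩ := exists_pfrm hp hinj ζ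
    obtain ⟨c, hc⟩ := exists_ptCls hp S hS σ
    let η := ζ.baseChange ν
    have hg : pullback.fst ζ.f (specMap ν) ≫ ζ.f = η.f ≫ specMap ν := pullback.condition
    have hgi : η.i ≫ pullback.fst ζ.f (specMap ν) = ζ.i := DefSch.baseChange_i_fst _ _
    have hgs : ∀ j, η.sect j ≫ pullback.fst ζ.f (specMap ν) = specMap ν ≫ ζ.sect j := fun j =>
      PtDefo.DefSch.baseChange_sect_fst ζ ν j
    have hpu := hc.push S (S₁ k) rfl hg hgi a (fun l _ => ha l)
    have h' : IsCls (S₁ k) (σ.map hg hgi hgs).1 fun _ => ((∑ l, a l • c l : ptCocycles k p hp)).1 := by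
      intro U W Z h h' r
      have e := hpu U W Z h h' r
      rw [LocHom.restrict_comp, LocHom.restrict_comp, LocHom.ofHom_restrict, LocHom.ofHom_restrict] at e
      rw [PFrm.map_restrict, PFrm.map_restrict]
      simp only [Submodule.coe_sum, Submodule.coe_smul]
      exact e
    show Φ η l₀ = _
    rw [hΦκ η _ _ h' l₀, map_sum]
    exact Finset.sum_congr rfl fun l _ => by rw [map_smul, hA ζ σ c hc l]
  have hsmul : ∀ (r : k) (P : TangentSpace F), Ψ (r • P).val = r • Ψ P.val := by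
    intro r P
    rw [show (r • P).val = F.map (scale r) P.val from TangentStr.smul_eq r P.val]
    obtain ⟨ζ, hζ⟩ := Quotient.exists_rep P.val
    rw [← hζ]
    refine (hpush (scale r) (S₁ k) maxIdeal_le_S₁ ζ Φ hΦκ (fun _ => r) fun _ => scale_εd r).trans ?_
    show ∑ l : Fin 1, r • _ = r • Φ ζ l₀
    rw [Fin.sum_univ_one]
    rfl
  have hadd : ∀ P Q : TangentSpace F, Ψ (P + Q).val = Ψ P.val + Ψ Q.val := by
    intro P Q
    obtain ⟨ζ, hζ⟩ := hΦ₂s ![Ψ P.val, Ψ Q.val]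
    have h0 : Φ₂ ζ (0 : Fin 2) = Ψ P.val := by rw [hζ]; rfl
    have h1 : Φ₂ ζ (1 : Fin 2) = Ψ Q.val := by rw [hζ]; rfl
    have e1 : F.map pr₁ ζ.cl = P.val := hΨinj (by
      rw [hpush pr₁ (S₂ k) maxIdeal_le_S₂ ζ Φ₂ hΦ₂κ _ pr₁_εd₂]
      show ∑ l : Fin 2, _ = _
      rw [Fin.sum_univ_two, h0]
      simp)
    have e2 : F.map pr₂ ζ.cl = Q.val := hΨinj (by
      rw [hpush pr₂ (S₂ k) maxIdeal_le_S₂ ζ Φ₂ hΦ₂κ _ pr₂_εd₂]
      show ∑ l : Fin 2, _ = _
      rw [Fin.sum_univ_two, h1]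
      simp)
    have h3 : (P + Q).val = F.map plus ζ.cl := by
      refine Eq.trans ?_ (TangentStr.add_eq (F := F) ζ.cl)
      rw [e1, e2]
      rfl
    rw [h3, hpush plus (S₂ k) maxIdeal_le_S₂ ζ Φ₂ hΦ₂κ _ plus_εd₂]
    show ∑ l : Fin 2, _ = _
    rw [Fin.sum_univ_two, h0, h1]
    simp
  let T : TangentSpace F →ₗ[k] Coh.HH X (ptTgt k p) 1 :=
    { toFun := fun P => Ψ P.val
      map_add' := hadd
      map_smul' := hsmul }
  have hT : Function.Bijective T := by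
    refine ⟨fun P Q h => hΨinj h, fun v => ?_⟩
    obtain ⟨ξ, hξ⟩ := hΦs fun _ => v
    exact ⟨TangentSpace.mk ξ.cl, congrFun hξ l₀⟩
  obtain ⟨e⟩ := exists_hh_equiv_pt (k := k) (p := p) 1
  exact ⟨(LinearEquiv.ofBijective T hT).trans e⟩

end Groth.L14.LocTriv
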