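import Groth.Agent.L14.DefLift.LocTriv.PtMod
import Groth.Agent.L14.DefLift.LocTriv.FirstOrder

/-! # Deformations with marked points and cocycles -/

set_option autoImplicit false
set_option linter.style.haveILetI false
set_option linter.unusedSectionVars false
set_option backward.isDefEq.respectTransparency.types false
set_option backward.isDefEq.respectTransparency false

universe u

open CategoryTheory CategoryTheory.Limits AlgebraicGeometry TopologicalSpace Opposite ArtFun ArtFun.Art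

noncomputable section

namespace Groth.L14.LocTriv

open Groth.L18.Frame (ro)
open Groth.L14.DefLift (isIso_of_hom)

section Ext

variable {k : Type u} [Field k] {X : Scheme.{u}} {x : X ⟶ specPt k} {A : Art k k} {ξ : DefSch X x A}
  {U : X.affineOpens} {B : Type u} [CommRing B]

/-- Ring maps out of a split deformation. -/
theorem ringHom_ext_of_spl (s : Spl ξ U) {f g : R ξ U.1 →+* B} (h₁ : ∀ r, f (s.hom r) = g (s.hom r))
    (h₂ : ∀ a, f (rB ξ U.1 a) = g (rB ξ U.1 a)) (r : R ξ U.1) : f r = g r := by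
  letI : Algebra A (R ξ U.1) := (rB ξ U.1).toAlgebra
  letI : Algebra k Γ(X, U.1) := (cU x U.1).toAlgebra
  obtain ⟨b, hb⟩ := exists_adapted_basis s
  rw [← b.linearCombination_repr r, Finsupp.linearCombination_apply, map_finsuppSum, map_finsuppSum]
  refine Finsupp.sum_congr fun j _ => ?_
  rw [Algebra.smul_def, map_mul, map_mul, hb, show (algebraMap A (R ξ U.1)) = rB ξ U.1 from rfl, h₂]
  exact congrArg _ (h₁ _)

end Ext

variable {k : Type u} [Field k] {X : Scheme.{u}} [X.Over (Spec (CommRingCat.of k))]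
  [IsSeparated (X ↘ Spec (CommRingCat.of k))] [LocallyOfFiniteType (X ↘ Spec (CommRingCat.of k))]
  [Smooth (X ↘ Spec (CommRingCat.of k))]
variable {ι : Type u} [Finite ι] {p : ι → (specPt k ⟶ X)}
  (hp : ∀ j, p j ≫ (X ↘ Spec (CommRingCat.of k)) = 𝟙 _) (hinj : Function.Injective p)
variable {A B : Art k k} {ξ ξ' : PtDefo.DefSch X (X ↘ Spec (CommRingCat.of k)) p A}

/-- A compatible family of splittings. -/
abbrev PFrm (ξ : PtDefo.DefSch X (X ↘ Spec (CommRingCat.of k)) p A) : Type u :=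
  {σ : Frm (ofBase A) (slf (X ↘ Spec (CommRingCat.of k))) ξ.toDefSch // ∀ U, Cmp ξ (σ U)}

include hp hinj in
theorem exists_pfrm (ξ : PtDefo.DefSch X (X ↘ Spec (CommRingCat.of k)) p A) : Nonempty (PFrm ξ) := by
  choose σ hσ using fun U => exists_cmp hp hinj ξ U
  exact ⟨⟨σ, hσ⟩⟩

include hp in
theorem mem_ptCocycles (S : SocBasis A) (σ : PFrm ξ) {c : Fin S.n → Fn k (tgt k X)} (hc : IsCls S σ.1 c)
    (l : Fin S.n) : c l ∈ ptCocycles k p hp := by
  refine ⟨hc.cocycle l, fun U W j h a => ?_⟩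
  let Z : X.affineOpens := ⟨U.1 ⊓ W.1, isAffineOpen_inter (k := k) U W⟩
  have hh := hc U W Z inf_le_left inf_le_right
  have := CmpAt.vanish (h := h) ((σ.2 U).restrict inf_le_left j h) ((σ.2 W).restrict inf_le_right j h) hh l a
  rwa [show resK k (tgt k X) (le_inf inf_le_left inf_le_right : Z.1 ≤ U.1 ⊓ W.1) (c l U W) = c l U W from
    resK_self k (tgt k X) _ _] at this

theorem pfrm_bdry (S : SocBasis A) (hS : IsLocalRing.maximalIdeal A ≤ S.span) (σ σ' : PFrm ξ)
    {c c' : Fin S.n → Fn k (tgt k X)} (hc : IsCls S σ.1 c) (hc' : IsCls S σ'.1 c') :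
    ∃ t : Fin S.n → Fn₀ k (tgt k X), (∀ l U, Vanish p (dOf (t l U))) ∧
      ∀ l, c' l = c l + bdry k (tgt k X) (t l) := by
  choose D hD using fun U => LocHom.exists_diff (S := S) (θ₁ := σ.1 U) (θ₂ := σ'.1 U) fun r =>
    Ideal.map_mono hS ((red_eq_zero_iff ξ.toDefSch U _).1 (by
      rw [map_sub, (σ'.1 U).red_hom, (σ.1 U).red_hom, sub_self]))
  choose t ht using fun (l : Fin S.n) (U : X.affineOpens) => exists_dOf_eq U.2 ((hD U).isDer l)
  refine ⟨t, fun l U j h a => ?_, ?_⟩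
  · rw [ht l U]
    exact CmpAt.vanish (σ.2 U j h) (σ'.2 U j h) (hD U) l a
  · have e : σ'.1 = fun U => (σ.1 U).addDer (fun l => dOf (t l U)) fun l => isDer_dOf _ := funext fun U => by
      refine LocHom.ext' fun r => ?_
      rw [hD U r, LocHom.diff_addDer (σ.1 U) _ (fun l => isDer_dOf (t l U)) r]
      simp only [ht]
    intro l
    rw [e] at hc'
    exact congrFun (hc'.unique (hc.add_bdry t)) l

/-- Transport along a morphism. -/
def PFrm.map {η : PtDefo.DefSch X (X ↘ Spec (CommRingCat.of k)) p B} {ν : A ⟶ B} {g : η.total ⟶ ξ.total}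
    (hg : g ≫ ξ.f = η.f ≫ specMap ν) (hgi : η.i ≫ g = ξ.i)
    (hgs : ∀ j, η.sect j ≫ g = specMap ν ≫ ξ.sect j) (σ : PFrm ξ) : PFrm η :=
  ⟨fun U => ⟨(LocHom.ofHom hg hgi U).hom.comp (σ.1 U).hom, fun a => by
      rw [RingHom.comp_apply, (σ.1 U).hom_rB, (LocHom.ofHom hg hgi U).hom_rB]
      exact congrArg _ (ofBase_apply ν a),
    fun r => ((LocHom.ofHom hg hgi U).red_hom _).trans ((σ.1 U).red_hom r)⟩,
   fun U j h r => by
    show scp η h ((LocHom.ofHom hg hgi U).hom ((σ.1 U).hom r)) = _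
    rw [scp_map hg hgi (hgs j), σ.2 U j h r]
    exact ofBase_apply ν _⟩

theorem PFrm.map_restrict {η : PtDefo.DefSch X (X ↘ Spec (CommRingCat.of k)) p B} {ν : A ⟶ B} {g : η.total ⟶ ξ.total}
    (hg : g ≫ ξ.f = η.f ≫ specMap ν) (hgi : η.i ≫ g = ξ.i)
    (hgs : ∀ j, η.sect j ≫ g = specMap ν ≫ ξ.sect j) (σ : PFrm ξ) {Z V : X.affineOpens} (hV : Z.1 ≤ V.1) (r) :
    (((σ.map hg hgi hgs).1 V).restrict hV).hom r = (LocHom.ofHom hg hgi Z).hom (((σ.1 V).restrict hV).hom r) := by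
  let G : ∀ U, LocHom ν ξ.toDefSch η.toDefSch U := fun U => LocHom.ofHom hg hgi U
  let T : Spl η.toDefSch Z := ⟨(G Z).hom.comp ((σ.1 V).restrict hV).hom, fun a => by
      rw [RingHom.comp_apply, ((σ.1 V).restrict hV).hom_rB, (G Z).hom_rB]
      exact congrArg _ (ofBase_apply ν a),
    fun r => ((G Z).red_hom _).trans (((σ.1 V).restrict hV).red_hom r)⟩
  have e : ((σ.map hg hgi hgs).1 V).restrict hV = T := LocHom.restrict_unique (LocHom.restricts_restrict _ hV) fun r => by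
    show res η.toDefSch hV ((G V).hom ((σ.1 V).hom r)) = (G Z).hom (((σ.1 V).restrict hV).hom (res _ hV r))
    rw [← LocHom.restricts_restrict (σ.1 V) hV r]
    exact LocHom.ofHom_res hg hgi hV _
  rw [e]
  rfl

theorem PFrm.isCls_map {g : ξ'.total ⟶ ξ.total} (hg : g ≫ ξ.f = ξ'.f ≫ specMap (𝟙 A)) (hgi : ξ'.i ≫ g = ξ.i)
    (hgs : ∀ j, ξ'.sect j ≫ g = specMap (𝟙 A) ≫ ξ.sect j) (S : SocBasis A) (σ : PFrm ξ)
    {c : Fin S.n → Fn k (tgt k X)} (hc : IsCls S σ.1 c) : IsCls S (σ.map hg hgi hgs).1 c := fun U W Z h h' r => by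
  rw [PFrm.map_restrict, PFrm.map_restrict, hc U W Z h h' r, map_add, LocHom.hom_sum_id]

include hp in
/-- Equal classes give isomorphic deformations. -/
theorem iso_of_cls (S : SocBasis A) (σ : PFrm ξ) (σ' : PFrm ξ') {c : Fin S.n → Fn k (tgt k X)}
    (hc : IsCls S σ.1 c) (hc' : IsCls S σ'.1 c) : ξ.cl = ξ'.cl := by
  choose g hg using fun U => exists_of_spl (𝟙 A) (σ'.1 U) (σ.1 U)
  have hres : ∀ (U U' : X.affineOpens) (h : U'.1 ≤ U.1), (g U).Restricts (g U') h := by
    intro U U' h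
    suffices e : (g U).restrict h = g U' by
      have := LocHom.restricts_restrict (g U) h
      rwa [e] at this
    refine ext_of_spl (σ'.1 U') fun r => ?_
    have hT : ∀ r, ((g U).restrict h).hom (((σ'.1 U).restrict h).hom r) = ((σ.1 U).restrict h).hom r := by
      intro r
      let T : Spl ξ.toDefSch U' := ⟨((g U).restrict h).hom.comp ((σ'.1 U).restrict h).hom, fun a => by
          rw [RingHom.comp_apply, ((σ'.1 U).restrict h).hom_rB, ((g U).restrict h).hom_rB]; rfl,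
        fun r => (((g U).restrict h).red_hom _).trans (((σ'.1 U).restrict h).red_hom r)⟩
      have e : T = (σ.1 U).restrict h := LocHom.restrict_unique (θ := σ.1 U) (fun r => by
        rw [← hg U r]
        show res _ h ((g U).hom ((σ'.1 U).hom r)) =
          ((g U).restrict h).hom (((σ'.1 U).restrict h).hom (res _ h r))
        rw [← LocHom.restricts_restrict (σ'.1 U) h r]
        exact LocHom.restricts_restrict (g U) h _) (LocHom.restricts_restrict _ h)
      exact congrArg (fun t => LocHom.hom t r) e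
    have h1 := hc' U U' U' h le_rfl
    have h2 := hc U U' U' h le_rfl
    rw [LocHom.restrict_self] at h1 h2
    rw [hg U' r, h1 r, map_add, hT, LocHom.hom_sum_id]
    exact (h2 r).symm
  obtain ⟨m, hm, hmi, hmθ⟩ := exists_hom_of_fam g hres
  have hms : ∀ j, ξ.sect j ≫ m = ξ'.sect j := fun j => by
    obtain ⟨_, ⟨U, hU, rfl⟩, hjU, -⟩ :=
      X.isBasis_affineOpens.exists_subset_of_mem_open (Set.mem_univ (p j (IsLocalRing.closedPoint k))) isOpen_univ
    rw [← spec_map_scp ξ (U := ⟨U, hU⟩) hjU, ← spec_map_scp ξ' (U := ⟨U, hU⟩) hjU, Category.assoc,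
      chartMap_hom hm hmi, hmθ, ← Spec.map_comp_assoc]
    refine congrArg (fun f => Spec.map f ≫ chartMap ξ'.toDefSch ⟨U, hU⟩) (CommRingCat.hom_ext (RingHom.ext fun r => ?_))
    show scp ξ hjU ((g ⟨U, hU⟩).hom r) = scp ξ' hjU r
    refine ringHom_ext_of_spl (σ'.1 ⟨U, hU⟩) (f := (scp ξ hjU).comp (g ⟨U, hU⟩).hom) (g := scp ξ' hjU)
      (fun r => ?_) (fun a => ?_) r
    · show scp ξ hjU ((g ⟨U, hU⟩).hom ((σ'.1 ⟨U, hU⟩).hom r)) = _
      rw [hg, σ.2 ⟨U, hU⟩ j hjU r, σ'.2 ⟨U, hU⟩ j hjU r]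
    · show scp ξ hjU ((g ⟨U, hU⟩).hom (rB _ _ a)) = _
      rw [(g ⟨U, hU⟩).hom_rB, scp_rB, scp_rB]
      rfl
  have hm' : m ≫ ξ'.f = ξ.f := by rw [hm, Art.specMap_id, Category.comp_id]
  haveI := isIso_of_hom (ξ₁ := ξ.toDefSch) (ξ₂ := ξ'.toDefSch) m hm' hmi
  exact Quotient.sound ⟨⟨⟨asIso m, hm', hmi⟩, hms⟩⟩

variable (X p) in
/-- The trivial pointed deformation. -/
abbrev ptTriv (A : Art k k) : PtDefo.DefSch X (X ↘ Spec (CommRingCat.of k)) p A :=
  (PtDefo.DefSch.self X (X ↘ Spec (CommRingCat.of k)) p inferInstance hp).baseChange (ofBase A)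

include hp in
theorem exists_slf_frame : ∃ α : PFrm (ptTriv X p hp A),
    ∀ (U Z : X.affineOpens) (h : Z.1 ≤ U.1), (α.1 U).restrict h = α.1 Z := by
  let ξ₀ := ptTriv X p hp A
  let s₀ := slf (X ↘ Spec (CommRingCat.of k))
  have hπ : pullback.fst s₀.f (specMap (ofBase A)) ≫ s₀.f = ξ₀.f ≫ specMap (ofBase A) := pullback.condition
  have hπi : ξ₀.i ≫ pullback.fst s₀.f (specMap (ofBase A)) = s₀.i := DefSch.baseChange_i_fst s₀ _
  refine ⟨⟨fun U => LocHom.ofHom hπ hπi U, fun U j h r => ?_⟩, fun U Z h => LocHom.ofHom_restrict hπ hπi h⟩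
  refine (scp_map (ξ := PtDefo.DefSch.self X (X ↘ Spec (CommRingCat.of k)) p inferInstance hp) (η := ξ₀) hπ hπi
    (PtDefo.DefSch.baseChange_sect_fst _ _ j) h r).trans ?_
  rw [show ofBase A (scp (PtDefo.DefSch.self X (X ↘ Spec (CommRingCat.of k)) p inferInstance hp) h r) =
    algebraMap k A (scp (PtDefo.DefSch.self X (X ↘ Spec (CommRingCat.of k)) p inferInstance hp) h r) from rfl]
  exact congrArg _ (res_scp (PtDefo.DefSch.self X (X ↘ Spec (CommRingCat.of k)) p inferInstance hp) h r)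

include hp in
set_option maxHeartbeats 1000000 in
/-- Every class occurs. -/
theorem exists_pt_of_cocycle (S : SocBasis A) (hS : IsLocalRing.maximalIdeal A ≤ S.span)
    (c : Fin S.n → Fn k (tgt k X)) (hc : ∀ l, c l ∈ ptCocycles k p hp) :
    ∃ (ξ : PtDefo.DefSch X (X ↘ Spec (CommRingCat.of k)) p A) (σ : PFrm ξ), IsCls S σ.1 c := by
  obtain ⟨α, hα⟩ := exists_slf_frame (A := A) hp
  let ξ₀ := ptTriv X p hp A
  let E₀ : ExtD (toBase A) (slf (X ↘ Spec (CommRingCat.of k))) :=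
    ⟨ξ₀.toDefSch, ξ₀.i, by rw [ξ₀.i_f]; rfl, Category.id_comp _⟩
  obtain ⟨E, θ, -, hθc⟩ := exists_ext_of_cocycle E₀ S (fun l => S.mem l) c (fun l => (hc l).1)
  let D : DefSch X (X ↘ Spec (CommRingCat.of k)) A := E.D
  let σ : Frm (ofBase A) (slf (X ↘ Spec (CommRingCat.of k))) D := fun U =>
    ⟨((α.1 U).comp (θ U)).hom, ((α.1 U).comp (θ U)).hom_rB, ((α.1 U).comp (θ U)).red_hom⟩
  have hσ : IsCls S σ c := by
    intro U W Z h h' r
    have e : ∀ (V : X.affineOpens) (hV : Z.1 ≤ V.1) r,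
        ((σ V).restrict hV).hom r = (((α.1 V).comp (θ V)).restrict hV).hom r := fun V hV r => by
      let T : Spl D Z := ⟨(((α.1 V).comp (θ V)).restrict hV).hom,
        (((α.1 V).comp (θ V)).restrict hV).hom_rB, (((α.1 V).comp (θ V)).restrict hV).red_hom⟩
      have e : (σ V).restrict hV = T := LocHom.restrict_unique (LocHom.restricts_restrict _ hV)
        (LocHom.restricts_restrict ((α.1 V).comp (θ V)) hV)
      rw [e]
    rw [e, e]
    exact hθc.comp α.1 hα U W Z h h' r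
  have hV : ∀ j, ∃ V : X.affineOpens, InU p j V.1 := fun j => by
    obtain ⟨_, ⟨V, hV, rfl⟩, hjV, -⟩ :=
      X.isBasis_affineOpens.exists_subset_of_mem_open (Set.mem_univ (p j (IsLocalRing.closedPoint k))) isOpen_univ
    exact ⟨⟨V, hV⟩, hjV⟩
  choose V hjV using hV
  choose g hg using fun j => exists_of_spl (ξ := D) (ξ' := ξ₀.toDefSch) (𝟙 A) (σ (V j)) (α.1 (V j))
  let ξ : PtDefo.DefSch X (X ↘ Spec (CommRingCat.of k)) p A :=
    { toDefSch := D
      sect := fun j => Spec.map (CommRingCat.ofHom ((scp ξ₀ (hjV j)).comp (g j).hom)) ≫ chartMap D (V j)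
      sect_f := fun j => by
        rw [Category.assoc, chartMap_f, ← Spec.map_comp,
          show CommRingCat.ofHom (rB D (V j).1) ≫ CommRingCat.ofHom ((scp ξ₀ (hjV j)).comp (g j).hom) =
            𝟙 (CommRingCat.of A) from CommRingCat.hom_ext (RingHom.ext fun a => by
              show scp ξ₀ (hjV j) ((g j).hom (rB D (V j).1 a)) = a
              rw [(g j).hom_rB, scp_rB]
              rfl), Spec.map_id]
      pt_sect := fun j => by
        refine Eq.trans ?_ (Category.assoc _ _ _)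
        rw [← spec_map_evp (V j) (hjV j), Category.assoc, fromSpec_i, ← Spec.map_comp_assoc]
        show _ = (Spec.map (CommRingCat.ofHom A.res.toRingHom) ≫ _) ≫ _
        rw [← Spec.map_comp]
        congr 2
        exact CommRingCat.hom_ext (RingHom.ext fun r => by
          show evp (hjV j) (red D (V j).1 r) = A.res (scp ξ₀ (hjV j) ((g j).hom r))
          rw [res_scp, (g j).red_hom]) }
  have h0 : ∀ j, CmpAt ξ (σ (V j)) (hjV j) := fun j r => by
    have e : scp ξ (hjV j) = (scp ξ₀ (hjV j)).comp (g j).hom := by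
      have h1 := spec_map_scp ξ (hjV j)
      rw [show ξ.sect j = Spec.map (CommRingCat.ofHom ((scp ξ₀ (hjV j)).comp (g j).hom)) ≫ chartMap D (V j) from rfl,
        cancel_mono] at h1
      exact congrArg CommRingCat.Hom.hom (Spec.map_injective h1)
    rw [e]
    show scp ξ₀ (hjV j) ((g j).hom ((σ (V j)).hom r)) = _
    rw [hg, α.2 (V j) j (hjV j) r]
  refine ⟨ξ, ⟨σ, fun U j h => ?_⟩, hσ⟩
  let Z : X.affineOpens := ⟨(V j).1 ⊓ U.1, isAffineOpen_inter (k := k) (V j) U⟩
  have hZ : InU p j Z.1 := ⟨hjV j, h⟩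
  have h1 : CmpAt ξ ((σ U).restrict (inf_le_right : Z.1 ≤ U.1)) hZ :=
    (CmpAt.restrict (inf_le_left : Z.1 ≤ (V j).1) hZ (h0 j)).of_diff (hσ (V j) U Z inf_le_left inf_le_right)
      fun l a => by
        rw [show resK k (tgt k X) (le_inf inf_le_left inf_le_right : Z.1 ≤ (V j).1 ⊓ U.1) (c l (V j) U) = c l (V j) U
          from resK_self k (tgt k X) _ _]
        exact (hc l).2 (V j) U j hZ a
  intro r
  rw [← scp_res ξ (inf_le_right : Z.1 ≤ U.1) hZ]
  refine (congrArg (scp ξ hZ) (LocHom.restricts_restrict (σ U) (inf_le_right : Z.1 ≤ U.1) r)).trans ?_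
  rw [h1, red_res, evp_ro]

end Groth.L14.LocTriv
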