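import Groth.Agent.L14.DefLift.LocTriv.Points
import Groth.Agent.L14.DefLift.LocTriv.Ext
import Groth.Agent.L18.IdealModule
import Groth.Prelude.Def_TanTw

/-! # Derivations vanishing at marked points -/

set_option autoImplicit false
set_option linter.style.haveILetI false
set_option linter.unusedSectionVars false
set_option backward.isDefEq.respectTransparency.types false
set_option backward.isDefEq.respectTransparency false

universe u

open CategoryTheory CategoryTheory.Limits AlgebraicGeometry TopologicalSpace Opposite ArtFun ArtFun.Art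

noncomputable section

namespace Groth.L14.LocTriv

open Groth.L18.Frame (rs ro)
open Groth.L18.IdealModule (exact_sections mem_ideal_iff)
open Groth.L16.HomSh (post ev_post secEquiv ev)

variable {k : Type u} [Field k] {X : Scheme.{u}} [X.Over (Spec (CommRingCat.of k))]
  [IsSeparated (X ↘ Spec (CommRingCat.of k))] [LocallyOfFiniteType (X ↘ Spec (CommRingCat.of k))]
variable {ι : Type u} [Finite ι] {p : ι → (specPt k ⟶ X)}

variable (k p) in
/-- The twisted tangent sheaf of derivations. -/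
abbrev ptTgt : X.Modules :=
  tanMod (X ↘ Spec (CommRingCat.of k) : X ⟶ specPt k) (ClSub.idealMod (PtDefo.ptIdeal p))

variable (k p) in
/-- Its inclusion. -/
def ptIncl : ptTgt k p ⟶ tgt k X :=
  post (Omega.sheaf (X ↘ Spec (CommRingCat.of k))) (ClSub.idealModι (PtDefo.ptIdeal p))

theorem secDer_ptIncl {Z : X.Opens} (s : Γ(ptTgt k p, Z)) (a : Γ(X, Z)) :
    secDer (X ↘ Spec (CommRingCat.of k) : X ⟶ specPt k) ((ptIncl k p).app Z s) a =
      (ClSub.idealModι (PtDefo.ptIdeal p)).app Z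
        (secDer (X ↘ Spec (CommRingCat.of k) : X ⟶ specPt k) s a) := by
  rw [secDer, secDer, ptIncl, ev_post]

variable (k p) in
/-- The inclusion on sections. -/
def inclK (Z : X.Opens) : SecK k (ptTgt k p) Z →ₗ[k] SecK k (tgt k X) Z where
  toFun s := (ptIncl k p).app Z (show Γ(ptTgt k p, Z) from s)
  map_add' a b := map_add _ _ _
  map_smul' c s := Scheme.Modules.Hom.app_smul (ptIncl k p) (Groth.L17.BC.act (Coh.toGlobal (X ↘ Spec (CommRingCat.of k))) Z c) s

theorem inclK_res {V Z : X.Opens} (h : Z ≤ V) (s : SecK k (ptTgt k p) V) :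
    inclK k p Z (resK k (ptTgt k p) h s) = resK k (tgt k X) h (inclK k p V s) :=
  ConcreteCategory.congr_hom ((ptIncl k p).mapPresheaf.naturality (homOfLE h).op) s

theorem dOf_inclK {Z : X.Opens} (s : SecK k (ptTgt k p) Z) (a : Γ(X, Z)) :
    dOf (inclK k p Z s) a = (ClSub.idealModι (PtDefo.ptIdeal p)).app Z
      (secDer (X ↘ Spec (CommRingCat.of k) : X ⟶ specPt k) (show Γ(ptTgt k p, Z) from s) a) :=
  secDer_ptIncl _ a

theorem inclK_injective {Z : X.Opens} (hZ : IsAffineOpen Z) : Function.Injective (inclK k p Z) := fun s t h =>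
  secDer_injective (X ↘ Spec (CommRingCat.of k) : X ⟶ specPt k) ⟨Z, hZ⟩ (funext fun a =>
    (exact_sections _ Z).1 (by rw [← dOf_inclK, ← dOf_inclK, h]))

variable (p) in
/-- Vanishing at the marked points. -/
def Vanish {Z : X.Opens} (D : Γ(X, Z) → Γ(X, Z)) : Prop := ∀ j (h : InU p j Z) a, evp h (D a) = 0

theorem mem_ptIdeal (hp : ∀ j, p j ≫ (X ↘ Spec (CommRingCat.of k)) = 𝟙 _) {Z : X.Opens} (hZ : IsAffineOpen Z)
    (a : Γ(X, Z)) : a ∈ (PtDefo.ptIdeal p).ideal ⟨Z, hZ⟩ ↔ ∀ j (h : InU p j Z), evp h a = 0 := by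
  rw [PtDefo.ptIdeal, Scheme.IdealSheafData.ideal_iInf, iInf_apply, Submodule.mem_iInf]
  refine forall_congr' fun j => ?_
  haveI : IsClosedImmersion (p j ≫ (X ↘ Spec (CommRingCat.of k))) := by rw [hp j]; infer_instance
  haveI : IsClosedImmersion (p j) := IsClosedImmersion.of_comp (p j) (X ↘ Spec (CommRingCat.of k))
  rw [Scheme.Hom.ker_apply, RingHom.mem_ker]
  by_cases hj : InU p j Z
  · have e : evp hj a = (Scheme.ΓSpecIso (CommRingCat.of k)).hom
        ((specPt k).presheaf.map (homOfLE (le_preimage_pt hj)).op ((p j).app Z a)) := rfl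
    refine ⟨fun h _ => by rw [e, h, map_zero, map_zero], fun h => ?_⟩
    have h' := h hj
    rw [e] at h'
    haveI : IsIso ((specPt k).presheaf.map (homOfLE (le_preimage_pt hj)).op) := by
      have : ((p j) ⁻¹ᵁ Z : (specPt k).Opens) = ⊤ := top_le_iff.1 (le_preimage_pt hj)
      rw [show homOfLE (le_preimage_pt hj) = eqToHom this.symm from rfl]
      infer_instance
    exact (map_eq_zero_iff _ (ConcreteCategory.bijective_of_isIso _).1).1
      ((map_eq_zero_iff _ (ConcreteCategory.bijective_of_isIso (Scheme.ΓSpecIso (CommRingCat.of k)).hom).1).1 h')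
  · refine ⟨fun _ h => absurd h hj, fun _ => ?_⟩
    haveI : Subsingleton Γ(specPt k, (p j) ⁻¹ᵁ Z) := by
      have : ((p j) ⁻¹ᵁ Z : (specPt k).Opens) = ⊥ := le_bot_iff.1 fun q hq => hj (by
        show p j _ ∈ Z
        rw [← show q = IsLocalRing.closedPoint k from Subsingleton.elim (α := PrimeSpectrum k) _ _]
        exact hq)
      rw [this]
      infer_instance
    exact Subsingleton.elim _ _

theorem exists_idealMod_iff (hp : ∀ j, p j ≫ (X ↘ Spec (CommRingCat.of k)) = 𝟙 _) {Z : X.Opens} (hZ : IsAffineOpen Z)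
    (a : Γ(X, Z)) : (∃ m : Γ(ClSub.idealMod (PtDefo.ptIdeal p), Z),
      (show Γ(X, Z) from (ClSub.idealModι (PtDefo.ptIdeal p)).app Z m) = a) ↔ ∀ j (h : InU p j Z), evp h a = 0 :=
  (mem_ideal_iff _ hZ a).symm.trans (mem_ptIdeal hp hZ a)

theorem vanish_inclK (hp : ∀ j, p j ≫ (X ↘ Spec (CommRingCat.of k)) = 𝟙 _) {Z : X.Opens} (hZ : IsAffineOpen Z)
    (s : SecK k (ptTgt k p) Z) : Vanish p (dOf (inclK k p Z s)) := fun j h a =>
  (exists_idealMod_iff hp hZ _).1 ⟨_, (dOf_inclK s a).symm⟩ j h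

theorem exists_inclK_eq (hp : ∀ j, p j ≫ (X ↘ Spec (CommRingCat.of k)) = 𝟙 _) {Z : X.Opens} (hZ : IsAffineOpen Z)
    {s : SecK k (tgt k X) Z} (hs : Vanish p (dOf s)) : ∃ t, inclK k p Z t = s := by
  choose m hm using fun a => (exists_idealMod_iff hp hZ (dOf s a)).2 fun j h => hs j h a
  have hm : ∀ a, (ClSub.idealModι (PtDefo.ptIdeal p)).app Z (m a) = dOf s a := hm
  have hinj := (exact_sections (PtDefo.ptIdeal p) Z).1
  obtain ⟨t, ht⟩ := exists_secDer_eq (X ↘ Spec (CommRingCat.of k) : X ⟶ specPt k) ⟨Z, hZ⟩ (D := m)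
    ⟨fun a b => hinj (by rw [map_add, hm, hm, hm, (isDer_dOf s).add]),
     fun a b => hinj (by
      rw [map_add, Scheme.Modules.Hom.app_smul, Scheme.Modules.Hom.app_smul, hm, hm, hm, (isDer_dOf s).mul]; rfl),
     fun c => hinj (by rw [map_zero, hm, (isDer_dOf s).base])⟩
  refine ⟨t, dOf_injective hZ (funext fun a => ?_)⟩
  rw [dOf_inclK, show secDer (X ↘ Spec (CommRingCat.of k) : X ⟶ specPt k) (show Γ(ptTgt k p, Z) from t) a = m a from
    congrFun ht a]
  exact hm a

variable (k p) in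
/-- The cocycles vanishing at the points. -/
def ptCocycles (hp : ∀ j, p j ≫ (X ↘ Spec (CommRingCat.of k)) = 𝟙 _) : Submodule k (Fn k (tgt k X)) where
  carrier := {c | IsCocycle k (tgt k X) c ∧ ∀ U W, Vanish p (dOf (c U W))}
  add_mem' {c d} hc hd := ⟨(cocycles k _).add_mem hc.1 hd.1, fun U W j h a => by
    show evp h (dOf (c U W + d U W) a) = 0
    rw [dOf_add, map_add, hc.2 U W j h a, hd.2 U W j h a, add_zero]⟩
  zero_mem' := ⟨(cocycles k _).zero_mem, fun U W j h a => by
    show evp h (dOf 0 a) = 0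
    rw [dOf_zero, map_zero]⟩
  smul_mem' r c hc := ⟨(cocycles k _).smul_mem r hc.1, fun U W j h a => by
    show evp h (dOf (r • c U W) a) = 0
    rw [dOf_smul, map_mul, hc.2 U W j h a, mul_zero]⟩

theorem isQCoh_ptTgt : Coh.IsQCoh (ptTgt k p) := by
  haveI : IsLocallyNoetherian X := LocallyOfFiniteType.isLocallyNoetherian (X ↘ Spec (CommRingCat.of k))
  exact Groth.L16.HomSh.isQCoh_homMod (Groth.L15.OmegaCoh.isCoh_omega _) _

/-- First cohomology of the twisted tangent sheaf by cocycles. -/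
theorem exists_ptClass (hp : ∀ j, p j ≫ (X ↘ Spec (CommRingCat.of k)) = 𝟙 _) :
    ∃ κ : ptCocycles k p hp →ₗ[k] Coh.HH X (ptTgt k p) 1,
      Function.Surjective κ ∧ ∀ c, κ c = 0 ↔
        ∃ t : Fn₀ k (tgt k X), (∀ U, Vanish p (dOf (t U))) ∧ bdry k (tgt k X) t = c.1 := by
  haveI := isQCoh_ptTgt (k := k) (p := p)
  obtain ⟨κ, hκs, hκ⟩ := exists_class k (ptTgt k p)
  have hN : ∀ {U V : X.affineOpens}, IsAffineOpen (U.1 ⊓ V.1) := fun {U V} => isAffineOpen_inter (k := k) U V
  let L : cocycles k (ptTgt k p) →ₗ[k] ptCocycles k p hp :=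
    { toFun := fun c => ⟨fun U W => inclK k p _ (c.1 U W), fun U V W Z h1 h2 h3 => by
          simp only [← inclK_res, ← map_add]
          exact congrArg (inclK k p Z) (c.2 U V W Z h1 h2 h3),
        fun U W => vanish_inclK hp hN _⟩
      map_add' := fun c d => Subtype.ext (funext fun U => funext fun W => map_add (inclK k p _) _ _)
      map_smul' := fun r c => Subtype.ext (funext fun U => funext fun W => map_smul (inclK k p _) _ _) }
  have hL : Function.Bijective L := by
    refine ⟨fun c d h => Subtype.ext (funext fun U => funext fun W =>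
      inclK_injective hN (congrFun (congrFun (congrArg Subtype.val h) U) W)), fun c => ?_⟩
    choose t ht using fun U W => exists_inclK_eq hp hN (c.2.2 U W)
    refine ⟨⟨t, fun U V W Z h1 h2 h3 => ?_⟩, Subtype.ext (funext fun U => funext fun W => ht U W)⟩
    let T : X.affineOpens := ⟨U.1 ⊓ V.1 ⊓ W.1, isAffineOpen_inter (k := k) ⟨U.1 ⊓ V.1, hN⟩ W⟩
    have e : resK k _ (inf_le_left : T.1 ≤ U.1 ⊓ V.1) (t U V) +
        resK k _ (le_inf (inf_le_left.trans inf_le_right) inf_le_right : T.1 ≤ V.1 ⊓ W.1) (t V W) =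
        resK k _ (le_inf (inf_le_left.trans inf_le_left) inf_le_right : T.1 ≤ U.1 ⊓ W.1) (t U W) := by
      apply inclK_injective T.2
      rw [map_add, inclK_res, inclK_res, inclK_res, ht, ht, ht]
      exact c.2.1 U V W T.1 _ _ _
    have hZ : Z ≤ T.1 := le_inf h1 (h2.trans inf_le_right)
    have e'' := congrArg (resK k (ptTgt k p) hZ) e
    rw [map_add, resK_resK, resK_resK, resK_resK] at e''
    exact e''
  let e := LinearEquiv.ofBijective L hL
  refine ⟨κ.comp e.symm.toLinearMap, hκs.comp e.symm.surjective, fun c => ?_⟩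
  obtain ⟨c, rfl⟩ := hL.2 c
  show κ (e.symm (L c)) = 0 ↔ _
  rw [show e.symm (L c) = c from e.symm_apply_apply c, hκ]
  constructor
  · rintro ⟨t, ht⟩
    refine ⟨fun U => inclK k p _ (t U), fun U => vanish_inclK hp U.2 _, funext fun U => funext fun W => ?_⟩
    show _ = inclK k p _ (c.1 U W)
    rw [← ht, bdry_apply, bdry_apply, map_sub, inclK_res, inclK_res]
  · rintro ⟨t, hv, ht⟩
    choose s hs using fun U : X.affineOpens => exists_inclK_eq hp U.2 (hv U)
    refine ⟨s, funext fun U => funext fun W => inclK_injective hN ?_⟩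
    rw [show inclK k p _ (c.1 U W) = (L c).1 U W from rfl, ← ht, bdry_apply, bdry_apply, map_sub, inclK_res, inclK_res,
      hs, hs]

/-- The sheaf Hom into the ideal of the points. -/
theorem exists_hh_equiv_pt [DCoh.HasSheafHom (Omega.sheaf (X ↘ Spec (CommRingCat.of k)))] (n : ℕ) :
    Nonempty (Coh.HH X (ptTgt k p) n ≃ₗ[k]
      Coh.HH X (TanTw.tanTw (X ↘ Spec (CommRingCat.of k)) (PtDefo.ptIdeal p)) n) := by
  let e := (Groth.L16.HomSh.sheafHomIso (Omega.sheaf (X ↘ Spec (CommRingCat.of k)))).app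
    (ClSub.idealMod (PtDefo.ptIdeal p))
  have h : ∀ {P Q : X.Modules} (f : P ⟶ Q) (g : Q ⟶ P), f ≫ g = 𝟙 P → ∀ z : Coh.HH X P n,
      Canon.HHlin k g n (Canon.HHlin k f n z) = z := fun {P Q} f g hfg z => by
    show Sheaf.H.map _ n (Sheaf.H.map _ n z) = z
    rw [← Sheaf.H.map_comp_apply, ← Functor.map_comp, hfg, CategoryTheory.Functor.map_id, Sheaf.H.map_id_apply]
  exact ⟨LinearEquiv.ofLinearMap (Canon.HHlin k e.inv n) (Canon.HHlin k e.hom n)
    (LinearMap.ext (h e.hom e.inv e.hom_inv_id)) (LinearMap.ext (h e.inv e.hom e.inv_hom_id))⟩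

end Groth.L14.LocTriv
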