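import Groth.Agent.L14.DefLift.AutDer
import Groth.Agent.L01.NilDescent
import Groth.Agent.L12.ArtBasic
import Mathlib.RingTheory.Etale.Basic
import Mathlib.AlgebraicGeometry.Morphisms.Etale

/-! # The rings of a deformation over affine opens and local morphisms -/

set_option autoImplicit false
set_option linter.style.haveILetI false
set_option linter.unusedSectionVars false
set_option backward.isDefEq.respectTransparency.types false
set_option backward.isDefEq.respectTransparency false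

universe u

open CategoryTheory CategoryTheory.Limits AlgebraicGeometry TopologicalSpace Opposite ArtFun ArtFun.Art

noncomputable section

namespace Groth.L14.LocTriv

open Groth.L18.Frame (ro ro_ro ro_self)
open Groth.L14.DefLift (exists_open i_le_of_le i_eq_of_eq isAffineOpen_of_preimage baseS appLE_baseS ro_baseS chart)

variable {k : Type u} [Field k] {X : Scheme.{u}} {x : X ⟶ specPt k} {A A' A'' : Art k k}

section Basic

variable (ξ : DefSch X x A)

/-- The open of the deformation over an open. -/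
def vOf (U : X.Opens) : ξ.total.Opens := (exists_open ξ U).choose

theorem preimage_vOf (U : X.Opens) : ξ.i ⁻¹ᵁ vOf ξ U = U := (exists_open ξ U).choose_spec

theorem vOf_mono {U U' : X.Opens} (h : U' ≤ U) : vOf ξ U' ≤ vOf ξ U :=
  i_le_of_le ξ (by rw [preimage_vOf, preimage_vOf]; exact h)

theorem isAffineOpen_vOf (U : X.affineOpens) : IsAffineOpen (vOf ξ U.1) :=
  isAffineOpen_of_preimage ξ (by rw [preimage_vOf]; exact U.2)

theorem eq_vOf {U : X.Opens} {V : ξ.total.Opens} (h : ξ.i ⁻¹ᵁ V = U) : V = vOf ξ U :=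
  i_eq_of_eq ξ (by rw [h, preimage_vOf])

/-- The functions of the deformation over an open. -/
abbrev R (U : X.Opens) : Type u := Γ(ξ.total, vOf ξ U)

/-- The structure map. -/
def rB (U : X.Opens) : A →+* R ξ U := baseS ξ (vOf ξ U)

/-- The reduction. -/
def red (U : X.Opens) : R ξ U →+* Γ(X, U) := (ξ.i.appLE (vOf ξ U) U (preimage_vOf ξ U).ge).hom

/-- The restriction. -/
def res {U U' : X.Opens} (h : U' ≤ U) : R ξ U →+* R ξ U' := (ξ.total.presheaf.map (homOfLE (vOf_mono ξ h)).op).hom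

theorem res_rB {U U' : X.Opens} (h : U' ≤ U) (a : A) : res ξ h (rB ξ U a) = rB ξ U' a := ro_baseS ξ _ a

theorem res_res {U U' U'' : X.Opens} (h : U' ≤ U) (h' : U'' ≤ U') (r : R ξ U) :
    res ξ h' (res ξ h r) = res ξ (h'.trans h) r := ro_ro _ _ r

theorem res_self {U : X.Opens} (h : U ≤ U) (r : R ξ U) : res ξ h r = r := ro_self _ r

theorem red_res {U U' : X.Opens} (h : U' ≤ U) (r : R ξ U) : red ξ U' (res ξ h r) = ro h (red ξ U r) :=
  (ConcreteCategory.congr_hom
    (Scheme.Hom.map_appLE ξ.i (preimage_vOf ξ U').ge (homOfLE (vOf_mono ξ h)).op) r).trans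
    (ConcreteCategory.congr_hom (Scheme.Hom.appLE_map ξ.i (preimage_vOf ξ U).ge (homOfLE h).op) r).symm

/-- Constants on an open. -/
def cU (x : X ⟶ specPt k) (U : X.Opens) : k →+* Γ(X, U) :=
  (x.appLE ⊤ U le_top).hom.comp (Scheme.ΓSpecIso (CommRingCat.of k)).inv.hom

theorem ro_cU {U U' : X.Opens} (h : U' ≤ U) (c : k) : ro h (cU x U c) = cU x U' c :=
  ConcreteCategory.congr_hom (Scheme.Hom.appLE_map x (U := ⊤) (V := U) le_top (homOfLE h).op) _

theorem red_rB (U : X.Opens) (a : A) : red ξ U (rB ξ U a) = cU x U (A.res a) :=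
  appLE_baseS ξ _ a

variable (U : X.affineOpens)

theorem red_surjective : Function.Surjective (red ξ U.1) :=
  (chart ξ (isAffineOpen_vOf ξ U) U.2 (preimage_vOf ξ U.1)).2.1

theorem red_eq_zero_iff (r : R ξ U.1) :
    red ξ U.1 r = 0 ↔ r ∈ (IsLocalRing.maximalIdeal A).map (rB ξ U.1) :=
  (chart ξ (isAffineOpen_vOf ξ U) U.2 (preimage_vOf ξ U.1)).2.2 r

theorem rB_flat : (rB ξ U.1).Flat := (chart ξ (isAffineOpen_vOf ξ U) U.2 (preimage_vOf ξ U.1)).1

theorem isNilpotent_ker_red : IsNilpotent (RingHom.ker (red ξ U.1)) := by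
  rw [show RingHom.ker (red ξ U.1) = (IsLocalRing.maximalIdeal A).map (rB ξ U.1) from
    Ideal.ext fun r => RingHom.mem_ker.trans (red_eq_zero_iff ξ U r)]
  obtain ⟨n, hn⟩ := Groth.L12.isNilpotent_maximalIdeal A
  exact ⟨n, by rw [← Ideal.map_pow, hn, Ideal.zero_eq_bot, Ideal.map_bot]; rfl⟩

theorem mul_eq_of_red {a : A} (ha : ∀ c ∈ IsLocalRing.maximalIdeal A, c * a = 0) {r r' : R ξ U.1}
    (h : red ξ U.1 r = red ξ U.1 r') : rB ξ U.1 a * r = rB ξ U.1 a * r' := by
  rw [← sub_eq_zero, ← mul_sub]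
  have hd := (red_eq_zero_iff ξ U (r - r')).1 (by rw [map_sub, h, sub_self])
  generalize r - r' = d at hd
  induction hd using Submodule.span_induction with
  | mem z hz =>
    obtain ⟨c, hc, rfl⟩ := hz
    rw [← map_mul, mul_comm, ha c hc, map_zero]
  | zero => rw [mul_zero]
  | add z w _ _ hz hw => rw [mul_add, hz, hw, add_zero]
  | smul c z _ hz => rw [smul_eq_mul, mul_left_comm, hz, mul_zero]

/-- An element of the base killed by the maximal ideal times a function on the closed fibre. -/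
def jMul (a : A) (b : Γ(X, U.1)) : R ξ U.1 := rB ξ U.1 a * (red_surjective ξ U b).choose

theorem mul_eq_jMul {a : A} (ha : ∀ c ∈ IsLocalRing.maximalIdeal A, c * a = 0) (r : R ξ U.1) :
    rB ξ U.1 a * r = jMul ξ U a (red ξ U.1 r) :=
  mul_eq_of_red ξ U ha (red_surjective ξ U (red ξ U.1 r)).choose_spec.symm

theorem jMul_add {a : A} (ha : ∀ c ∈ IsLocalRing.maximalIdeal A, c * a = 0) (b b' : Γ(X, U.1)) :
    jMul ξ U a (b + b') = jMul ξ U a b + jMul ξ U a b' := by
  obtain ⟨r, rfl⟩ := red_surjective ξ U b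
  obtain ⟨r', rfl⟩ := red_surjective ξ U b'
  rw [← map_add, ← mul_eq_jMul ξ U ha, ← mul_eq_jMul ξ U ha, ← mul_eq_jMul ξ U ha, mul_add]

theorem jMul_zero {a : A} (ha : ∀ c ∈ IsLocalRing.maximalIdeal A, c * a = 0) : jMul ξ U a 0 = 0 := by
  rw [← map_zero (red ξ U.1), ← mul_eq_jMul ξ U ha, mul_zero]

theorem jMul_neg {a : A} (ha : ∀ c ∈ IsLocalRing.maximalIdeal A, c * a = 0) (b : Γ(X, U.1)) :
    jMul ξ U a (-b) = -jMul ξ U a b :=
  eq_neg_of_add_eq_zero_left (by rw [← jMul_add ξ U ha, neg_add_cancel, jMul_zero ξ U ha])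

theorem jMul_mul {a : A} (ha : ∀ c ∈ IsLocalRing.maximalIdeal A, c * a = 0) (r : R ξ U.1) (b : Γ(X, U.1)) :
    r * jMul ξ U a b = jMul ξ U a (red ξ U.1 r * b) := by
  obtain ⟨s, rfl⟩ := red_surjective ξ U b
  rw [← map_mul, ← mul_eq_jMul ξ U ha, ← mul_eq_jMul ξ U ha, mul_left_comm]

theorem red_jMul {a : A} (ha : A.res a = 0) (b : Γ(X, U.1)) : red ξ U.1 (jMul ξ U a b) = 0 := by
  rw [jMul, map_mul, red_rB, ha, map_zero, zero_mul]

theorem res_jMul {a : A} (ha : ∀ c ∈ IsLocalRing.maximalIdeal A, c * a = 0) {U' : X.affineOpens}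
    (h : U'.1 ≤ U.1) (b : Γ(X, U.1)) : res ξ h (jMul ξ U a b) = jMul ξ U' a (ro h b) := by
  obtain ⟨r, rfl⟩ := red_surjective ξ U b
  rw [← mul_eq_jMul ξ U ha, map_mul, res_rB, mul_eq_jMul ξ U' ha, red_res]

end Basic

/-- A basis of an ideal killed by the maximal ideal. -/
structure SocBasis (A : Art k k) where
  /-- the size -/
  n : ℕ
  /-- the elements -/
  e : Fin n → A
  kill : ∀ l, ∀ c ∈ IsLocalRing.maximalIdeal A, c * e l = 0
  mem : ∀ l, A.res (e l) = 0
  indep : LinearIndependent k e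

namespace SocBasis

variable (S : SocBasis A) (ξ : DefSch X x A) (U : X.affineOpens)

/-- `Σ eₗ bₗ`. -/
def sum (b : Fin S.n → Γ(X, U.1)) : R ξ U.1 := ∑ l, jMul ξ U (S.e l) (b l)

theorem sum_add (b b' : Fin S.n → Γ(X, U.1)) : S.sum ξ U (b + b') = S.sum ξ U b + S.sum ξ U b' := by
  simp only [sum, Pi.add_apply, jMul_add ξ U (S.kill _), Finset.sum_add_distrib]

theorem sum_zero : S.sum ξ U 0 = 0 := by
  simp only [sum, Pi.zero_apply, jMul_zero ξ U (S.kill _), Finset.sum_const_zero]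

theorem sum_neg (b : Fin S.n → Γ(X, U.1)) : S.sum ξ U (-b) = -S.sum ξ U b :=
  eq_neg_of_add_eq_zero_left (by rw [← sum_add, neg_add_cancel, sum_zero])

theorem sum_sub (b b' : Fin S.n → Γ(X, U.1)) : S.sum ξ U (b - b') = S.sum ξ U b - S.sum ξ U b' := by
  rw [sub_eq_add_neg, sum_add, sum_neg, sub_eq_add_neg]

theorem mul_sum (r : R ξ U.1) (b : Fin S.n → Γ(X, U.1)) :
    r * S.sum ξ U b = S.sum ξ U fun l => red ξ U.1 r * b l := by
  simp only [sum, Finset.mul_sum, jMul_mul ξ U (S.kill _)]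

theorem red_sum (b : Fin S.n → Γ(X, U.1)) : red ξ U.1 (S.sum ξ U b) = 0 := by
  simp only [sum, map_sum, red_jMul ξ U (S.mem _), Finset.sum_const_zero]

theorem sum_mul_sum (b b' : Fin S.n → Γ(X, U.1)) : S.sum ξ U b * S.sum ξ U b' = 0 := by
  rw [mul_sum, red_sum]
  simp only [zero_mul]
  exact sum_zero S ξ U

theorem res_sum {U' : X.affineOpens} (h : U'.1 ≤ U.1) (b : Fin S.n → Γ(X, U.1)) :
    res ξ h (S.sum ξ U b) = S.sum ξ U' fun l => ro h (b l) := by
  simp only [sum, map_sum, res_jMul ξ U (S.kill _)]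

theorem sum_injective : Function.Injective (S.sum ξ U) := by
  intro b b' h
  rw [← sub_eq_zero, ← sum_sub] at h
  rw [← sub_eq_zero]
  generalize b - b' = c at h
  classical
  letI : Algebra A (R ξ U.1) := (rB ξ U.1).toAlgebra
  haveI : Module.Flat A (R ξ U.1) := rB_flat ξ U
  let m := IsLocalRing.maximalIdeal A
  haveI : m.IsMaximal := IsLocalRing.maximalIdeal.isMaximal _
  haveI : Module.Flat A (TensorProduct A A (R ξ U.1)) := Module.Flat.of_linearEquiv (TensorProduct.lid A _)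
  haveI : Module.Free A (R ξ U.1) :=
    Groth.L01.NilDescent.free_of_flat_baseChange m (Groth.L12.isNilpotent_maximalIdeal A) A Function.injective_id _
  let w := Module.Free.chooseBasis A (R ξ U.1)
  choose r hr using fun l => red_surjective ξ U (c l)
  funext l₀
  show c l₀ = 0
  rw [← hr l₀, red_eq_zero_iff]
  have h1 : ∑ l, S.e l • r l = 0 := by
    rw [← h]
    refine Finset.sum_congr rfl fun l _ => ?_
    rw [Algebra.smul_def, RingHom.algebraMap_toAlgebra, mul_eq_jMul ξ U (S.kill l), hr]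
  have h2 : ∀ (l : Fin S.n) m', w.repr (r l) m' ∈ m := by
    intro l m'
    have h3 := congrArg (fun z => w.repr z m') h1
    simp only [map_sum, map_smul, Finsupp.coe_finset_sum, Finset.sum_apply, Finsupp.coe_smul, Pi.smul_apply,
      smul_eq_mul, map_zero, Finsupp.coe_zero, Pi.zero_apply] at h3
    have h4 : ∑ l, A.res (w.repr (r l) m') • S.e l = 0 := by
      rw [← h3]
      refine Finset.sum_congr rfl fun l _ => ?_
      rw [Algebra.smul_def]
      have h5 : w.repr (r l) m' - algebraMap k A (A.res (w.repr (r l) m')) ∈ m := by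
        rw [Art.mem_maximalIdeal_iff, map_sub, AlgHom.commutes]
        exact sub_self _
      rw [mul_comm (S.e l), ← sub_eq_zero, ← sub_mul]
      rw [← neg_sub (w.repr (r l) m'), neg_mul, S.kill l _ h5, neg_zero]
    rw [Art.mem_maximalIdeal_iff]
    exact Fintype.linearIndependent_iff.1 S.indep _ h4 l
  rw [← w.linearCombination_repr (r l₀), Finsupp.linearCombination_apply]
  refine Ideal.sum_mem _ fun m' _ => ?_
  beta_reduce
  rw [Algebra.smul_def, RingHom.algebraMap_toAlgebra]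
  exact Ideal.mul_mem_right _ _ (Ideal.mem_map_of_mem _ (h2 l₀ m'))

/-- The ideal spanned. -/
def span : Ideal A := Ideal.span (Set.range S.e)

theorem exists_eq_sum {z : R ξ U.1} (hz : z ∈ S.span.map (rB ξ U.1)) : ∃ b, z = S.sum ξ U b := by
  rw [span, Ideal.map_span, ← Set.range_comp, Ideal.mem_span_range_iff_exists_fun] at hz
  obtain ⟨c, rfl⟩ := hz
  refine ⟨fun l => red ξ U.1 (c l), Finset.sum_congr rfl fun l _ => ?_⟩
  show c l * rB ξ U.1 (S.e l) = _
  rw [mul_comm, mul_eq_jMul ξ U (S.kill l)]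

theorem sum_mem (b : Fin S.n → Γ(X, U.1)) : S.sum ξ U b ∈ S.span.map (rB ξ U.1) :=
  Ideal.sum_mem _ fun l _ => Ideal.mul_mem_right _ _ (Ideal.mem_map_of_mem _ (Ideal.subset_span ⟨l, rfl⟩))

end SocBasis

/-- Derivations of the functions on an open. -/
structure IsDer (x : X ⟶ specPt k) (U : X.Opens) (D : Γ(X, U) → Γ(X, U)) : Prop where
  add : ∀ a b, D (a + b) = D a + D b
  mul : ∀ a b, D (a * b) = a * D b + b * D a
  base : ∀ c, D (cU x U c) = 0

theorem IsDer.zero' {U : X.Opens} : IsDer x U fun _ => 0 :=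
  ⟨fun _ _ => (add_zero _).symm, fun a b => by rw [mul_zero, mul_zero, add_zero], fun _ => rfl⟩

/-- A local morphism of deformations over an affine open. -/
structure LocHom (μ : A ⟶ A') (ξ : DefSch X x A) (ξ' : DefSch X x A') (U : X.affineOpens) where
  /-- the ring homomorphism -/
  hom : R ξ U.1 →+* R ξ' U.1
  hom_rB : ∀ a, hom (rB ξ U.1 a) = rB ξ' U.1 (μ a)
  red_hom : ∀ r, red ξ' U.1 (hom r) = red ξ U.1 r

namespace LocHom

variable {μ : A ⟶ A'} {ξ : DefSch X x A} {ξ' : DefSch X x A'} {U U' : X.affineOpens}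

@[ext] theorem ext' {θ θ' : LocHom μ ξ ξ' U} (h : ∀ r, θ.hom r = θ'.hom r) : θ = θ' := by
  obtain ⟨f, _, _⟩ := θ
  obtain ⟨g, _, _⟩ := θ'
  obtain rfl : f = g := RingHom.ext h
  rfl

/-- Composition. -/
def comp {ν : A' ⟶ A''} {ξ'' : DefSch X x A''} (θ : LocHom μ ξ ξ' U) (τ : LocHom ν ξ' ξ'' U) :
    LocHom (μ ≫ ν) ξ ξ'' U where
  hom := τ.hom.comp θ.hom
  hom_rB a := by rw [RingHom.comp_apply, θ.hom_rB, τ.hom_rB]; rfl
  red_hom r := by rw [RingHom.comp_apply, τ.red_hom, θ.red_hom]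

/-- The morphism of rings of a morphism of deformations. -/
def ofHom {c : ξ'.total ⟶ ξ.total} (hc : c ≫ ξ.f = ξ'.f ≫ specMap μ) (hci : ξ'.i ≫ c = ξ.i)
    (U : X.affineOpens) : LocHom μ ξ ξ' U where
  hom := (c.appLE (vOf ξ U.1) (vOf ξ' U.1) (i_le_of_le ξ' (by
    rw [preimage_vOf, ← Scheme.Hom.comp_preimage, hci, preimage_vOf]))).hom
  hom_rB a := by
    have e2 : (specMap μ).appLE ⊤ ⊤ le_top ≫ ξ'.f.appLE ⊤ (vOf ξ' U.1) le_top =
        (ξ'.f ≫ specMap μ).appLE ⊤ (vOf ξ' U.1) le_top := Scheme.Hom.appLE_comp_appLE _ _ _ _ _ _ _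
    have e3 : ∀ h, ξ.f.appLE ⊤ (vOf ξ U.1) le_top ≫ c.appLE (vOf ξ U.1) (vOf ξ' U.1) h =
        (c ≫ ξ.f).appLE ⊤ (vOf ξ' U.1) le_top := fun h => Scheme.Hom.appLE_comp_appLE _ _ _ _ _ _ _
    refine (ConcreteCategory.congr_hom (e3 _) _).trans ((Groth.L14.DefLift.appLE_congr_hom hc _ le_top _).trans ?_)
    refine (ConcreteCategory.congr_hom e2 _).symm.trans (congrArg (ξ'.f.appLE ⊤ (vOf ξ' U.1) le_top) ?_)
    exact (Scheme.Hom.appLE_eq_app (specMap μ) (U := ⊤)).symm ▸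
      (ConcreteCategory.congr_hom (Scheme.ΓSpecIso_inv_naturality (CommRingCat.ofHom μ.toAlgHom.toRingHom)) a).symm
  red_hom r := by
    have e1 : ∀ h, c.appLE (vOf ξ U.1) (vOf ξ' U.1) h ≫ ξ'.i.appLE (vOf ξ' U.1) U.1 (preimage_vOf ξ' U.1).ge =
        (ξ'.i ≫ c).appLE (vOf ξ U.1) U.1 (by rw [hci]; exact (preimage_vOf ξ U.1).ge) :=
      fun h => Scheme.Hom.appLE_comp_appLE _ _ _ _ _ _ _
    exact (ConcreteCategory.congr_hom (e1 _) r).trans (Groth.L14.DefLift.appLE_congr_hom hci _ _ r)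

theorem ofHom_res {c : ξ'.total ⟶ ξ.total} (hc : c ≫ ξ.f = ξ'.f ≫ specMap μ) (hci : ξ'.i ≫ c = ξ.i)
    (h : U'.1 ≤ U.1) (r : R ξ U.1) :
    res ξ' h ((ofHom hc hci U).hom r) = (ofHom hc hci U').hom (res ξ h r) :=
  (ConcreteCategory.congr_hom (Scheme.Hom.appLE_map c _ (homOfLE (vOf_mono ξ' h)).op) r).trans
    (ConcreteCategory.congr_hom (Scheme.Hom.map_appLE c _ (homOfLE (vOf_mono ξ h)).op) r).symm

/-- Compatibility with restriction. -/
def Restricts (θ : LocHom μ ξ ξ' U) (θ' : LocHom μ ξ ξ' U') (h : U'.1 ≤ U.1) : Prop :=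
  ∀ r, res ξ' h (θ.hom r) = θ'.hom (res ξ h r)

theorem formallyEtale_res (ξ : DefSch X x A) {U U' : X.affineOpens} (h : U'.1 ≤ U.1) :
    (res ξ h).FormallyEtale := by
  have h1 : ((𝟙 ξ.total : ξ.total ⟶ ξ.total).appLE (vOf ξ U.1) (vOf ξ U'.1) (vOf_mono ξ h)).hom.Etale :=
    HasRingHomProperty.appLE (P := @Etale) (𝟙 ξ.total) inferInstance ⟨_, isAffineOpen_vOf ξ U⟩
      ⟨_, isAffineOpen_vOf ξ U'⟩ _
  simp only [Scheme.Hom.appLE, Scheme.Hom.id_app, Category.id_comp] at h1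
  exact h1.formallyEtale

/-- Restriction exists and is unique. -/
theorem exists_restrict (θ : LocHom μ ξ ξ' U) (h : U'.1 ≤ U.1) :
    ∃ θ' : LocHom μ ξ ξ' U', θ.Restricts θ' h := by
  letI : Algebra (R ξ U.1) (R ξ U'.1) := (res ξ h).toAlgebra
  haveI : Algebra.FormallyEtale (R ξ U.1) (R ξ U'.1) := formallyEtale_res ξ h
  letI : Algebra (R ξ U.1) (R ξ' U'.1) := ((res ξ' h).comp θ.hom).toAlgebra
  letI : Algebra (R ξ U.1) Γ(X, U'.1) := ((red ξ U'.1).comp (res ξ h)).toAlgebra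
  let q : R ξ' U'.1 →ₐ[R ξ U.1] Γ(X, U'.1) :=
    { red ξ' U'.1 with
      commutes' := fun r => by
        show red ξ' U'.1 (res ξ' h (θ.hom r)) = red ξ U'.1 (res ξ h r)
        rw [red_res, red_res, θ.red_hom] }
  let q₀ : R ξ U'.1 →ₐ[R ξ U.1] Γ(X, U'.1) := { red ξ U'.1 with commutes' := fun r => rfl }
  let g := Algebra.FormallySmooth.liftOfSurjective q₀ q (red_surjective ξ' U') (isNilpotent_ker_red ξ' U')
  refine ⟨⟨g.toRingHom, fun a => ?_, fun r => ?_⟩, fun r => (g.commutes r).symm⟩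
  · rw [← res_rB ξ h]
    refine (g.commutes (rB ξ U.1 a)).trans ?_
    show res ξ' h (θ.hom (rB ξ U.1 a)) = _
    rw [θ.hom_rB, res_rB]
  · exact Algebra.FormallySmooth.liftOfSurjective_apply q₀ q (red_surjective ξ' U') (isNilpotent_ker_red ξ' U') r

theorem restrict_unique {θ : LocHom μ ξ ξ' U} {θ₁ θ₂ : LocHom μ ξ ξ' U'} {h : U'.1 ≤ U.1}
    (h₁ : θ.Restricts θ₁ h) (h₂ : θ.Restricts θ₂ h) : θ₁ = θ₂ := by
  letI : Algebra (R ξ U.1) (R ξ U'.1) := (res ξ h).toAlgebra
  haveI : Algebra.FormallyEtale (R ξ U.1) (R ξ U'.1) := formallyEtale_res ξ h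
  letI : Algebra (R ξ U.1) (R ξ' U'.1) := ((res ξ' h).comp θ.hom).toAlgebra
  obtain ⟨n, hn⟩ := isNilpotent_ker_red ξ' U'
  let g₁ : R ξ U'.1 →ₐ[R ξ U.1] R ξ' U'.1 := { θ₁.hom with commutes' := fun r => (h₁ r).symm }
  let g₂ : R ξ U'.1 →ₐ[R ξ U.1] R ξ' U'.1 := { θ₂.hom with commutes' := fun r => (h₂ r).symm }
  have := Algebra.FormallyUnramified.lift_unique (RingHom.ker (red ξ' U'.1)) ⟨n, hn⟩ g₁ g₂ (AlgHom.ext fun r =>
    Ideal.Quotient.eq.2 (by
      rw [RingHom.mem_ker, map_sub]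
      exact sub_eq_zero.2 ((θ₁.red_hom r).trans (θ₂.red_hom r).symm)))
  exact ext' fun r => DFunLike.congr_fun this r

/-- The restriction. -/
def restrict (θ : LocHom μ ξ ξ' U) (h : U'.1 ≤ U.1) : LocHom μ ξ ξ' U' := (exists_restrict θ h).choose

theorem restricts_restrict (θ : LocHom μ ξ ξ' U) (h : U'.1 ≤ U.1) : θ.Restricts (θ.restrict h) h :=
  (exists_restrict θ h).choose_spec

theorem restrict_restrict (θ : LocHom μ ξ ξ' U) {U'' : X.affineOpens} (h : U'.1 ≤ U.1) (h' : U''.1 ≤ U'.1) :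
    (θ.restrict h).restrict h' = θ.restrict (h'.trans h) :=
  restrict_unique (θ := θ) (h := h'.trans h) (fun r => by
    rw [← res_res ξ h h', ← res_res ξ' h h', restricts_restrict θ h, restricts_restrict (θ.restrict h) h'])
    (restricts_restrict θ _)

theorem restrict_self (θ : LocHom μ ξ ξ' U) (h : U.1 ≤ U.1) : θ.restrict h = θ :=
  restrict_unique (restricts_restrict θ h) fun r => by rw [res_self, res_self]

section Diff

variable (S : SocBasis A')

/-- `θ₂ = θ₁ + Σ eₗ Dₗ`. -/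
def Diff (θ₁ θ₂ : LocHom μ ξ ξ' U) (D : Fin S.n → Γ(X, U.1) → Γ(X, U.1)) : Prop :=
  ∀ r, θ₂.hom r = θ₁.hom r + S.sum ξ' U fun l => D l (red ξ U.1 r)

variable {S} {θ₁ θ₂ θ₃ : LocHom μ ξ ξ' U} {D D' : Fin S.n → Γ(X, U.1) → Γ(X, U.1)}

theorem Diff.unique (h : Diff S θ₁ θ₂ D) (h' : Diff S θ₁ θ₂ D') : D = D' := by
  funext l b
  obtain ⟨r, rfl⟩ := red_surjective ξ U b
  exact congrFun (S.sum_injective ξ' U (add_left_cancel ((h r).symm.trans (h' r)))) l

theorem Diff.isDer (h : Diff S θ₁ θ₂ D) (l : Fin S.n) : IsDer x U.1 (D l) where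
  add a b := by
    obtain ⟨r, rfl⟩ := red_surjective ξ U a
    obtain ⟨s, rfl⟩ := red_surjective ξ U b
    have := h (r + s)
    rw [map_add, map_add, h r, h s, add_add_add_comm, ← S.sum_add, map_add] at this
    exact (congrFun (S.sum_injective ξ' U (add_left_cancel this)) l).symm
  mul a b := by
    obtain ⟨r, rfl⟩ := red_surjective ξ U a
    obtain ⟨s, rfl⟩ := red_surjective ξ U b
    have := h (r * s)
    rw [map_mul, map_mul, h r, h s, add_mul, mul_add, mul_add, S.mul_sum, mul_comm (S.sum ξ' U _) (θ₁.hom s),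
      S.mul_sum, S.sum_mul_sum, add_zero, add_assoc, ← S.sum_add, map_mul] at this
    refine (congrFun (S.sum_injective ξ' U (add_left_cancel this)) l).symm.trans ?_
    show red ξ' U.1 (θ₁.hom r) * _ + red ξ' U.1 (θ₁.hom s) * _ = _
    rw [θ₁.red_hom, θ₁.red_hom]
  base c := by
    have := h (rB ξ U.1 (algebraMap k A c))
    rw [θ₁.hom_rB, θ₂.hom_rB, red_rB, AlgHom.commutes, eq_comm, add_eq_left, ← S.sum_zero ξ' U] at this
    refine Eq.trans ?_ (congrFun (S.sum_injective ξ' U this) l)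
    beta_reduce
    rw [AlgHom.commutes]
    rfl

theorem Diff.trans (h : Diff S θ₁ θ₂ D) (h' : Diff S θ₂ θ₃ D') : Diff S θ₁ θ₃ (D + D') := fun r => by
  rw [h' r, h r, add_assoc, ← S.sum_add]
  rfl

theorem Diff.refl : Diff S θ₁ θ₁ 0 := fun r => by
  rw [show (fun l => (0 : Fin S.n → Γ(X, U.1) → Γ(X, U.1)) l (red ξ U.1 r)) = 0 from rfl, S.sum_zero, add_zero]

theorem Diff.symm (h : Diff S θ₁ θ₂ D) : Diff S θ₂ θ₁ (-D) := fun r => by
  rw [h r, add_assoc, ← S.sum_add]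
  rw [show ((fun l => D l (red ξ U.1 r)) + fun l => (-D) l (red ξ U.1 r)) = 0 from funext fun l => add_neg_cancel _,
    S.sum_zero, add_zero]

theorem Diff.eq_zero (h : Diff S θ₁ θ₂ D) (hD : D = 0) : θ₂ = θ₁ := ext' fun r => by
  subst hD
  rw [h r]
  exact (congrArg (θ₁.hom r + ·) (S.sum_zero ξ' U)).trans (add_zero _)

/-- Morphisms that agree modulo the ideal differ by derivations. -/
theorem exists_diff (h : ∀ r, θ₂.hom r - θ₁.hom r ∈ S.span.map (rB ξ' U.1)) :
    ∃ D, Diff S θ₁ θ₂ D := by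
  choose b hb using fun r => S.exists_eq_sum ξ' U (h r)
  have hwd : ∀ r r', red ξ U.1 r = red ξ U.1 r' → b r = b r' := by
    intro r r' e
    refine S.sum_injective ξ' U ?_
    rw [← hb, ← hb, ← sub_eq_zero, show θ₂.hom r - θ₁.hom r - (θ₂.hom r' - θ₁.hom r') =
      θ₂.hom (r - r') - θ₁.hom (r - r') by rw [map_sub, map_sub]; ring]
    have hd := (red_eq_zero_iff ξ U (r - r')).1 (by rw [map_sub, e, sub_self])
    clear e
    generalize r - r' = z at hd
    induction hd using Submodule.span_induction with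
    | mem z hz =>
      obtain ⟨c, -, rfl⟩ := hz
      rw [θ₁.hom_rB, θ₂.hom_rB, sub_self]
    | zero => rw [map_zero, map_zero, sub_zero]
    | add z w _ _ hz hw => rw [map_add, map_add, add_sub_add_comm, hz, hw, add_zero]
    | smul c z hzm hz =>
      rw [smul_eq_mul, map_mul, map_mul, sub_eq_zero.1 hz, ← sub_mul, hb, mul_comm, S.mul_sum, θ₁.red_hom,
        (red_eq_zero_iff ξ U z).2 hzm]
      simp only [zero_mul]
      exact S.sum_zero ξ' U
  choose s hs using red_surjective ξ U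
  refine ⟨fun l a => b (s a) l, fun r => ?_⟩
  rw [eq_comm, ← eq_sub_iff_add_eq', hb r]
  exact congrArg (S.sum ξ' U) (hwd _ _ (hs _))

/-- A morphism modified by derivations. -/
def addDer (θ : LocHom μ ξ ξ' U) (D : Fin S.n → Γ(X, U.1) → Γ(X, U.1)) (hD : ∀ l, IsDer x U.1 (D l)) :
    LocHom μ ξ ξ' U where
  hom :=
    { toFun := fun r => θ.hom r + S.sum ξ' U fun l => D l (red ξ U.1 r)
      map_one' := by
        have h1 : ∀ l, D l 1 = 0 := fun l => by rw [← map_one (cU x U.1), (hD l).base]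
        simp only [map_one, h1]
        exact (congrArg (1 + ·) (S.sum_zero ξ' U)).trans (add_zero _)
      map_mul' := fun r s => by
        rw [map_mul, map_mul, add_mul, mul_add, mul_add, S.mul_sum, mul_comm (S.sum ξ' U _) (θ.hom s),
          S.mul_sum, S.sum_mul_sum, add_zero, add_assoc, ← S.sum_add, θ.red_hom, θ.red_hom]
        refine congrArg (_ + S.sum ξ' U ·) (funext fun l => ?_)
        exact (hD l).mul _ _
      map_zero' := by
        have h1 : ∀ l, D l 0 = 0 := fun l => left_eq_add.1 (((congrArg (D l) (add_zero 0)).symm).trans ((hD l).add 0 0))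
        simp only [map_zero, h1]
        exact (congrArg (0 + ·) (S.sum_zero ξ' U)).trans (add_zero _)
      map_add' := fun r s => by
        rw [map_add, map_add, add_add_add_comm, ← S.sum_add]
        exact congrArg (_ + S.sum ξ' U ·) (funext fun l => (hD l).add _ _) }
  hom_rB a := by
    show θ.hom (rB ξ U.1 a) + _ = _
    rw [θ.hom_rB, red_rB]
    simp only [(hD _).base]
    exact (congrArg (_ + ·) (S.sum_zero ξ' U)).trans (add_zero _)
  red_hom r := by
    show red ξ' U.1 (θ.hom r + _) = _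
    rw [map_add, θ.red_hom, S.red_sum, add_zero]

theorem diff_addDer (θ : LocHom μ ξ ξ' U) (D : Fin S.n → Γ(X, U.1) → Γ(X, U.1)) (hD : ∀ l, IsDer x U.1 (D l)) :
    Diff S θ (θ.addDer D hD) D := fun _ => rfl

theorem Diff.restrict (hd : Diff S θ₁ θ₂ D) (h : U'.1 ≤ U.1) {D₀ : Fin S.n → Γ(X, U'.1) → Γ(X, U'.1)}
    (hder : ∀ l, IsDer x U'.1 (D₀ l)) (hD₀ : ∀ l a, D₀ l (ro h a) = ro h (D l a)) :
    Diff S (θ₁.restrict h) (θ₂.restrict h) D₀ := by
  have e : θ₂.restrict h = (θ₁.restrict h).addDer D₀ hder := by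
    refine restrict_unique (restricts_restrict θ₂ h) fun r => ?_
    rw [hd r, map_add, S.res_sum, restricts_restrict θ₁ h r, diff_addDer _ _ hder (res ξ h r), red_res]
    exact congrArg (_ + S.sum ξ' U' ·) (funext fun l => (hD₀ l _).symm)
  rw [e]
  exact diff_addDer _ _ hder

theorem Diff.ro_eq {θ₁' θ₂' : LocHom μ ξ ξ' U'} {D₀ : Fin S.n → Γ(X, U'.1) → Γ(X, U'.1)}
    (hd : Diff S θ₁ θ₂ D) (h : U'.1 ≤ U.1) (h₁ : θ₁.Restricts θ₁' h) (h₂ : θ₂.Restricts θ₂' h)
    (hd' : Diff S θ₁' θ₂' D₀) (l : Fin S.n) (a : Γ(X, U.1)) : D₀ l (ro h a) = ro h (D l a) := by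
  obtain ⟨r, rfl⟩ := red_surjective ξ U a
  have e := h₂ r
  rw [hd r, map_add, S.res_sum, h₁ r, hd' (res ξ h r), red_res] at e
  exact (congrFun (S.sum_injective ξ' U' (add_left_cancel e)) l).symm

end Diff

end LocHom

end Groth.L14.LocTriv
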